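import Mathlib.RingTheory.AdicCompletion.Basic

/-!
# Comparing an adic completion with an inverse limit
-/

set_option autoImplicit false
universe u v w

namespace Groth.Agent.CohqB.AdicLim

variable {R : Type u} [CommRing R] (I : Ideal R) {M : Type v} [AddCommGroup M] [Module R M]
  {H : ℕ → Type w} [∀ n, AddCommGroup (H n)]

/-- Iterated transition maps. -/
def trans (t : ∀ n, H (n + 1) →+ H n) : ∀ (n d : ℕ), H (n + d) →+ H n
  | _, 0 => AddMonoidHom.id _
  | n, d + 1 => (trans t n d).comp (t (n + d))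

/-- The inverse limit of `H`. -/
def lim (t : ∀ n, H (n + 1) →+ H n) : AddSubgroup (∀ n, H n) where
  carrier := {x | ∀ n, t n (x (n + 1)) = x n}
  zero_mem' := by intro n; simp
  add_mem' := by intro x y hx hy n; simp [hx n, hy n]
  neg_mem' := by intro x hx n; simp [hx n]

theorem trans_lim (t : ∀ n, H (n + 1) →+ H n) (x : ∀ n, H n) (hx : ∀ n, t n (x (n + 1)) = x n)
    (n d : ℕ) : trans t n d (x (n + d)) = x n := by
  induction d with
  | zero => rfl
  | succ d ih =>
    change trans t n d (t (n + d) (x (n + d + 1))) = x n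
    rw [hx, ih]

variable (f : ∀ n, M →+ H n) (t : ∀ n, H (n + 1) →+ H n)

theorem trans_f (hft : ∀ n x, t n (f (n + 1) x) = f n x) (n d : ℕ) (x : M) :
    trans t n d (f (n + d) x) = f n x := by
  exact trans_lim t (fun n => f n x) (fun n => hft n x) n d

variable {I f t}

/-- The induced map on `M / I^(n+1) M`. -/
def quotMap (hk : ∀ n, ∀ x ∈ (I ^ (n + 1) • (⊤ : Submodule R M)), f n x = 0) (n : ℕ) :
    (M ⧸ (I ^ (n + 1) • (⊤ : Submodule R M))) →+ H n :=
  QuotientAddGroup.lift (I ^ (n + 1) • (⊤ : Submodule R M)).toAddSubgroup (f n) (hk n)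

theorem quotMap_mk (hk : ∀ n, ∀ x ∈ (I ^ (n + 1) • (⊤ : Submodule R M)), f n x = 0) (n : ℕ)
    (x : M) : quotMap hk n (Submodule.Quotient.mk x) = f n x := rfl

theorem exists_lift (x : AdicCompletion I M) (n : ℕ) :
    ∃ y : M, ∀ m, m ≤ n → x.val m = Submodule.Quotient.mk y := by
  obtain ⟨y, hy⟩ := Submodule.Quotient.mk_surjective _ (x.val n)
  refine ⟨y, fun m hm => ?_⟩
  rw [← x.property hm, ← hy]
  rfl

/-- The comparison map. -/
def toLim (hft : ∀ n x, t n (f (n + 1) x) = f n x)
    (hk : ∀ n, ∀ x ∈ (I ^ (n + 1) • (⊤ : Submodule R M)), f n x = 0) :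
    AdicCompletion I M →+ lim t where
  toFun x := ⟨fun n => quotMap hk n (x.val (n + 1)), by
    intro n
    obtain ⟨y, hy⟩ := exists_lift x (n + 1 + 1)
    dsimp only
    rw [hy (n + 1 + 1) le_rfl, hy (n + 1) (Nat.le_succ _), quotMap_mk, quotMap_mk, hft]⟩
  map_zero' := by
    ext n
    exact map_zero _
  map_add' x y := by
    ext n
    exact map_add (quotMap hk n) _ _

theorem toLim_apply (hft : ∀ n x, t n (f (n + 1) x) = f n x)
    (hk : ∀ n, ∀ x ∈ (I ^ (n + 1) • (⊤ : Submodule R M)), f n x = 0) (x : AdicCompletion I M)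
    (n : ℕ) : (toLim hft hk x).1 n = quotMap hk n (x.val (n + 1)) := rfl

/-- Main comparison: bijectivity of `toLim`. -/
theorem toLim_bijective (hft : ∀ n x, t n (f (n + 1) x) = f n x)
    (hk : ∀ n, ∀ x ∈ (I ^ (n + 1) • (⊤ : Submodule R M)), f n x = 0)
    (c : ℕ) (hc : ∀ n, c ≤ n → ∀ x, f n x = 0 → x ∈ (I ^ (n - c) • (⊤ : Submodule R M)))
    (d : ℕ) (hd : ∀ n (y : H (n + d)), ∃ x, trans t n d y = f n x) :
    Function.Bijective (toLim hft hk) := by
  constructor
  · rw [injective_iff_map_eq_zero]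
    intro x hx
    ext m
    obtain ⟨y, hy⟩ := exists_lift x (m + c + 1)
    have h1 : (toLim hft hk x).1 (m + c) = 0 := by rw [hx]; rfl
    rw [toLim_apply, hy _ le_rfl, quotMap_mk] at h1
    have h2 := hc (m + c) (Nat.le_add_left _ _) y h1
    rw [Nat.add_sub_cancel] at h2
    rw [hy m (by omega)]
    exact (Submodule.Quotient.mk_eq_zero _).2 h2
  · rintro ⟨h, hh⟩
    have h1 : ∀ n, ∃ y, f n y = h n := by
      intro n
      obtain ⟨y, hy⟩ := hd n (h (n + d))
      exact ⟨y, by rw [← hy, trans_lim t h hh]⟩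
    choose y hy using h1
    have h2 : ∀ m, y (m + c) ≡ y (m + 1 + c) [SMOD (I ^ m • (⊤ : Submodule R M))] := by
      intro m
      rw [SModEq.sub_mem]
      have : f (m + c) (y (m + c) - y (m + 1 + c)) = 0 := by
        rw [map_sub, hy, sub_eq_zero]
        have e : m + 1 + c = m + c + 1 := by omega
        rw [e, ← hft, hy, hh]
      have := hc (m + c) (Nat.le_add_left _ _) _ this
      rwa [Nat.add_sub_cancel] at this
    refine ⟨AdicCompletion.mk I M (AdicCompletion.AdicCauchySequence.mk I M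
      (fun m => y (m + c)) h2), ?_⟩
    apply Subtype.ext
    funext n
    rw [toLim_apply]
    change f n (y (n + 1 + c)) = h n
    have e : n + 1 + c = n + (1 + c) := by omega
    rw [e, ← trans_f f t hft n (1 + c), hy, trans_lim t h hh]

end Groth.Agent.CohqB.AdicLim
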