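import Groth.Agent.CohqB.AlgFormal

/-!
# Systems of schemes over the thickenings `CohB1.thick f I n`
-/

set_option autoImplicit false
universe u

open CategoryTheory Limits AlgebraicGeometry Opposite TopologicalSpace

namespace Groth.Agent.CohqB.AlgThick2

open Groth.Agent.CohqB.AlgFormal

variable {A : Type u} [CommRing A] {X : Scheme.{u}} (f : X ⟶ Spec (CommRingCat.of A)) (I : Ideal A)

@[reassoc]
theorem thickTrans_ι (n : ℕ) : CohB1.thickTrans f I n ≫ CohB1.thickι f I (n + 1) =
    CohB1.thickι f I n :=
  (pullback.lift_fst _ _ _).trans (Category.comp_id _)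

@[reassoc]
theorem thickTrans_toBase (n : ℕ) : CohB1.thickTrans f I n ≫ CohB1.thickToBase f I (n + 1) =
    CohB1.thickToBase f I n ≫ CohB1.specQuotTrans I n :=
  pullback.lift_snd _ _ _

theorem isPullback_thick (n : ℕ) : IsPullback (CohB1.thickι f I n) (CohB1.thickToBase f I n) f
    (CohB1.specQuot I n) := IsPullback.of_hasPullback _ _

instance (n : ℕ) : IsClosedImmersion (CohB1.thickι f I n) :=
  inferInstanceAs (IsClosedImmersion (pullback.fst f (CohB1.specQuot I n)))

instance (n : ℕ) : Mono (CohB1.thickι f I n) := inferInstance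

theorem isPullback_thickTrans (n : ℕ) : IsPullback (CohB1.thickTrans f I n)
    (CohB1.thickToBase f I n) (CohB1.thickToBase f I (n + 1)) (CohB1.specQuotTrans I n) := by
  refine IsPullback.of_right (h₁₂ := CohB1.thickι f I (n + 1)) (h₂₂ := CohB1.specQuot I (n + 1))
    (v₁₃ := f) ?_ (thickTrans_toBase f I n) (isPullback_thick f I (n + 1))
  rw [thickTrans_ι, CohB1.specQuotTrans_specQuot]
  exact isPullback_thick f I n

/-- The system attached to a compatible system over the `thick f I n`. -/
@[reducible] noncomputable def sys [X.Over (Spec (CommRingCat.of A))]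
    (hf : (X ↘ Spec (CommRingCat.of A)) = f)
    (Z : ℕ → Scheme.{u}) (z : (n : ℕ) → (Z n ⟶ CohB1.thick f I n))
    (t : (n : ℕ) → (Z n ⟶ Z (n + 1)))
    (ht : ∀ n, IsPullback (t n) (z n) (z (n + 1)) (CohB1.thickTrans f I n)) : Sys X I where
  Y := Z
  h n := z n ≫ CohB1.thickι f I n
  b n := z n ≫ CohB1.thickToBase f I n
  t := t
  hb n := by rw [hf, Category.assoc, Category.assoc, (isPullback_thick f I n).w]
  ht n := by
    rw [← Category.assoc, (ht n).w, Category.assoc, thickTrans_ι]
  cart n := (ht n).paste_vert (isPullback_thickTrans f I n)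

end Groth.Agent.CohqB.AlgThick2
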