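import Groth.Agent.CohqB.AlgMod
import Groth.Agent.CohqB.DevSupport
import Groth.Agent.FormalA.ProperOver
import Groth.Agent.CohqA.AffPush
import Groth.Agent.CurvesB.UnitCoh

/-!
# The coherent formal module attached to a system of finite schemes over the thickenings
-/

set_option autoImplicit false
universe u

open CategoryTheory Limits AlgebraicGeometry Opposite TopologicalSpace

namespace Groth.Agent.CohqB.AlgFormal

open Groth.Agent.CohqB.QC2 Groth.Agent.CohqB.QC4 Groth.Agent.CohqB.QC5 Groth.Agent.CohqB.QC6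
open Groth.Agent.FormalB.ModPow Groth.Agent.CohqB.AlgThick Groth.Agent.CohqB.AlgMod
open Groth.Agent.CohqB.AlgSys

variable {A : Type u} [CommRing A] {X : Scheme.{u}} [X.Over (Spec (CommRingCat.of A))]

theorem isCoh_Oalg {Y : Scheme.{u}} (h : Y ⟶ X) [IsFinite h] : Coh.IsCoh (Oalg h) := by
  have h1 := CurvesB.UnitCoh.isCoh_structureModule Y
  exact ⟨CohqA.AffPush.isQCoh_push h _ h1.1, CohqA.AffPush.isFT_push h _ h1.1 h1.2⟩

theorem support_Oalg_subset {Y : Scheme.{u}} (h : Y ⟶ X) (hr : IsClosed (Set.range h)) :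
    CohB1.support (Oalg h) ⊆ Set.range h := by
  intro x hx
  by_contra hxr
  let U : X.Opens := ⟨(Set.range h)ᶜ, hr.isOpen_compl⟩
  refine DevSupport.not_mem_support_of_sections (Oalg h) U ?_ x hxr hx
  intro V hV
  have h1 : h ⁻¹ᵁ V = ⊥ := by
    ext y
    simp only [Opens.coe_bot, Set.mem_empty_iff_false, iff_false]
    intro hy
    exact hV hy ⟨y, rfl⟩
  change Subsingleton Γ(Y, h ⁻¹ᵁ V)
  rw [h1]
  infer_instance

variable (X) in
/-- A system of schemes over the thickenings of `X → Spec A`. -/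
structure Sys (I : Ideal A) where
  /-- the schemes -/
  Y : ℕ → Scheme.{u}
  /-- the maps to `X` -/
  h : ∀ n, Y n ⟶ X
  /-- the maps to the base -/
  b : ∀ n, Y n ⟶ Spec (CommRingCat.of (A ⧸ I ^ (n + 1)))
  /-- the transition maps -/
  t : ∀ n, Y n ⟶ Y (n + 1)
  hb : ∀ n, b n ≫ CohB1.specQuot I n = h n ≫ (X ↘ Spec (CommRingCat.of A))
  ht : ∀ n, t n ≫ h (n + 1) = h n
  cart : ∀ n, IsPullback (t n) (b n) (b (n + 1)) (CohB1.specQuotTrans I n)

instance (I : Ideal A) (n : ℕ) : IsClosedImmersion (CohB1.specQuot I n) :=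
  IsClosedImmersion.spec_of_surjective _ Ideal.Quotient.mk_surjective

namespace Sys

variable {I : Ideal A} (S : Sys X I)

theorem cart' (n : ℕ) : IsPullback (S.t n) (S.b n)
    (S.h (n + 1) ≫ (X ↘ Spec (CommRingCat.of A))) (CohB1.specQuot I n) := by
  have h1 : IsPullback (CohB1.specQuotTrans I n) (𝟙 _) (CohB1.specQuot I (n + 1))
      (CohB1.specQuot I n) :=
    IsPullback.of_vert_isIso_mono ⟨by simp⟩
  have h2 := (S.cart n).paste_vert h1
  rwa [Category.comp_id, S.hb] at h2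

theorem isClosedImmersion_t (n : ℕ) : IsClosedImmersion (S.t n) :=
  isClosedImmersion (J := I ^ (n + 1)) (S.cart' n)

/-- transition map of the system of algebras. -/
noncomputable abbrev tr (n : ℕ) : Oalg (S.h (n + 1)) ⟶ Oalg (S.h n) :=
  Omap (S.h n) (S.h (n + 1)) (S.t n) (S.ht n)

/-- The inverse system of algebras `(h_n)_* O_{Y_n}`. -/
noncomputable def G : ℕᵒᵖ ⥤ X.Modules := Functor.ofOpSequence (X := fun n => Oalg (S.h n)) S.tr

theorem G_map_succ (n : ℕ) : S.G.map (homOfLE (Nat.le_succ n)).op = S.tr n :=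
  Functor.ofOpSequence_map_homOfLE_succ _ n

theorem aff_h (n : ℕ) (U : X.Opens) (a : A) :
    (S.h n).app U (aff (X ↘ Spec (CommRingCat.of A)) U a) =
      aff (S.h n ≫ (X ↘ Spec (CommRingCat.of A))) (S.h n ⁻¹ᵁ U) a := by
  have h1 := aff_comp (X ↘ Spec (CommRingCat.of A)) (S.h n) U (S.h n ⁻¹ᵁ U) le_rfl a
  rw [← h1]
  have h2 : (S.h n).appLE U (S.h n ⁻¹ᵁ U) le_rfl = (S.h n).app U := (S.h n).appLE_eq_app
  exact congr($(h2.symm) (aff (X ↘ Spec (CommRingCat.of A)) U a))

theorem killed (n : ℕ) : Formal.KilledBy (I ^ (n + 1)) (Oalg (S.h n)) := by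
  intro a ha
  apply hom_ext_affine
  intro U hU m
  rw [smulMod_app']
  change toFun (S.h n) U (aff (X ↘ Spec (CommRingCat.of A)) U a • m) = 0
  rw [toFun_smul]
  have h1 := S.aff_h n U a
  have h2 := aff_eq_zero (J := I ^ (n + 1)) (S.b n) (S.h n ≫ (X ↘ Spec (CommRingCat.of A)))
    (S.hb n) (S.h n ⁻¹ᵁ U) ha
  rw [h2] at h1
  exact (congrArg (· * toFun (S.h n) U m) h1).trans (zero_mul _)

theorem mem_JM (n : ℕ) {J : Ideal A} {U : X.Opens} (s : Γ(Oalg (S.h n), U))
    (hs : toFun (S.h n) U s ∈ J.map (aff (S.h n ≫ (X ↘ Spec (CommRingCat.of A)))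
      (S.h n ⁻¹ᵁ U))) : s ∈ JM J (Oalg (S.h n)) U := by
  have key : ∀ r ∈ J.map (aff (S.h n ≫ (X ↘ Spec (CommRingCat.of A))) (S.h n ⁻¹ᵁ U)),
      ∀ c : Γ(S.Y n, S.h n ⁻¹ᵁ U), (toFun (S.h n) U).symm (r * c) ∈ JM J (Oalg (S.h n)) U := by
    intro r hr
    induction hr using Submodule.span_induction with
    | mem r hr =>
      obtain ⟨a, ha, rfl⟩ := hr
      intro c
      have h1 : (toFun (S.h n) U).symm (aff (S.h n ≫ (X ↘ Spec (CommRingCat.of A)))
          (S.h n ⁻¹ᵁ U) a * c) = aff (X ↘ Spec (CommRingCat.of A)) U a •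
            (toFun (S.h n) U).symm c := by
        apply (toFun (S.h n) U).injective
        rw [toFun_smul, AddEquiv.apply_symm_apply, AddEquiv.apply_symm_apply]
        exact congrArg (· * c) (S.aff_h n U a).symm
      rw [h1]
      exact smul_mem_JM ha _
    | zero => intro c; rw [zero_mul, map_zero]; exact zero_mem _
    | add r r' _ _ h h' => intro c; rw [add_mul, map_add]; exact add_mem (h c) (h' c)
    | smul c r _ h =>
      intro c'
      have : c • r * c' = r * (c * c') := by rw [smul_eq_mul]; ring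
      rw [this]
      exact h _
  have := key _ hs 1
  rwa [mul_one, AddEquiv.symm_apply_apply] at this

theorem preimage_eq (n : ℕ) (U : X.Opens) : S.h n ⁻¹ᵁ U = S.t n ⁻¹ᵁ (S.h (n + 1) ⁻¹ᵁ U) := by
  rw [← Scheme.Hom.comp_preimage, S.ht]

theorem appLE_surjective_of_eq {Y Y' : Scheme.{u}} (t : Y ⟶ Y') {V : Y'.Opens} {W : Y.Opens}
    (e : W ≤ t ⁻¹ᵁ V) (he : W = t ⁻¹ᵁ V) (h : Function.Surjective (t.app V).hom) :
    Function.Surjective (t.appLE V W e).hom := by
  subst he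
  rwa [Scheme.Hom.appLE_eq_app]

theorem ker_appLE_of_eq {Y Y' : Scheme.{u}} (t : Y ⟶ Y') {V : Y'.Opens} {W : Y.Opens}
    (e : W ≤ t ⁻¹ᵁ V) (he : W = t ⁻¹ᵁ V) :
    RingHom.ker (t.appLE V W e).hom = RingHom.ker (t.app V).hom := by
  subst he
  rw [Scheme.Hom.appLE_eq_app]

variable [∀ n, IsAffineHom (S.h n)]

theorem isModPow_tr (n : ℕ) : IsModPow (I ^ (n + 1)) (S.tr n) := by
  have hV : ∀ U : X.Opens, IsAffineOpen U → IsAffineOpen (S.h (n + 1) ⁻¹ᵁ U) :=
    fun U hU => hU.preimage _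
  apply isModPow_of_sections
  · intro U hU s
    obtain ⟨r, hr⟩ := appLE_surjective_of_eq (S.t n) (le_preimage _ _ _ (S.ht n) U)
      (S.preimage_eq n U) (app_surjective (J := I ^ (n + 1)) (S.cart' n) (hV U hU))
      (toFun (S.h n) U s)
    exact ⟨(toFun (S.h (n + 1)) U).symm r, hr⟩
  · intro U hU m hm
    apply S.mem_JM
    rw [← ker_app (J := I ^ (n + 1)) (S.cart' n) (hV U hU),
      ← ker_appLE_of_eq (S.t n) (le_preimage _ _ _ (S.ht n) U) (S.preimage_eq n U)]
    exact hm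
  · intro U hU a ha m
    rw [Scheme.Modules.Hom.app_smul]
    have := congr($(S.killed n a ha).app U ((S.tr n).app U m))
    exact this

theorem isFormal : IsFormal I S.G where
  killed n := S.killed n
  succ n := by
    rw [G_map_succ]
    exact S.isModPow_tr n

omit [∀ n, IsAffineHom (S.h n)] in
theorem isCohFormal [∀ n, IsFinite (S.h n)] : Formal.IsCohFormal I S.G := by
  rw [isCohFormal_iff]
  exact ⟨fun n => isCoh_Oalg (S.h n), S.isFormal⟩

end Sys

end Groth.Agent.CohqB.AlgFormal
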