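import Groth.Agent.FormalB.ModPow

/-!
# Generation of formal systems from generation of the first term
-/

set_option autoImplicit false
universe u

open CategoryTheory Limits AlgebraicGeometry Opposite TopologicalSpace

namespace Groth.Agent.CohqB.AlgGen

open Groth.Agent.FormalB.ModPow

variable {A : Type u} [CommRing A] {X : Scheme.{u}} [X.Over (Spec (CommRingCat.of A))]

/-- If `C / J C = 0` then `C / J^k C = 0` (in the form of the universal property). -/
theorem eq_zero_of_pow {J : Ideal A} {C : X.Modules}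
    (h : ∀ {Z : X.Modules} (φ : C ⟶ Z), (∀ a ∈ J, Formal.smulMod A C a ≫ φ = 0) → φ = 0) (k : ℕ) :
    ∀ {Z : X.Modules} (φ : C ⟶ Z), (∀ a ∈ J ^ k, Formal.smulMod A C a ≫ φ = 0) → φ = 0 := by
  induction k with
  | zero =>
    intro Z φ hφ
    have := hφ 1 (by simp)
    rwa [smulMod_one, Category.id_comp] at this
  | succ k ih =>
    intro Z φ hφ
    apply h
    intro a ha
    apply ih
    intro b hb
    rw [← Category.assoc, ← smulMod_mul, mul_comm a b]
    exact hφ (b * a) (by rw [pow_succ]; exact Ideal.mul_mem_mul hb ha)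

/-- Nakayama for a nilpotent ideal. -/
theorem epi_of_epi_quot {J : Ideal A} {M N P : X.Modules} (φ : M ⟶ N) (q : N ⟶ P)
    (hq : IsModPow J q) (k : ℕ) (hk : Formal.KilledBy (J ^ k) N) [Epi (φ ≫ q)] : Epi φ := by
  have h0 : ∀ {Z : X.Modules} (ψ : cokernel φ ⟶ Z),
      (∀ a ∈ J, Formal.smulMod A (cokernel φ) a ≫ ψ = 0) → ψ = 0 := by
    intro Z ψ hψ
    obtain ⟨g, hg⟩ := hq.desc (cokernel.π φ ≫ ψ) (by
      intro a ha
      rw [smulMod_naturality_assoc, hψ a ha, comp_zero])
    have hg0 : g = 0 := by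
      rw [← cancel_epi (φ ≫ q), Category.assoc, hg, cokernel.condition_assoc, zero_comp, comp_zero]
    rw [← cancel_epi (cokernel.π φ), ← hg, hg0, comp_zero, comp_zero]
  have h1 : 𝟙 (cokernel φ) = 0 := by
    apply eq_zero_of_pow h0 k
    intro a ha
    rw [Category.comp_id]
    exact killedBy_of_epi (cokernel.π φ) hk a ha
  exact Abelian.epi_of_cokernel_π_eq_zero φ ((IsZero.iff_id_eq_zero _).2 h1 |>.eq_of_tgt _ _)

/-- A compatible family of maps to the terms of a formal system, epi at the first stage, is epi at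
all stages. -/
theorem epi_of_epi_zero {I : Ideal A} {G : ℕᵒᵖ ⥤ X.Modules} (hG : IsFormal I G) {E : X.Modules}
    (π : ∀ n : ℕ, E ⟶ G.obj (op n))
    (hπ : ∀ n, π (n + 1) ≫ G.map (homOfLE (Nat.le_succ n)).op = π n) [h0 : Epi (π 0)] (n : ℕ) :
    Epi (π n) := by
  have h1 := compat_of_succ π hπ (Nat.zero_le n)
  have h2 : Epi (π n ≫ G.map (homOfLE (Nat.zero_le n)).op) := by rw [h1]; exact h0
  have h3 := hG.isModPow (Nat.zero_le n)
  rw [zero_add, pow_one] at h3
  exact epi_of_epi_quot (π n) _ h3 (n + 1) (hG.killed n)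

/-- Extension of a map to the first term to a compatible family, from lifting step by step. -/
theorem exists_family {G : ℕᵒᵖ ⥤ X.Modules} {E : X.Modules}
    (hlift : ∀ (n : ℕ) (f : E ⟶ G.obj (op n)), ∃ g : E ⟶ G.obj (op (n + 1)),
      g ≫ G.map (homOfLE (Nat.le_succ n)).op = f) (f : E ⟶ G.obj (op 0)) :
    ∃ π : ∀ n : ℕ, E ⟶ G.obj (op n), π 0 = f ∧
      ∀ n, π (n + 1) ≫ G.map (homOfLE (Nat.le_succ n)).op = π n := by
  choose L hL using hlift
  exact ⟨fun n => Nat.rec f (fun n g => L n g) n, rfl, fun n => hL n _⟩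

/-- Generation of a formal system by a module `E` with the lifting property. -/
theorem exists_completion_epi {I : Ideal A} {G : ℕᵒᵖ ⥤ X.Modules} (hG : IsFormal I G)
    {E : X.Modules}
    (hlift : ∀ (n : ℕ) (f : E ⟶ G.obj (op n)), ∃ g : E ⟶ G.obj (op (n + 1)),
      g ≫ G.map (homOfLE (Nat.le_succ n)).op = f) (f : E ⟶ G.obj (op 0)) [Epi f] :
    ∃ π : Formal.completion I E ⟶ G, (∀ n : ℕ, Epi (π.app (op n))) ∧ cπ I E 0 ≫ π.app (op 0) = f := by
  obtain ⟨π, h0, hπ⟩ := exists_family hlift f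
  have hk : ∀ n, ∀ a ∈ I ^ (n + 1), Formal.smulMod A E a ≫ π n = 0 := by
    intro n a ha
    rw [smulMod_naturality, hG.killed n a ha, comp_zero]
  have h0' : Epi (π 0) := by rw [h0]; infer_instance
  refine ⟨completionDesc I π hk hπ, fun n => ?_, ?_⟩
  · have h1 : Epi (π n) := epi_of_epi_zero hG π hπ n
    rw [← cπ_completionDesc I π hk hπ n] at h1
    exact epi_of_epi (cπ I E n) _
  · rw [cπ_completionDesc, h0]

end Groth.Agent.CohqB.AlgGen
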