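import Mathlib.RingTheory.Filtration
import Mathlib.RingTheory.Nakayama
import Mathlib.RingTheory.TensorProduct.Quotient
import Mathlib.LinearAlgebra.TensorProduct.RightExactness
import Mathlib.AlgebraicGeometry.ZariskisMainTheorem
import Groth.Prelude.Def_CohB1

/-!
A proper morphism over an adic base which is an isomorphism on all thickenings is an isomorphism.
-/

set_option autoImplicit false
universe u

open CategoryTheory Limits AlgebraicGeometry TopologicalSpace Opposite TensorProduct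

namespace Groth.Agent.CohqB.AlgIso

section Algebra

variable {B C : Type u} [CommRing B] [CommRing C] [Algebra B C]

theorem ker_le_of_injective (J : Ideal B) (n : ℕ)
    (h : Function.Injective (Algebra.TensorProduct.includeRight : B ⧸ J ^ (n + 1) →ₐ[B] C ⊗[B] (B ⧸ J ^ (n + 1))))
    (b : B) (hb : algebraMap B C b = 0) : b ∈ J ^ (n + 1) := by
  rw [← Ideal.Quotient.eq_zero_iff_mem]
  apply h
  rw [map_zero]
  have : (Ideal.Quotient.mk (J ^ (n + 1)) b) = b • (1 : B ⧸ J ^ (n + 1)) := by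
    rw [Algebra.smul_def, mul_one]; rfl
  rw [this, map_smul, map_one, Algebra.smul_def, Algebra.TensorProduct.algebraMap_apply, hb,
    TensorProduct.zero_tmul, zero_mul]

theorem sub_mem_of_surjective (J : Ideal B) (n : ℕ)
    (h : Function.Surjective (Algebra.TensorProduct.includeRight : B ⧸ J ^ (n + 1) →ₐ[B] C ⊗[B] (B ⧸ J ^ (n + 1))))
    (c : C) : ∃ b : B, c - algebraMap B C b ∈ (J ^ (n + 1)) • (⊤ : Submodule B C) := by
  obtain ⟨b', hb'⟩ := h (c ⊗ₜ 1)
  obtain ⟨b, rfl⟩ := Ideal.Quotient.mk_surjective b'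
  refine ⟨b, ?_⟩
  have h1 : (Algebra.TensorProduct.includeRight (Ideal.Quotient.mk (J ^ (n + 1)) b) :
      C ⊗[B] (B ⧸ J ^ (n + 1))) = algebraMap B C b ⊗ₜ 1 := by
    have : (Ideal.Quotient.mk (J ^ (n + 1)) b) = b • (1 : B ⧸ J ^ (n + 1)) := by
      rw [Algebra.smul_def, mul_one]; rfl
    rw [this, map_smul, map_one, Algebra.smul_def, Algebra.TensorProduct.algebraMap_apply, mul_one]
  rw [h1] at hb'
  have h2 : (c - algebraMap B C b) ⊗ₜ[B] (1 : B ⧸ J ^ (n + 1)) = 0 := by
    rw [TensorProduct.sub_tmul, hb', sub_self]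
  have h3 := congrArg (TensorProduct.tensorQuotEquivQuotSMul C (J ^ (n + 1))) h2
  rw [map_zero, ← map_one (Ideal.Quotient.mk (J ^ (n + 1))),
    TensorProduct.tensorQuotEquivQuotSMul_tmul_mk, one_smul] at h3
  exact (Submodule.Quotient.mk_eq_zero _).mp h3

/-- If `B / J^(n+1) → C ⊗ B / J^(n+1)` is bijective for all `n`, with `B` Noetherian and `C` finite
over `B`, then `B → C` becomes bijective after inverting some element of `1 + J`. -/
theorem exists_sub_one_mem [IsNoetherianRing B] [Module.Finite B C] (J : Ideal B)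
    (h : ∀ n, Function.Bijective (Algebra.TensorProduct.includeRight :
      B ⧸ J ^ (n + 1) →ₐ[B] C ⊗[B] (B ⧸ J ^ (n + 1)))) :
    ∃ s : B, s - 1 ∈ J ∧ (∀ b : B, algebraMap B C b = 0 → s * b = 0) ∧
      (∀ c : C, ∃ b : B, algebraMap B C b = s • c) := by
  -- kernel
  let K : Ideal B := RingHom.ker (algebraMap B C)
  have hK : K ≤ J • K := by
    intro b hb
    have h1 : b ∈ (⨅ i : ℕ, J ^ i • ⊤ : Submodule B B) := by
      rw [Submodule.mem_iInf]
      intro i
      rw [smul_eq_mul, Ideal.mul_top]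
      exact Ideal.pow_le_pow_right (Nat.le_succ i) (ker_le_of_injective J i (h i).1 b hb)
    rw [Ideal.mem_iInf_smul_pow_eq_bot_iff] at h1
    obtain ⟨r, hr⟩ := h1
    rw [← hr]
    exact Submodule.smul_mem_smul r.2 hb
  obtain ⟨r, hr, hr'⟩ := Submodule.exists_sub_one_mem_and_smul_eq_zero_of_fg_of_le_smul J K
    (IsNoetherian.noetherian K) hK
  -- cokernel
  let N : Submodule B C := LinearMap.range (Algebra.linearMap B C)
  have hM : (⊤ : Submodule B (C ⧸ N)) ≤ J • ⊤ := by
    rintro m -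
    obtain ⟨c, rfl⟩ := Submodule.Quotient.mk_surjective _ m
    obtain ⟨b, hb⟩ := sub_mem_of_surjective J 0 (h 0).2 c
    rw [zero_add, pow_one] at hb
    have : (Submodule.Quotient.mk c : C ⧸ N) = N.mkQ (c - algebraMap B C b) := by
      rw [map_sub]
      have : N.mkQ (algebraMap B C b) = 0 := by
        rw [Submodule.mkQ_apply, Submodule.Quotient.mk_eq_zero]
        exact ⟨b, rfl⟩
      rw [this, sub_zero]; rfl
    rw [this]
    have h2 := Submodule.mem_map_of_mem (f := N.mkQ) hb
    rw [Submodule.map_smul''] at h2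
    exact (Submodule.smul_mono le_rfl le_top) h2
  obtain ⟨r', hr1, hr2⟩ := Submodule.exists_sub_one_mem_and_smul_eq_zero_of_fg_of_le_smul J
    (⊤ : Submodule B (C ⧸ N)) (Module.Finite.fg_top) hM
  refine ⟨r * r', ?_, ?_, ?_⟩
  · have : r * r' - 1 = (r - 1) * r' + (r' - 1) := by ring
    rw [this]
    exact add_mem (Ideal.mul_mem_right _ _ hr) hr1
  · intro b hb
    have := hr' b hb
    rw [smul_eq_mul] at this
    rw [mul_comm r r', mul_assoc, this, mul_zero]
  · intro c
    have := hr2 (Submodule.Quotient.mk c) trivial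
    rw [← Submodule.Quotient.mk_smul, Submodule.Quotient.mk_eq_zero] at this
    obtain ⟨b, hb⟩ := this
    refine ⟨r * b, ?_⟩
    rw [map_mul, mul_smul, ← hb, Algebra.smul_def]
    rfl

/-- The corresponding statement on localizations. -/
theorem bijective_of_away {B' C' : Type*} [CommRing B'] [CommRing C'] [Algebra B B'] [Algebra C C']
    (s : B) [IsLocalization.Away s B'] [IsLocalization.Away (algebraMap B C s) C']
    (φ : B' →+* C') (hφ : φ.comp (algebraMap B B') = (algebraMap C C').comp (algebraMap B C))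
    (hker : ∀ b : B, algebraMap B C b = 0 → s * b = 0)
    (hcoker : ∀ c : C, ∃ b : B, algebraMap B C b = s • c) : Function.Bijective φ := by
  have hφ' : ∀ b, φ (algebraMap B B' b) = algebraMap C C' (algebraMap B C b) := fun b ↦
    congr($hφ b)
  constructor
  · rw [injective_iff_map_eq_zero]
    intro x hx
    obtain ⟨n, b, hb⟩ := IsLocalization.Away.surj s x
    have h1 : algebraMap C C' (algebraMap B C b) = 0 := by
      rw [← hφ', ← hb, map_mul, hx, zero_mul]
    obtain ⟨⟨_, m, rfl⟩, hm⟩ := (IsLocalization.map_eq_zero_iff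
      (Submonoid.powers (algebraMap B C s)) C' _).mp h1
    have h2 : s * (s ^ m * b) = 0 := hker _ (by rw [map_mul, map_pow]; exact hm)
    have h3 : algebraMap B B' (s ^ (m + 1) * b) = 0 := by
      rw [pow_succ', mul_assoc, h2, map_zero]
    rw [map_mul, map_pow, ← hb, mul_comm x] at h3
    have hu : IsUnit (algebraMap B B' s) := IsLocalization.Away.algebraMap_isUnit s
    rwa [(hu.pow _).mul_right_eq_zero, (hu.pow _).mul_right_eq_zero] at h3
  · intro y
    obtain ⟨n, c, hc⟩ := IsLocalization.Away.surj (algebraMap B C s) y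
    obtain ⟨b, hb⟩ := hcoker c
    have hu : IsUnit (algebraMap B B' s) := IsLocalization.Away.algebraMap_isUnit s
    have h1 : φ (algebraMap B B' b) = φ (algebraMap B B' s) ^ (n + 1) * y := by
      rw [hφ', hb, Algebra.smul_def, map_mul, ← hc, hφ']
      ring
    obtain ⟨v, hv⟩ := (hu.pow (n + 1)).exists_right_inv
    refine ⟨v * algebraMap B B' b, ?_⟩
    rw [map_mul, h1, ← map_pow, ← mul_assoc, ← map_mul, mul_comm v, hv, map_one, one_mul]

end Algebra

section Geometry

variable {A : Type u} [CommRing A]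

/-- If the base change of `g` along `i` is an isomorphism then so is the base change along any
`k = k' ≫ i`. -/
theorem isIso_snd_of_factor {W X Y T : Scheme.{u}} (g : W ⟶ X) (i : Y ⟶ X) (k' : T ⟶ Y)
    (h : IsIso (pullback.snd g i)) : IsIso (pullback.snd g (k' ≫ i)) := by
  let m : pullback g (k' ≫ i) ⟶ pullback g i :=
    pullback.lift (pullback.fst _ _) (pullback.snd _ _ ≫ k') (by simp [pullback.condition])
  have hP : IsPullback m (pullback.snd g (k' ≫ i)) (pullback.snd g i) k' := by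
    refine IsPullback.of_right (h₁₂ := pullback.fst g i) (v₁₃ := g) (h₂₂ := i) ?_ ?_
      (IsPullback.of_hasPullback g i)
    · have : m ≫ pullback.fst g i = pullback.fst g (k' ≫ i) := pullback.lift_fst _ _ _
      rw [this]
      exact IsPullback.of_hasPullback g (k' ≫ i)
    · exact pullback.lift_snd _ _ _
  exact MorphismProperty.of_isPullback (P := MorphismProperty.isomorphisms Scheme.{u}) hP h

theorem bijective_includeRight_of_isIso (B C T : Type u) [CommRing B] [CommRing C] [CommRing T]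
    [Algebra B C] [Algebra B T]
    (h : IsIso (pullback.snd (Spec.map (CommRingCat.ofHom (algebraMap B C)))
      (Spec.map (CommRingCat.ofHom (algebraMap B T))))) :
    Function.Bijective (Algebra.TensorProduct.includeRight : T →ₐ[B] C ⊗[B] T) := by
  have h1 := pullbackSpecIso_inv_snd B C T
  have h2 : IsIso (Spec.map (CommRingCat.ofHom
      (Algebra.TensorProduct.includeRight : T →ₐ[B] C ⊗[B] T).toRingHom)) := by
    erw [← h1]
    infer_instance
  rw [isIso_SpecMap_iff] at h2
  exact h2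

theorem eq_toSpecΓ_comp {X : Scheme.{u}} (f : X ⟶ Spec (CommRingCat.of A)) :
    f = X.toSpecΓ ≫ Spec.map ((Scheme.ΓSpecIso (CommRingCat.of A)).inv ≫ f.appTop) := by
  rw [Spec.map_comp, ← Scheme.toSpecΓ_naturality_assoc, toSpecΓ_SpecMap_ΓSpecIso_inv,
    Category.comp_id]

/-- The map `A → Γ(X, ⊤)` of an `A`-scheme. -/
noncomputable abbrev toΓ {X : Scheme.{u}} (f : X ⟶ Spec (CommRingCat.of A)) : A →+* Γ(X, ⊤) :=
  f.appTop.hom.comp (Scheme.ΓSpecIso (CommRingCat.of A)).inv.hom

theorem thickι_appTop_eq_zero (I : Ideal A) {X : Scheme.{u}} (f : X ⟶ Spec (CommRingCat.of A)) (n : ℕ)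
    (a : A) (ha : a ∈ I ^ (n + 1)) : (CohB1.thickι f I n).appTop (toΓ f a) = 0 := by
  have h1 : CohB1.thickι f I n ≫ f = CohB1.thickToBase f I n ≫ CohB1.specQuot I n :=
    pullback.condition
  have h2 := congrArg (fun φ ↦ φ.appTop) h1
  simp only [Scheme.Hom.comp_appTop] at h2
  have h3 := ConcreteCategory.congr_hom h2 ((Scheme.ΓSpecIso (CommRingCat.of A)).inv a)
  refine h3.trans ?_
  have h4 := ConcreteCategory.congr_hom (Scheme.ΓSpecIso_inv_naturality
    (CommRingCat.ofHom (Ideal.Quotient.mk (I ^ (n + 1))))) a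
  have h5 : (CohB1.specQuot I n).appTop ((Scheme.ΓSpecIso (CommRingCat.of A)).inv a) = 0 := by
    refine h4.symm.trans ?_
    change (Scheme.ΓSpecIso (CommRingCat.of (A ⧸ I ^ (n + 1)))).inv
      (Ideal.Quotient.mk (I ^ (n + 1)) a) = 0
    rw [Ideal.Quotient.eq_zero_iff_mem.mpr ha, map_zero]
  change (CohB1.thickToBase f I n).appTop ((CohB1.specQuot I n).appTop
    ((Scheme.ΓSpecIso (CommRingCat.of A)).inv a)) = 0
  rw [h5, map_zero]

/-- Affine target case. -/
theorem exists_isIso_restrict_of_isAffine (I : Ideal A) {W X : Scheme.{u}} (g : W ⟶ X)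
    (f : X ⟶ Spec (CommRingCat.of A)) [IsAffine X] [IsNoetherianRing Γ(X, ⊤)] [IsFinite g]
    (H : ∀ n, IsIso (pullback.snd g (CohB1.thickι f I n))) (x : X)
    (hx : x ∈ Set.range (CohB1.thickι f I 0)) :
    ∃ V : X.Opens, x ∈ V ∧ IsIso (g ∣_ V) := by
  have hW : IsAffine W := isAffine_of_isAffineHom g
  let B := Γ(X, ⊤)
  let C := Γ(W, ⊤)
  let φ : Γ(X, ⊤) →+* Γ(W, ⊤) := g.appTop.hom
  let _ : Algebra Γ(X, ⊤) Γ(W, ⊤) := g.appTop.hom.toAlgebra
  have hfin : Module.Finite Γ(X, ⊤) Γ(W, ⊤) := g.finite_appTop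
  let ψ : A →+* Γ(X, ⊤) := f.appTop.hom.comp (Scheme.ΓSpecIso (CommRingCat.of A)).inv.hom
  let J : Ideal Γ(X, ⊤) := I.map ψ
  have key : ∀ n, Function.Bijective (Algebra.TensorProduct.includeRight :
      Γ(X, ⊤) ⧸ J ^ (n + 1) →ₐ[Γ(X, ⊤)] Γ(W, ⊤) ⊗[Γ(X, ⊤)] (Γ(X, ⊤) ⧸ J ^ (n + 1))) := by
    intro n
    apply bijective_includeRight_of_isIso
    let q : Spec (CommRingCat.of (Γ(X, ⊤) ⧸ J ^ (n + 1))) ⟶ Spec Γ(X, ⊤) :=
      Spec.map (CommRingCat.ofHom (Ideal.Quotient.mk (J ^ (n + 1))))
    let k : Spec (CommRingCat.of (Γ(X, ⊤) ⧸ J ^ (n + 1))) ⟶ X := q ≫ X.isoSpec.inv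
    have hle : I ^ (n + 1) ≤ (J ^ (n + 1)).comap ψ := by
      rw [← Ideal.map_le_iff_le_comap, Ideal.map_pow]
    have hk : k ≫ f = Spec.map (CommRingCat.ofHom (Ideal.quotientMap (J ^ (n + 1)) ψ hle)) ≫
        CohB1.specQuot I n := by
      conv_lhs => rw [eq_toSpecΓ_comp f]
      simp only [k, q, CohB1.specQuot, Category.assoc]
      rw [← Scheme.isoSpec_hom, Iso.inv_hom_id_assoc, ← Spec.map_comp, ← Spec.map_comp]
      congr 1
    let k' : Spec (CommRingCat.of (Γ(X, ⊤) ⧸ J ^ (n + 1))) ⟶ CohB1.thick f I n :=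
      pullback.lift k _ hk
    have hk' : k' ≫ CohB1.thickι f I n = k := pullback.lift_fst _ _ _
    have h1 : IsIso (pullback.snd g k) := by
      rw [← hk']
      exact isIso_snd_of_factor g _ k' (H n)
    have h2 : IsPullback (pullback.fst g k ≫ W.isoSpec.hom) (pullback.snd g k)
        (Spec.map g.appTop) q := by
      refine IsPullback.of_iso (IsPullback.of_hasPullback g k) (Iso.refl _) W.isoSpec
        (Iso.refl _) X.isoSpec ?_ ?_ ?_ ?_
      · simp
      · simp
      · exact (Scheme.isoSpec_hom_naturality g).symm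
      · simp [k]
    have h3 := h2.isoPullback_inv_snd
    have h4 : IsIso (pullback.snd (Spec.map g.appTop) q) := by
      rw [← h3]; infer_instance
    exact h4
  obtain ⟨s, hs, hker, hcoker⟩ := exists_sub_one_mem J key
  refine ⟨X.basicOpen s, ?_, ?_⟩
  · obtain ⟨y, rfl⟩ := hx
    have hJ : J ≤ RingHom.ker (CohB1.thickι f I 0).appTop.hom := by
      rw [Ideal.map_le_iff_le_comap]
      intro a ha
      exact thickι_appTop_eq_zero I f 0 a (by simpa using ha)
    have h1 : (CohB1.thickι f I 0).appTop s = 1 := by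
      have := hJ hs
      rw [RingHom.mem_ker, map_sub, map_one, sub_eq_zero] at this
      exact this
    change y ∈ (CohB1.thickι f I 0) ⁻¹ᵁ (X.basicOpen s)
    rw [Scheme.preimage_basicOpen_top, h1, Scheme.basicOpen_of_isUnit _ isUnit_one]
    trivial
  · rw [isIso_morphismRestrict_iff_isIso_app g ((isAffineOpen_top X).basicOpen s)]
    rw [ConcreteCategory.isIso_iff_bijective]
    have e1 := (isAffineOpen_top X).isLocalization_of_eq_basicOpen s
      (V := X.basicOpen s) (homOfLE le_top) rfl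
    have e2 := (isAffineOpen_top W).isLocalization_of_eq_basicOpen (g.appTop s)
      (V := g ⁻¹ᵁ X.basicOpen s) (homOfLE le_top) (by rw [Scheme.preimage_basicOpen]; rfl)
    let _ := (X.presheaf.map (homOfLE (le_top : X.basicOpen s ≤ ⊤)).op).hom.toAlgebra
    let _ := (W.presheaf.map (homOfLE (le_top : g ⁻¹ᵁ X.basicOpen s ≤ ⊤)).op).hom.toAlgebra
    refine bijective_of_away (B := Γ(X, ⊤)) (C := Γ(W, ⊤)) s (g.app (X.basicOpen s)).hom ?_ hker hcoker
    exact congrArg CommRingCat.Hom.hom (g.naturality (homOfLE le_top).op)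

theorem mem_range_thickι {X : Scheme.{u}} (f : X ⟶ Spec (CommRingCat.of A)) (I : Ideal A) (n : ℕ)
    (x : X) : x ∈ Set.range (CohB1.thickι f I n) ↔ f x ∈ Set.range (CohB1.specQuot I n) := by
  have h : Set.range (pullback.fst f (CohB1.specQuot I n)) = f ⁻¹' Set.range (CohB1.specQuot I n) :=
    Scheme.Pullback.range_fst f (CohB1.specQuot I n)
  exact Set.ext_iff.mp h x

theorem mem_range_specQuot (I : Ideal A) (n : ℕ) (y : Spec (CommRingCat.of A)) :
    y ∈ Set.range (CohB1.specQuot I n) ↔ I ≤ y.asIdeal := by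
  have h : Set.range (CohB1.specQuot I n) = PrimeSpectrum.zeroLocus (I : Set A) := by
    have := range_comap_of_surjective _ (Ideal.Quotient.mk (I ^ (n + 1)))
      Ideal.Quotient.mk_surjective
    rw [Ideal.mk_ker, PrimeSpectrum.zeroLocus_pow _ (Nat.succ_ne_zero n)] at this
    exact this
  rw [h]
  rfl

theorem isIso_restrict_of_le {W X : Scheme.{u}} (g : W ⟶ X) (U : X.Opens) {T : Scheme.{u}}
    (t : T ⟶ U) (h : IsIso (pullback.snd g (t ≫ U.ι))) : IsIso (pullback.snd (g ∣_ U) t) := by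
  have h1 : IsPullback (pullback.fst (g ∣_ U) t ≫ (g ⁻¹ᵁ U).ι) (pullback.snd (g ∣_ U) t)
      g (t ≫ U.ι) :=
    (IsPullback.of_hasPullback (g ∣_ U) t).paste_horiz (isPullback_morphismRestrict g U).flip
  rw [← h1.isoPullback_hom_snd]
  infer_instance

/-- Local form: at points over `V(I)`. -/
theorem exists_isIso_restrict (I : Ideal A) {W X : Scheme.{u}} (g : W ⟶ X)
    (f : X ⟶ Spec (CommRingCat.of A)) [IsLocallyNoetherian X] [IsProper g]
    (H : ∀ n, IsIso (pullback.snd g (CohB1.thickι f I n))) (x : X)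
    (hx : x ∈ Set.range (CohB1.thickι f I 0)) :
    ∃ V : X.Opens, x ∈ V ∧ IsIso (g ∣_ V) := by
  have hfib : (g ⁻¹' {x}).Finite := by
    obtain ⟨x0, rfl⟩ := hx
    apply Set.Subsingleton.finite
    intro w1 h1 w2 h2
    obtain ⟨z1, hz1, hz1'⟩ := Scheme.Pullback.exists_preimage_pullback w1 x0 h1
    obtain ⟨z2, hz2, hz2'⟩ := Scheme.Pullback.exists_preimage_pullback w2 x0 h2
    have := H 0
    have hinj : Function.Injective (pullback.snd g (CohB1.thickι f I 0)) :=
      (pullback.snd g (CohB1.thickι f I 0)).isOpenEmbedding.injective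
    have : z1 = z2 := hinj (hz1'.trans hz2'.symm)
    rw [← hz1, ← hz2, this]
  obtain ⟨V0, hxV0, hV0⟩ := exists_isFinite_morphismRestrict_of_finite_preimage_singleton g x hfib
  obtain ⟨V1, hV1, hxV1, -⟩ := exists_isAffineOpen_mem_and_subset (X := (V0 : Scheme.{u}))
    (x := ⟨x, hxV0⟩) (U := ⊤) trivial
  let V : X.Opens := V0.ι ''ᵁ V1
  have hxV : x ∈ V := ⟨⟨x, hxV0⟩, hxV1, rfl⟩
  have hV : IsAffineOpen V := hV1.image_of_isOpenImmersion V0.ι
  have hfin : IsFinite (g ∣_ V) := by
    have h1 : IsFinite ((g ∣_ V0) ∣_ V1) := inferInstance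
    exact (MorphismProperty.arrow_mk_iso_iff @IsFinite (morphismRestrictRestrict g V0 V1)).mp h1
  have hVa : IsAffine V := hV
  have hN : IsNoetherianRing Γ((V : Scheme.{u}), ⊤) :=
    IsLocallyNoetherian.component_noetherian ⟨⊤, isAffineOpen_top _⟩
  have H' : ∀ n, IsIso (pullback.snd (g ∣_ V) (CohB1.thickι (V.ι ≫ f) I n)) := by
    intro n
    apply isIso_restrict_of_le
    let k' : CohB1.thick (V.ι ≫ f) I n ⟶ CohB1.thick f I n :=
      pullback.lift (CohB1.thickι (V.ι ≫ f) I n ≫ V.ι) (CohB1.thickToBase _ I n)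
        (by rw [Category.assoc]; exact pullback.condition)
    have : CohB1.thickι (V.ι ≫ f) I n ≫ V.ι = k' ≫ CohB1.thickι f I n :=
      (pullback.lift_fst _ _ _).symm
    rw [this]
    exact isIso_snd_of_factor g _ k' (H n)
  obtain ⟨V', hxV', hV'⟩ := exists_isIso_restrict_of_isAffine I (g ∣_ V) (V.ι ≫ f) H' ⟨x, hxV⟩ (by
    rw [mem_range_thickι] at hx ⊢
    exact hx)
  refine ⟨V.ι ''ᵁ V', ⟨⟨x, hxV⟩, hxV', rfl⟩, ?_⟩
  exact (MorphismProperty.arrow_mk_iso_iff (MorphismProperty.isomorphisms Scheme.{u})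
    (morphismRestrictRestrict g V V')).mp hV'

/-- Every open neighbourhood of the special fibre of a proper scheme over an adic base is
everything. -/
theorem eq_top_of_range_le (I : Ideal A) (hI : I ≤ Ideal.jacobson ⊥) {X : Scheme.{u}}
    (f : X ⟶ Spec (CommRingCat.of A)) [UniversallyClosed f] (n : ℕ) (U : X.Opens)
    (hU : Set.range (CohB1.thickι f I n) ⊆ U) : U = ⊤ := by
  by_contra hne
  have hcl := f.isClosedMap _ U.2.isClosed_compl
  have hnon : ((U : Set X)ᶜ).Nonempty := by
    rw [Set.nonempty_compl]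
    intro h
    exact hne (TopologicalSpace.Opens.ext h)
  obtain ⟨u, hu⟩ := hnon
  obtain ⟨m, hm, hle⟩ := Ideal.exists_le_maximal (f u).asIdeal (f u).isPrime.ne_top
  let y : Spec (CommRingCat.of A) := ⟨m, hm.isPrime⟩
  have hy : y ∈ f '' (U : Set X)ᶜ := by
    have h1 : (f u) ⤳ y := (PrimeSpectrum.le_iff_specializes _ _).mp hle
    exact h1.mem_closed hcl ⟨u, hu, rfl⟩
  obtain ⟨v, hv, hvy⟩ := hy
  have : v ∈ Set.range (CohB1.thickι f I n) := by
    rw [mem_range_thickι, mem_range_specQuot, hvy]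
    refine hI.trans ?_
    rw [Ideal.jacobson]
    exact sInf_le ⟨bot_le, hm⟩
  exact hv (hU this)

/-- A proper morphism which is an isomorphism over all thickenings `X_n` of the special fibre of
a proper scheme over an adic base is an isomorphism. -/
theorem isIso_of_thick [IsNoetherianRing A] (I : Ideal A) (hI : I ≤ Ideal.jacobson ⊥)
    {W X : Scheme.{u}} (g : W ⟶ X) (f : X ⟶ Spec (CommRingCat.of A)) [IsProper f] [IsProper g]
    (H : ∀ n, IsIso (pullback.snd g (CohB1.thickι f I n))) : IsIso g := by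
  have hXN : IsLocallyNoetherian X := LocallyOfFiniteType.isLocallyNoetherian f
  choose V hxV hV using fun x : Set.range (CohB1.thickι f I 0) ↦
    exists_isIso_restrict I g f H x.1 x.2
  have hcov : ⨆ x, V x = ⊤ := by
    apply eq_top_of_range_le I hI f 0
    intro x hx
    exact TopologicalSpace.Opens.mem_iSup.mpr ⟨⟨x, hx⟩, hxV _⟩
  exact IsZariskiLocalAtTarget.of_iSup_eq_top (P := MorphismProperty.isomorphisms Scheme.{u}) V hcov hV

end Geometry

end Groth.Agent.CohqB.AlgIso
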