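import Groth.Prelude.Def_Coh
import Groth.Prelude.Def_CohB1
import Groth.Prelude.Def_Formal
import Mathlib.AlgebraicGeometry.IdealSheaf.Functorial
import Mathlib.AlgebraicGeometry.Morphisms.ClosedImmersion
import Mathlib.AlgebraicGeometry.Morphisms.Finite

/-!
# The module `h_* O_Z` for a morphism `h : Z ⟶ X`, and its functoriality in `Z` over `X`
-/

set_option autoImplicit false
universe u

open CategoryTheory Limits AlgebraicGeometry Opposite TopologicalSpace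

namespace Groth.Agent.CohqB.AlgSys

variable {X Z Z' Z'' : Scheme.{u}}

/-- `h_* O_Z` as an `O_X`-module. -/
noncomputable abbrev Oalg (h : Z ⟶ X) : X.Modules :=
  (Scheme.Modules.pushforward h).obj (Coh.structureModule Z)

/-- identify a section of `h_* O_Z` with a function. -/
noncomputable def toFun (h : Z ⟶ X) (U : X.Opens) : Γ(Oalg h, U) ≃+ Γ(Z, h ⁻¹ᵁ U) := AddEquiv.refl _

/-- scalar multiplication on `h_* O_Z`. -/
theorem toFun_smul (h : Z ⟶ X) (U : X.Opens) (r : Γ(X, U)) (s : Γ(Oalg h, U)) :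
    toFun h U (r • s) = (h.app U).hom r * toFun h U s := rfl

theorem le_preimage (h : Z ⟶ X) (h' : Z' ⟶ X) (t : Z ⟶ Z') (ht : t ≫ h' = h) (U : X.Opens) :
    h ⁻¹ᵁ U ≤ t ⁻¹ᵁ (h' ⁻¹ᵁ U) := by
  subst ht
  exact le_rfl

theorem appLE_app (h : Z ⟶ X) (h' : Z' ⟶ X) (t : Z ⟶ Z') (ht : t ≫ h' = h) (U : X.Opens)
    (r : Γ(X, U)) :
    (t.appLE (h' ⁻¹ᵁ U) (h ⁻¹ᵁ U) (le_preimage h h' t ht U)).hom ((h'.app U).hom r) =
      (h.app U).hom r := by
  subst ht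
  have h1 : t.appLE (h' ⁻¹ᵁ U) (t ⁻¹ᵁ (h' ⁻¹ᵁ U)) le_rfl = t.app (h' ⁻¹ᵁ U) :=
    t.app_eq_appLE.symm
  exact congr($(h1) ((h'.app U).hom r))

/-- The map `h'_* O_{Z'} ⟶ h_* O_Z` attached to a morphism `t : Z ⟶ Z'` over `X`. -/
noncomputable def Omap (h : Z ⟶ X) (h' : Z' ⟶ X) (t : Z ⟶ Z') (ht : t ≫ h' = h) :
    Oalg h' ⟶ Oalg h :=
  ⟨PresheafOfModules.homMk
    { app := fun U => AddCommGrpCat.ofHom
        ((t.appLE (h' ⁻¹ᵁ U.unop) (h ⁻¹ᵁ U.unop) (le_preimage h h' t ht U.unop)).hom :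
          Γ(Z', h' ⁻¹ᵁ U.unop) →+* Γ(Z, h ⁻¹ᵁ U.unop)).toAddMonoidHom
      naturality := fun U V i => by
        ext s
        have h1 := t.map_appLE (le_preimage h h' t ht V.unop)
          (((Opens.map h'.base).map i.unop).op)
        have h2 := t.appLE_map (le_preimage h h' t ht U.unop)
          (((Opens.map h.base).map i.unop).op)
        exact congr($(h1.trans h2.symm) s) }
    (fun U r s => (map_mul (t.appLE (h' ⁻¹ᵁ U.unop) (h ⁻¹ᵁ U.unop)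
        (le_preimage h h' t ht U.unop)).hom ((h'.app U.unop).hom r) s).trans
        (congr($(appLE_app h h' t ht U.unop r) * _)))⟩

theorem Omap_app (h : Z ⟶ X) (h' : Z' ⟶ X) (t : Z ⟶ Z') (ht : t ≫ h' = h) (U : X.Opens)
    (s : Γ(Oalg h', U)) :
    toFun h U ((Omap h h' t ht).app U s) =
      (t.appLE (h' ⁻¹ᵁ U) (h ⁻¹ᵁ U) (le_preimage h h' t ht U)).hom (toFun h' U s) := rfl

theorem map_toFun (h : Z ⟶ X) {U V : X.Opens} (i : U ⟶ V) (s : Γ(Oalg h, V)) :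
    toFun h U ((Oalg h).presheaf.map i.op s) =
      (Z.presheaf.map ((Opens.map h.base).map i).op).hom (toFun h V s) := rfl

theorem Omap_comp (h : Z ⟶ X) (h' : Z' ⟶ X) (h'' : Z'' ⟶ X) (t : Z ⟶ Z') (t' : Z' ⟶ Z'')
    (ht : t ≫ h' = h) (ht' : t' ≫ h'' = h') :
    Omap h' h'' t' ht' ≫ Omap h h' t ht =
      Omap h h'' (t ≫ t') (by rw [Category.assoc, ht', ht]) := by
  ext U s
  change (t.appLE (h' ⁻¹ᵁ U) (h ⁻¹ᵁ U) (le_preimage h h' t ht U)).hom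
    ((t'.appLE (h'' ⁻¹ᵁ U) (h' ⁻¹ᵁ U) (le_preimage h' h'' t' ht' U)).hom s) =
    ((t ≫ t').appLE (h'' ⁻¹ᵁ U) (h ⁻¹ᵁ U) _).hom s
  rw [← Scheme.Hom.appLE_comp_appLE t t' _ _ _ (le_preimage h' h'' t' ht' U)
    (le_preimage h h' t ht U)]
  rfl

end Groth.Agent.CohqB.AlgSys
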