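import Groth.Agent.FormalB.ModPow
import Groth.Agent.Divis.IdealComap
import Groth.Agent.CohqB.AlgSys

/-!
# Closed subschemes of a scheme over `Spec A` defined by an ideal of `A`
-/

set_option autoImplicit false
universe u

open CategoryTheory Limits AlgebraicGeometry Opposite TopologicalSpace

namespace Groth.Agent.CohqB.AlgThick

variable {A : Type u} [CommRing A] {X Y Y' Z : Scheme.{u}}

/-- the structure map `A → Γ(Y, V)`. -/
noncomputable def aff (g : Y ⟶ Spec (CommRingCat.of A)) (V : Y.Opens) : A →+* Γ(Y, V) :=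
  (g.appLE ⊤ V le_top).hom.comp (Scheme.ΓSpecIso (CommRingCat.of A)).inv.hom

theorem aff_eq (g : Y ⟶ Spec (CommRingCat.of A)) (V : Y.Opens) (a : A) :
    aff g V a = FormalB.ModPow.resΓ Y V (Coh.toGlobal g a) := rfl

theorem aff_comp (g : Y ⟶ Spec (CommRingCat.of A)) (h : Z ⟶ Y) (V : Y.Opens) (W : Z.Opens)
    (e : W ≤ h ⁻¹ᵁ V) (a : A) : (h.appLE V W e).hom (aff g V a) = aff (h ≫ g) W a := by
  have h1 := Scheme.Hom.appLE_comp_appLE h g ⊤ V W le_top e
  exact congr($(h1) ((Scheme.ΓSpecIso (CommRingCat.of A)).inv.hom a))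

theorem appTop_specMap (J : Ideal A) (y : A) :
    (Spec.map (CommRingCat.ofHom (Ideal.Quotient.mk J))).appTop.hom
      ((Scheme.ΓSpecIso (CommRingCat.of A)).inv.hom y) =
      (Scheme.ΓSpecIso (CommRingCat.of (A ⧸ J))).inv.hom (Ideal.Quotient.mk J y) :=
  congr($((Scheme.ΓSpecIso_inv_naturality (CommRingCat.ofHom (Ideal.Quotient.mk J))).symm) y)

theorem ker_specMap (J : Ideal A) :
    (Spec.map (CommRingCat.ofHom (Ideal.Quotient.mk J))).ker.ideal
      ⟨⊤, isAffineOpen_top _⟩ = J.map (Scheme.ΓSpecIso (CommRingCat.of A)).inv.hom := by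
  rw [Scheme.Hom.ker_apply]
  change RingHom.ker (Spec.map (CommRingCat.ofHom (Ideal.Quotient.mk J))).appTop.hom = _
  ext x
  obtain ⟨y, rfl⟩ : ∃ y, x = (Scheme.ΓSpecIso (CommRingCat.of A)).inv.hom y :=
    ⟨(Scheme.ΓSpecIso (CommRingCat.of A)).hom.hom x, by simp⟩
  have h4 := Divis.IdealComap.map_eq_comap_of_iso (Scheme.ΓSpecIso (CommRingCat.of A)).symm J
  rw [Iso.symm_hom, Iso.symm_inv] at h4
  rw [h4, RingHom.mem_ker, Ideal.mem_comap, appTop_specMap]
  have hinj : Function.Injective (Scheme.ΓSpecIso (CommRingCat.of (A ⧸ J))).inv.hom :=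
    (ConcreteCategory.bijective_of_isIso _).1
  rw [map_eq_zero_iff _ hinj, Ideal.Quotient.eq_zero_iff_mem]
  have h5 : (Scheme.ΓSpecIso (CommRingCat.of A)).hom.hom
      ((Scheme.ΓSpecIso (CommRingCat.of A)).inv.hom y) = y := by simp
  rw [h5]

instance (J : Ideal A) : IsClosedImmersion (Spec.map (CommRingCat.ofHom (Ideal.Quotient.mk J))) :=
  IsClosedImmersion.spec_of_surjective _ Ideal.Quotient.mk_surjective

/-- If `Y' = Y ×_A A/J` then the ideal of `Y'` in `Y` is `J O_Y`. -/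
theorem ker_ideal {J : Ideal A} {a : Y' ⟶ Y} {b : Y' ⟶ Spec (CommRingCat.of (A ⧸ J))}
    {g : Y ⟶ Spec (CommRingCat.of A)}
    (sq : IsPullback a b g (Spec.map (CommRingCat.ofHom (Ideal.Quotient.mk J))))
    (V : Y.affineOpens) :
    a.ker.ideal V = J.map (aff g V.1) := by
  have h1 : a.ker = (pullback.fst g (Spec.map (CommRingCat.ofHom (Ideal.Quotient.mk J)))).ker := by
    rw [← sq.isoPullback_hom_fst, Scheme.Hom.ker_comp_of_isIso]
  rw [h1, Scheme.IdealSheafData.ker_fst_of_isClosedImmersion,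
    Divis.IdealComap.ideal_comap _ g ⟨⊤, isAffineOpen_top _⟩ V le_top, ker_specMap, Ideal.map_map]
  rfl

theorem isClosedImmersion {J : Ideal A} {a : Y' ⟶ Y} {b : Y' ⟶ Spec (CommRingCat.of (A ⧸ J))}
    {g : Y ⟶ Spec (CommRingCat.of A)}
    (sq : IsPullback a b g (Spec.map (CommRingCat.ofHom (Ideal.Quotient.mk J)))) :
    IsClosedImmersion a :=
  MorphismProperty.of_isPullback (P := @IsClosedImmersion) sq.flip inferInstance

theorem ker_app {J : Ideal A} {a : Y' ⟶ Y} {b : Y' ⟶ Spec (CommRingCat.of (A ⧸ J))}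
    {g : Y ⟶ Spec (CommRingCat.of A)}
    (sq : IsPullback a b g (Spec.map (CommRingCat.ofHom (Ideal.Quotient.mk J))))
    {V : Y.Opens} (hV : IsAffineOpen V) :
    RingHom.ker (a.app V).hom = J.map (aff g V) := by
  have := isClosedImmersion sq
  rw [← ker_ideal sq ⟨V, hV⟩, Scheme.Hom.ker_apply]

theorem app_surjective {J : Ideal A} {a : Y' ⟶ Y} {b : Y' ⟶ Spec (CommRingCat.of (A ⧸ J))}
    {g : Y ⟶ Spec (CommRingCat.of A)}
    (sq : IsPullback a b g (Spec.map (CommRingCat.ofHom (Ideal.Quotient.mk J))))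
    {V : Y.Opens} (hV : IsAffineOpen V) : Function.Surjective (a.app V).hom := by
  have := isClosedImmersion sq
  exact a.app_surjective V hV

/-- `J` acts as zero on a scheme over `A/J`. -/
theorem aff_eq_zero {J : Ideal A} (b : Y ⟶ Spec (CommRingCat.of (A ⧸ J)))
    (g : Y ⟶ Spec (CommRingCat.of A))
    (h : b ≫ Spec.map (CommRingCat.ofHom (Ideal.Quotient.mk J)) = g) (V : Y.Opens) {x : A}
    (hx : x ∈ J) : aff g V x = 0 := by
  subst h
  rw [← aff_comp (Spec.map (CommRingCat.ofHom (Ideal.Quotient.mk J))) b ⊤ V le_top]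
  have h1 : aff (Spec.map (CommRingCat.ofHom (Ideal.Quotient.mk J))) ⊤ x =
      (Scheme.ΓSpecIso (CommRingCat.of (A ⧸ J))).inv.hom (Ideal.Quotient.mk J x) := by
    rw [← appTop_specMap]
    have h2 : (Spec.map (CommRingCat.ofHom (Ideal.Quotient.mk J))).appLE ⊤ ⊤ le_top =
      (Spec.map (CommRingCat.ofHom (Ideal.Quotient.mk J))).appTop := Scheme.Hom.appLE_eq_app _
    exact congr($(h2) ((Scheme.ΓSpecIso (CommRingCat.of A)).inv.hom x))
  rw [h1, Ideal.Quotient.eq_zero_iff_mem.2 hx, map_zero, map_zero]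

end Groth.Agent.CohqB.AlgThick
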