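import Groth.Agent.FormalB.ModPow
import Groth.Agent.CohqB.QC6
import Groth.Agent.CohqB.FiniteType2
import Groth.Agent.CohqB.AlgThick

/-!
# Sections of `M / J M` on affine opens
-/

set_option autoImplicit false
universe u

open CategoryTheory Limits AlgebraicGeometry Opposite TopologicalSpace

namespace Groth.Agent.CohqB.AlgMod

open Groth.Agent.CohqB.QC2 Groth.Agent.CohqB.QC4 Groth.Agent.CohqB.QC5 Groth.Agent.CohqB.QC6
open Groth.Agent.CohqB.FiniteType
open Groth.Agent.FormalB.ModPow Groth.Agent.CohqB.AlgThick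

variable {X : Scheme.{u}}

theorem le_iSup_affine (U : X.Opens) :
    U ≤ ⨆ V : {V : X.Opens // IsAffineOpen V ∧ V ≤ U}, V.1 := by
  intro x hx
  obtain ⟨V, hV, hxV, hVU⟩ := exists_isAffineOpen_mem_and_subset (x := x) (U := U) hx
  exact Opens.mem_iSup.2 ⟨⟨V, hV, hVU⟩, hxV⟩

/-- Morphisms of `O_X`-modules agree if they agree on affine opens. -/
theorem hom_ext_affine {M N : X.Modules} {φ ψ : M ⟶ N}
    (h : ∀ U : X.Opens, IsAffineOpen U → ∀ m : Γ(M, U), φ.app U m = ψ.app U m) : φ = ψ := by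
  ext U m
  apply section_ext N (fun V : {V : X.Opens // IsAffineOpen V ∧ V ≤ U} => V.1) (fun V => V.2.2)
    (le_iSup_affine U)
  intro V
  rw [← app_res, ← app_res]
  exact h V.1 V.2.1 _

/-- Epimorphisms can be detected on affine opens. -/
theorem epi_of_surjective_affine {M N : X.Modules} (φ : M ⟶ N)
    (h : ∀ U : X.Opens, IsAffineOpen U → Function.Surjective (φ.app U)) : Epi φ := by
  apply QCSheaf.epi_of_exists_local_lift
  intro U s x hx
  obtain ⟨V, hV, hxV, hVU⟩ := exists_isAffineOpen_mem_and_subset (x := x) (U := U) hx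
  obtain ⟨t, ht⟩ := h V hV (N.presheaf.map (homOfLE hVU).op s)
  exact ⟨V, hVU, t, hxV, ht⟩

section

variable {A : Type u} [CommRing A] [X.Over (Spec (CommRingCat.of A))]

/-- the submodule `J Γ(M, U)`. -/
noncomputable def JM (J : Ideal A) (M : X.Modules) (U : X.Opens) : Submodule Γ(X, U) Γ(M, U) :=
  (J.map (aff (X ↘ Spec (CommRingCat.of A)) U)) • ⊤

theorem smulMod_app' (M : X.Modules) (a : A) (U : X.Opens) (m : Γ(M, U)) :
    (Formal.smulMod A M a).app U m = aff (X ↘ Spec (CommRingCat.of A)) U a • m := rfl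

theorem smul_mem_JM {J : Ideal A} {M : X.Modules} {U : X.Opens} {a : A} (ha : a ∈ J) (m : Γ(M, U)) :
    aff (X ↘ Spec (CommRingCat.of A)) U a • m ∈ JM J M U :=
  Submodule.smul_mem_smul (Ideal.mem_map_of_mem _ ha) trivial

theorem JM_mono {J J' : Ideal A} (h : J ≤ J') (M : X.Modules) (U : X.Opens) :
    JM J M U ≤ JM J' M U :=
  Submodule.smul_mono_left (Ideal.map_mono h)

/-- Induction principle for elements of `J Γ(M, U)`. -/
theorem JM_induction {J : Ideal A} {M : X.Modules} {U : X.Opens} {P : Γ(M, U) → Prop}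
    (h0 : P 0) (hadd : ∀ x y, P x → P y → P (x + y))
    (hs : ∀ a ∈ J, ∀ m : Γ(M, U), P (aff (X ↘ Spec (CommRingCat.of A)) U a • m))
    {x : Γ(M, U)} (hx : x ∈ JM J M U) : P x := by
  have key : ∀ r ∈ J.map (aff (X ↘ Spec (CommRingCat.of A)) U), ∀ m : Γ(M, U), P (r • m) := by
    intro r hr
    induction hr using Submodule.span_induction with
    | mem r hr =>
      obtain ⟨a, ha, rfl⟩ := hr
      exact hs a ha
    | zero => intro m; rw [zero_smul]; exact h0
    | add r r' _ _ h h' => intro m; rw [add_smul]; exact hadd _ _ (h m) (h' m)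
    | smul c r _ h => intro m; rw [smul_eq_mul, mul_comm, mul_smul]; exact h _
  induction hx using Submodule.smul_induction_on' with
  | smul r hr m _ => exact key r hr m
  | add x _ y _ h h' => exact hadd _ _ h h'

theorem app_mem_JM {J : Ideal A} {M N : X.Modules} (φ : M ⟶ N) {U : X.Opens} {m : Γ(M, U)}
    (h : m ∈ JM J M U) : φ.app U m ∈ JM J N U := by
  refine JM_induction (P := fun m => φ.app U m ∈ JM J N U) ?_ ?_ ?_ h
  · rw [map_zero]; exact zero_mem _
  · intro x y hx hy; rw [map_add]; exact add_mem hx hy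
  · intro a ha m; rw [Scheme.Modules.Hom.app_smul]; exact smul_mem_JM ha _

/-- A section-level criterion for `p : M ⟶ N` to be the quotient by `J M`. -/
theorem isModPow_of_sections {J : Ideal A} {M N : X.Modules} (p : M ⟶ N)
    (h1 : ∀ U : X.Opens, IsAffineOpen U → Function.Surjective (p.app U))
    (h2 : ∀ U : X.Opens, IsAffineOpen U → ∀ m : Γ(M, U), p.app U m = 0 → m ∈ JM J M U)
    (h3 : ∀ U : X.Opens, IsAffineOpen U → ∀ a ∈ J, ∀ m : Γ(M, U),
      p.app U (aff (X ↘ Spec (CommRingCat.of A)) U a • m) = 0) : IsModPow J p := by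
  have hp := epi_of_surjective_affine p h1
  refine ⟨hp, ?_, ?_⟩
  · intro a ha
    apply hom_ext_affine
    intro U hU m
    rw [Scheme.Modules.Hom.comp_app]
    exact h3 U hU a ha m
  · intro Z φ hφ
    have hk : kernel.ι p ≫ φ = 0 := by
      apply hom_ext_affine
      intro U hU k
      have hk1 : p.app U ((kernel.ι p).app U k) = 0 :=
        app_comp_eq_zero (S := ShortComplex.mk (kernel.ι p) p (kernel.condition p)) U k
      have hk2 := h2 U hU _ hk1
      change φ.app U ((kernel.ι p).app U k) = 0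
      refine JM_induction (P := fun m => φ.app U m = 0) ?_ ?_ ?_ hk2
      · exact map_zero _
      · intro x y hx hy; rw [map_add, hx, hy, add_zero]
      · intro a ha m
        have := congr($(hφ a ha).app U m)
        exact this
    exact ⟨Abelian.epiDesc p φ hk, Abelian.comp_epiDesc p φ hk⟩

theorem isModPow_sup {J J' : Ideal A} {M N P : X.Modules} {p : M ⟶ N} {q : N ⟶ P}
    (hp : IsModPow J p) (hq : IsModPow J' q) : IsModPow (J ⊔ J') (p ≫ q) := by
  have := hp.epi
  have := hq.epi
  refine ⟨inferInstance, fun a ha => ?_, ?_⟩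
  · obtain ⟨b, hb, c, hc, rfl⟩ := Submodule.mem_sup.1 ha
    rw [smulMod_add, Preadditive.add_comp, ← Category.assoc, hp.smul_comp b hb, zero_comp,
      smulMod_naturality_assoc, hq.smul_comp c hc, comp_zero, add_zero]
  · intro Z φ hφ
    obtain ⟨ψ, hψ⟩ := hp.desc φ (fun a ha => hφ a (Ideal.mem_sup_left ha))
    obtain ⟨χ, hχ⟩ := hq.desc ψ (fun a ha => by
      rw [← cancel_epi p, ← smulMod_naturality_assoc, hψ, hφ a (Ideal.mem_sup_right ha), comp_zero])
    exact ⟨χ, by rw [Category.assoc, hχ, hψ]⟩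

/-- `p` is surjective on affine opens with kernel contained in `J M`. -/
def Sec (J : Ideal A) {M N : X.Modules} (p : M ⟶ N) : Prop :=
  ∀ U : X.Opens, IsAffineOpen U → Function.Surjective (p.app U) ∧
    ∀ m : Γ(M, U), p.app U m = 0 → m ∈ JM J M U

theorem exists_sec {J : Ideal A} (hJ : J.FG) : ∀ (M : X.Modules), Coh.IsQCoh M →
    ∃ (N : X.Modules) (p : M ⟶ N), IsModPow J p ∧ Coh.IsQCoh N ∧ Sec J p := by
  induction J, hJ using Submodule.fg_induction with
  | singleton a =>
    intro M hM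
    let φ := Formal.smulMod A M a
    refine ⟨cokernel φ, cokernel.π φ, ⟨inferInstance, ?_, ?_⟩, isQCoh_cokernel φ hM hM, ?_⟩
    · intro x hx
      obtain ⟨c, rfl⟩ := Submodule.mem_span_singleton.1 hx
      rw [smul_eq_mul, smulMod_mul, Category.assoc, smulMod_naturality (cokernel.π φ) c,
        ← Category.assoc]
      have h0 : Formal.smulMod A M a ≫ cokernel.π φ = 0 := cokernel.condition φ
      rw [h0, zero_comp]
    · intro Z ψ hψ
      exact ⟨cokernel.desc φ ψ (hψ a (Submodule.mem_span_singleton_self a)), cokernel.π_desc _ _ _⟩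
    · intro U hU
      refine ⟨app_surjective_of_epi _ hM (isQCoh_cokernel φ hM hM) hU, ?_⟩
      intro m hm
      obtain ⟨t, rfl⟩ := exists_of_exact
        (S := ShortComplex.mk (Abelian.image.ι φ) (cokernel.π φ) (kernel.condition _))
        (ShortComplex.exact_of_f_is_kernel _ (kernelIsKernel _)) U m hm
      obtain ⟨m', rfl⟩ := app_surjective_of_epi (Abelian.factorThruImage φ) hM
        (isQCoh_image φ hM hM) hU t
      have h1 : (Abelian.image.ι φ).app U ((Abelian.factorThruImage φ).app U m') = φ.app U m' := by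
        have := congr($(Abelian.image.fac φ).app U m')
        exact this
      change (Abelian.image.ι φ).app U ((Abelian.factorThruImage φ).app U m') ∈ _
      rw [h1, smulMod_app']
      exact smul_mem_JM (Submodule.mem_span_singleton_self a) _
  | sup J₁ J₂ _ _ h₁ h₂ =>
    intro M hM
    obtain ⟨N, p, hp, hN, hp'⟩ := h₁ M hM
    obtain ⟨P, q, hq, hP, hq'⟩ := h₂ N hN
    refine ⟨P, p ≫ q, isModPow_sup hp hq, hP, fun U hU => ⟨?_, ?_⟩⟩
    · rw [Scheme.Modules.Hom.comp_app]
      exact ((hq' U hU).1.comp (hp' U hU).1)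
    · intro m hm
      have h1 := (hq' U hU).2 (p.app U m) hm
      have h2 : ∀ n ∈ JM J₂ N U, ∃ m' ∈ JM J₂ M U, p.app U m' = n := by
        intro n hn
        refine JM_induction (P := fun n => ∃ m' ∈ JM J₂ M U, p.app U m' = n) ?_ ?_ ?_ hn
        · exact ⟨0, zero_mem _, map_zero _⟩
        · rintro _ _ ⟨x, hx, rfl⟩ ⟨y, hy, rfl⟩
          exact ⟨x + y, add_mem hx hy, map_add _ _ _⟩
        · intro a ha n
          obtain ⟨m', rfl⟩ := (hp' U hU).1 n
          exact ⟨_, smul_mem_JM ha m', by rw [Scheme.Modules.Hom.app_smul]⟩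
      obtain ⟨m', hm', he⟩ := h2 _ h1
      have h3 : p.app U (m - m') = 0 := by rw [map_sub, he, sub_self]
      have h4 := (hp' U hU).2 _ h3
      have h5 := add_mem (JM_mono (le_sup_left : J₁ ≤ J₁ ⊔ J₂) M U h4)
        (JM_mono (le_sup_right : J₂ ≤ J₁ ⊔ J₂) M U hm')
      rwa [sub_add_cancel] at h5

/-- Sections of `M / J M` on affine opens. -/
theorem sec_of_isModPow {J : Ideal A} (hJ : J.FG) {M N : X.Modules} {p : M ⟶ N}
    (hp : IsModPow J p) (hM : Coh.IsQCoh M) : Coh.IsQCoh N ∧ Sec J p := by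
  obtain ⟨N', p', hp', hN', hs⟩ := exists_sec hJ M hM
  obtain ⟨e, he, -⟩ := hp'.exists_iso hp
  refine ⟨isQCoh_of_iso e hN', fun U hU => ?_⟩
  have hb : Function.Bijective (e.hom.app U) :=
    ConcreteCategory.bijective_of_isIso (e.hom.app U)
  have h1 : ∀ m, p.app U m = e.hom.app U (p'.app U m) := by
    intro m
    rw [← he]
    rfl
  constructor
  · intro n
    obtain ⟨n', rfl⟩ := hb.2 n
    obtain ⟨m, rfl⟩ := (hs U hU).1 n'
    exact ⟨m, h1 m⟩
  · intro m hm
    apply (hs U hU).2
    rw [h1] at hm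
    exact (map_eq_zero_iff _ hb.1).1 hm

theorem app_eq_zero_of_mem_JM {J : Ideal A} {M N : X.Modules} {p : M ⟶ N}
    (hp : IsModPow J p) {U : X.Opens} {m : Γ(M, U)} (hm : m ∈ JM J M U) : p.app U m = 0 := by
  refine JM_induction (P := fun m => p.app U m = 0) ?_ ?_ ?_ hm
  · exact map_zero _
  · intro x y hx hy; rw [map_add, hx, hy, add_zero]
  · intro a ha m
    exact congr($(hp.smul_comp a ha).app U m)

end

end Groth.Agent.CohqB.AlgMod
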