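import Groth.Agent.FormalA.ExSupp
import Groth.Agent.FormalA.ProperOver
import Groth.Agent.CohqB.DevSupport
import Groth.Agent.CohqB.AlgMod

/-!
# Nakayama for coherent modules with proper support over `Spec A`, `I` in the Jacobson radical
-/

set_option autoImplicit false
universe u

open CategoryTheory Limits AlgebraicGeometry Opposite TopologicalSpace

namespace Groth.Agent.CohqB.AlgNak

open Groth.Agent.CohqB.QC2 Groth.Agent.CohqB.QC4 Groth.Agent.CohqB.QC5 Groth.Agent.CohqB.QC6
open Groth.Agent.FormalB.ModPow Groth.Agent.FormalA.ProperOver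

/-- The image of a closed subset, proper over the base, is closed. -/
theorem isClosed_image {X S : Scheme.{u}} (f : X ⟶ S) {Z : Set X} (hZ : ClSub.IsProperOver f Z)
    {T : Set X} (hT : IsClosed T) (hTZ : T ⊆ Z) : IsClosed (f '' T) := by
  obtain ⟨hc, hp⟩ := isProperOver_subset f hZ hT hTZ
  have : IsProper (redι T hc ≫ f) := hp
  have hr : Set.range (redι T hc ≫ f) = f '' T := by
    rw [Scheme.Hom.comp_base, TopCat.coe_comp, Set.range_comp, range_redι]
  rw [← hr]
  exact (redι T hc ≫ f).isClosedMap.isClosed_range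

/-- A nonempty closed subset of `Spec A` meets `V(I)` if `I` is in the Jacobson radical. -/
theorem exists_mem_of_isClosed {A : Type u} [CommRing A] {I : Ideal A}
    (hI : I ≤ Ideal.jacobson ⊥) {C : Set (Spec (CommRingCat.of A))} (hC : IsClosed C)
    (hne : C.Nonempty) : ∃ x ∈ C, I ≤ x.asIdeal := by
  obtain ⟨x, hx⟩ := hne
  obtain ⟨J, hJ⟩ := (PrimeSpectrum.isClosed_iff_zeroLocus_ideal (R := A) C).1 hC
  have hxJ : J ≤ x.asIdeal := by
    rw [hJ] at hx
    exact hx
  obtain ⟨m, hm, hxm⟩ := Ideal.exists_le_maximal _ x.2.ne_top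
  refine ⟨⟨m, hm.isPrime⟩, ?_, ?_⟩
  · rw [hJ]
    exact fun a ha => hxm (hxJ ha)
  · exact hI.trans (by rw [Ideal.jacobson]; exact sInf_le ⟨bot_le, hm⟩)

section

variable {A : Type u} [CommRing A] {X : Scheme.{u}} [X.Over (Spec (CommRingCat.of A))]

theorem exists_mem_of_proper {I : Ideal A} (hI : I ≤ Ideal.jacobson ⊥) {Z : Set X}
    (hZ : ClSub.IsProperOver (X ↘ Spec (CommRingCat.of A)) Z) {T : Set X} (hT : IsClosed T)
    (hTZ : T ⊆ Z) (hne : T.Nonempty) :
    ∃ x ∈ T, I ≤ FormalA.ExSupp.primeBelow A x := by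
  obtain ⟨_, ⟨x, hx, rfl⟩, h⟩ := exists_mem_of_isClosed hI (isClosed_image _ hZ hT hTZ)
    (hne.image _)
  exact ⟨x, hx, h⟩

/-- Every open neighbourhood of the fibre over `V(I)` is everything. -/
theorem eq_top_of_proper {I : Ideal A} (hI : I ≤ Ideal.jacobson ⊥)
    [UniversallyClosed (X ↘ Spec (CommRingCat.of A))] (U : X.Opens)
    (hU : ∀ x : X, I ≤ FormalA.ExSupp.primeBelow A x → x ∈ U) : U = ⊤ := by
  by_contra hne
  have h1 : ((U : Set X)ᶜ).Nonempty := by
    rw [Set.nonempty_compl]
    intro h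
    exact hne (SetLike.coe_injective (h.trans Opens.coe_top.symm))
  obtain ⟨_, ⟨x, hx, rfl⟩, h⟩ := exists_mem_of_isClosed hI
    ((X ↘ Spec (CommRingCat.of A)).isClosedMap _ U.isOpen.isClosed_compl) (h1.image _)
  exact hx (hU x h)

/-- Nakayama: a module of finite type with support proper over `Spec A` whose reduction modulo `J`
vanishes, is zero if `J` is in the Jacobson radical. -/
theorem isZero_of_isModPow {J : Ideal A} (hJ : J ≤ Ideal.jacobson ⊥) {M N : X.Modules}
    {p : M ⟶ N} (hp : IsModPow J p) (hM : CohB1.IsFT M)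
    (hs : ClSub.IsProperOver (X ↘ Spec (CommRingCat.of A)) (CohB1.support M))
    (hN : IsZero N) : IsZero M := by
  apply DevSupport.isZero_of_support_eq_empty
  by_contra hne
  rw [← Set.not_nonempty_iff_eq_empty, not_not] at hne
  obtain ⟨x, hx, hJx⟩ := exists_mem_of_proper hJ hs hs.1 subset_rfl hne
  have h1 := FormalA.ExSupp.mem_support_of_isModPow hp hM hx hJx
  have h2 : CohB1.support N = ∅ := DevSupport.support_eq_empty_of_isZero hN
  rw [h2] at h1
  exact h1

end

end Groth.Agent.CohqB.AlgNak
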