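import Groth.Agent.CohqB.SymLoc
import Groth.Agent.CohqB.RelSpec
import Groth.Agent.CohqB.AlgFormal
import Groth.Agent.CohqB.FiniteType2
import Groth.Agent.Smoothlim.SymAlg

/-!
# The relative spectrum of the symmetric algebra of a quasi-coherent module
-/

set_option autoImplicit false
universe u

open CategoryTheory Limits AlgebraicGeometry Opposite TopologicalSpace

namespace Groth.Agent.CohqB.AlgSym

open Groth.Agent.CohqB.QC2 Groth.Agent.CohqB.QC4 Groth.Agent.CohqB.QC5 Groth.Agent.CohqB.QC6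
open Groth.Agent.CohqB.SymLoc Groth.Agent.CohqB.AlgSys
open AlgebraicGeometry.Scheme.AffineZariskiSite AlgebraicGeometry.Scheme

namespace RelSpec

open Groth.Agent.CohqB.RelSpec

variable {X : Scheme.{u}} {F : X.AffineZariskiSiteᵒᵖ ⥤ CommRingCat.{u}}
  {α : (Scheme.AffineZariskiSite.toOpensFunctor X).op ⋙ X.presheaf ⟶ F} (H : α.Coequifibered)

/-- Compatibility of `lift` with precomposition. -/
theorem comp_lift {T T' : Scheme.{u}} {g : T ⟶ X} {g' : T' ⟶ X} (d : LiftData α g)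
    (d' : LiftData α g') (t : T ⟶ T') (ht : t ≫ g' = g)
    (hd : ∀ U : X.AffineZariskiSite,
      d'.ψ U ≫ t.appLE (g' ⁻¹ᵁ U.toOpens) (g ⁻¹ᵁ U.toOpens) (le_preimage g g' t ht U.toOpens) =
        d.ψ U) :
    t ≫ lift H d' = lift H d := by
  refine Scheme.Cover.hom_ext (T.openCoverOfIsOpenCover _
    (.comap (iSup_affineOpens_eq_top X) g.base.hom)) _ _ fun U ↦ ?_
  let U' : X.AffineZariskiSite := ⟨U.1, U.2⟩
  change (g ⁻¹ᵁ U'.toOpens).ι ≫ t ≫ lift H d' = (g ⁻¹ᵁ U'.toOpens).ι ≫ lift H d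
  rw [ι_lift, ← hd, Spec.map_comp, Category.assoc, Scheme.Opens.toSpecΓ_SpecMap_appLE_assoc,
    ← ι_lift]
  rw [← Category.assoc, ← Category.assoc, Scheme.Hom.resLE_comp_ι]

end RelSpec

variable {X : Scheme.{u}} (M : X.Modules)

theorem res_smul' {U V : X.AffineZariskiSiteᵒᵖ} (i : U ⟶ V) (r : Γ(X, U.unop.toOpens))
    (m : Γ(M, U.unop.toOpens)) :
    (M.presheaf.map ((toOpensFunctor X).map i.unop).op).hom (r • m) =
      (X.presheaf.map ((toOpensFunctor X).map i.unop).op).hom r •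
      (M.presheaf.map ((toOpensFunctor X).map i.unop).op).hom m :=
  Scheme.Modules.map_smul M ((toOpensFunctor X).map i.unop) r m

/-- The symmetric algebra of a module, as a functor on affine opens. -/
noncomputable def symF : X.AffineZariskiSiteᵒᵖ ⥤ CommRingCat.{u} where
  obj U := CommRingCat.of (SymmetricAlgebra Γ(X, U.unop.toOpens) Γ(M, U.unop.toOpens))
  map {U V} i := CommRingCat.ofHom (symMap _ _ (res_smul' M i))
  map_id U := by
    ext1
    apply ringHom_ext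
    · intro r
      rw [CommRingCat.hom_ofHom, symMap_algebraMap]
      simp
      rfl
    · intro m
      rw [CommRingCat.hom_ofHom, symMap_ι]
      simp
      rfl
  map_comp {U V W} i j := by
    ext1
    apply ringHom_ext
    · intro r
      simp
      rfl
    · intro m
      simp
      rfl

/-- The structure map. -/
noncomputable def symα : (toOpensFunctor X).op ⋙ X.presheaf ⟶ symF M where
  app U := CommRingCat.ofHom (algebraMap Γ(X, U.unop.toOpens) (SymmetricAlgebra Γ(X, U.unop.toOpens)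
    Γ(M, U.unop.toOpens)))
  naturality {U V} i := by
    ext1
    refine RingHom.ext fun r => ?_
    exact (symMap_algebraMap _ _ (res_smul' M i) (show Γ(X, U.unop.toOpens) from r)).symm

variable {M}

theorem coequifibered (hM : Coh.IsQCoh M) : (symα M).Coequifibered := by
  rw [coequifibered_iff_forall_isLocalizationAway]
  intro U f
  have hloc := (isQuasicoherent_iff_loc M).1 hM U.toOpens U.2
  have h1 : IsLocalization.Away f Γ(X, X.basicOpen f) := U.2.isLocalization_basicOpen f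
  refine isLocalization_symMap (R := Γ(X, U.toOpens)) (M := Γ(M, U.toOpens))
    (R' := Γ(X, X.basicOpen f)) (M' := Γ(M, X.basicOpen f)) _ _
    (res_smul' M (homOfLE (U.basicOpen_le f)).op) f ?_ ?_ ?_ ?_ ?_
  · intro s
    obtain ⟨n, t, ht⟩ := hloc.exists_lift f s
    exact ⟨n, t, ht⟩
  · intro m hm
    exact hloc.eq_zero f m hm
  · exact IsLocalization.Away.algebraMap_isUnit f
  · intro r'
    obtain ⟨n, a, ha⟩ := IsLocalization.Away.surj f r'
    exact ⟨n, a, ha.symm.trans (mul_comm _ _)⟩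
  · intro r hr
    obtain ⟨n, hn⟩ := IsLocalization.Away.exists_of_eq (S := Γ(X, X.basicOpen f)) f
      (a := r) (b := 0) (hr.trans (map_zero _).symm)
    exact ⟨n, by rw [hn, mul_zero]⟩

/-- The relative spectrum of the symmetric algebra. -/
noncomputable def V (hM : Coh.IsQCoh M) : Scheme.{u} := CohqB.RelSpec.obj (coequifibered hM)

/-- The structure map of `V`. -/
noncomputable def toX (hM : Coh.IsQCoh M) : V hM ⟶ X := CohqB.RelSpec.toBase (coequifibered hM)

theorem isAffineHom_toX (hM : Coh.IsQCoh M) : IsAffineHom (toX hM) :=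
  CohqB.RelSpec.isAffineHom_toBase (coequifibered hM)

theorem locallyOfFiniteType_toX (hM : Coh.IsCoh M) : LocallyOfFiniteType (toX hM.1) := by
  apply CohqB.RelSpec.locallyOfFiniteType_toBase (coequifibered hM.1)
  intro U
  have := hM.1
  have := FiniteType2.finite_sections_of_isFT M hM.2 U.2
  change (algebraMap Γ(X, U.toOpens) (SymmetricAlgebra Γ(X, U.toOpens) Γ(M, U.toOpens))).FiniteType
  rw [RingHom.finiteType_algebraMap]
  exact Smoothlim.SymAlg.finiteType _ _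

theorem ψ_smul {Y : Scheme.{u}} (h : Y ⟶ X) (ρ : M ⟶ Oalg h) (U : X.Opens) (r : Γ(X, U))
    (m : Γ(M, U)) :
    ((toFun h U).toAddMonoidHom.comp (ρ.app U).hom) (r • m) =
      (h.app U).hom r * ((toFun h U).toAddMonoidHom.comp (ρ.app U).hom) m := by
  change toFun h U (ρ.app U (r • m)) = _ * toFun h U (ρ.app U m)
  rw [Scheme.Modules.Hom.app_smul, toFun_smul]

/-- The ring map attached to `M ⟶ h_* O_Y`. -/
noncomputable def ψ {Y : Scheme.{u}} (h : Y ⟶ X) (ρ : M ⟶ Oalg h) (U : X.Opens) :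
    SymmetricAlgebra Γ(X, U) Γ(M, U) →+* Γ(Y, h ⁻¹ᵁ U) :=
  desc _ _ (ψ_smul h ρ U)

theorem ψ_algebraMap {Y : Scheme.{u}} (h : Y ⟶ X) (ρ : M ⟶ Oalg h) (U : X.Opens) (r : Γ(X, U)) :
    ψ h ρ U (algebraMap _ _ r) = (h.app U).hom r := desc_algebraMap _ _ _ r

theorem ψ_ι {Y : Scheme.{u}} (h : Y ⟶ X) (ρ : M ⟶ Oalg h) (U : X.Opens) (m : Γ(M, U)) :
    ψ h ρ U (SymmetricAlgebra.ι _ _ m) = toFun h U (ρ.app U m) := desc_ι _ _ _ m

theorem ψ_nat {Y : Scheme.{u}} (h : Y ⟶ X) (ρ : M ⟶ Oalg h) {U V : X.Opens} (i : U ⟶ V) :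
    (ψ h ρ U).comp (symMap (X.presheaf.map i.op).hom (M.presheaf.map i.op).hom
      (fun r m => Scheme.Modules.map_smul M i r m)) =
    (Y.presheaf.map (homOfLE (h.preimage_mono i.le)).op).hom.comp (ψ h ρ V) := by
  apply ringHom_ext
  · intro r
    rw [RingHom.comp_apply, RingHom.comp_apply, symMap_algebraMap, ψ_algebraMap, ψ_algebraMap]
    exact congr($(h.naturality i.op) r)
  · intro m
    rw [RingHom.comp_apply, RingHom.comp_apply, symMap_ι, ψ_ι, ψ_ι]
    exact (congrArg (toFun h U) (app_res ρ i.le m)).trans (map_toFun h i (ρ.app V m))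

/-- A map `M ⟶ h_* O_Y` gives a map `Y ⟶ V`. -/
noncomputable def liftData {Y : Scheme.{u}} (h : Y ⟶ X) (ρ : M ⟶ Oalg h) :
    CohqB.RelSpec.LiftData (symα M) h where
  ψ U := CommRingCat.ofHom (ψ h ρ U.toOpens)
  nat {U V} i := by
    ext1
    exact ψ_nat h ρ ((toOpensFunctor X).map i)
  comp U := by
    ext1
    refine RingHom.ext fun r => ?_
    exact ψ_algebraMap h ρ U.toOpens r

/-- The map `Y ⟶ V` attached to `M ⟶ h_* O_Y`. -/
noncomputable def toV (hM : Coh.IsQCoh M) {Y : Scheme.{u}} (h : Y ⟶ X) (ρ : M ⟶ Oalg h) :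
    Y ⟶ V hM := CohqB.RelSpec.lift (coequifibered hM) (liftData h ρ)

@[reassoc (attr := simp)]
theorem toV_toX (hM : Coh.IsQCoh M) {Y : Scheme.{u}} (h : Y ⟶ X) (ρ : M ⟶ Oalg h) :
    toV hM h ρ ≫ toX hM = h := CohqB.RelSpec.lift_toBase _ _

theorem isClosedImmersion_toV (hM : Coh.IsQCoh M) {Y : Scheme.{u}} (h : Y ⟶ X) [IsAffineHom h]
    (ρ : M ⟶ Oalg h) (hρ : ∀ U : X.Opens, IsAffineOpen U → Function.Surjective (ρ.app U)) :
    IsClosedImmersion (toV hM h ρ) := by
  apply CohqB.RelSpec.isClosedImmersion_lift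
  intro U y
  obtain ⟨m, hm⟩ := hρ U.toOpens U.2 ((toFun h U.toOpens).symm y)
  refine ⟨SymmetricAlgebra.ι _ _ m, ?_⟩
  refine (ψ_ι h ρ U.toOpens m).trans ?_
  rw [hm, AddEquiv.apply_symm_apply]

theorem ψ_comp {Y Y' : Scheme.{u}} (h : Y ⟶ X) (h' : Y' ⟶ X)
    (ρ : M ⟶ Oalg h) (ρ' : M ⟶ Oalg h') (t : Y ⟶ Y') (ht : t ≫ h' = h)
    (hρ : ρ' ≫ Omap h h' t ht = ρ) (U : X.Opens) :
    (t.appLE _ _ (le_preimage h h' t ht U)).hom.comp (ψ h' ρ' U) = ψ h ρ U := by
  apply ringHom_ext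
  · intro r
    rw [RingHom.comp_apply, ψ_algebraMap, ψ_algebraMap]
    exact appLE_app h h' t ht U r
  · intro m
    rw [RingHom.comp_apply, ψ_ι, ψ_ι, ← hρ]
    exact (Omap_app h h' t ht U (ρ'.app U m)).symm

theorem comp_toV (hM : Coh.IsQCoh M) {Y Y' : Scheme.{u}} (h : Y ⟶ X) (h' : Y' ⟶ X)
    (ρ : M ⟶ Oalg h) (ρ' : M ⟶ Oalg h') (t : Y ⟶ Y') (ht : t ≫ h' = h)
    (hρ : ρ' ≫ Omap h h' t ht = ρ) : t ≫ toV hM h' ρ' = toV hM h ρ := by
  apply RelSpec.comp_lift (coequifibered hM) (liftData h ρ) (liftData h' ρ') t ht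
  intro U
  ext1
  exact ψ_comp h h' ρ ρ' t ht hρ U.toOpens

end Groth.Agent.CohqB.AlgSym
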