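import Groth.Agent.CohqB.QC6
import Groth.Agent.CohqB.FiniteType2
import Groth.Agent.S0045

/-!
# Noetherian induction on coherent modules via submodules

`coh_induction`: on a Noetherian scheme, a property of coherent modules which is stable under extensions and such
that every nonzero coherent module has a nonzero coherent submodule with the property holds for all coherent
modules.
-/

set_option autoImplicit false

universe u

open CategoryTheory CategoryTheory.Limits AlgebraicGeometry Opposite TopologicalSpace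

namespace Groth.Agent.CohqB.FinEngine

open QC6 FiniteType FiniteType2

variable {X : Scheme.{u}}

theorem isCoh_of_iso {M N : X.Modules} (e : M ≅ N) (h : Coh.IsCoh M) : Coh.IsCoh N :=
  ⟨isQCoh_of_iso e h.1, IsFT.of_iso h.2 e⟩

theorem isCoh_cokernel {M N : X.Modules} (φ : M ⟶ N) (hM : Coh.IsQCoh M) (hN : Coh.IsCoh N) :
    Coh.IsCoh (cokernel φ) :=
  ⟨isQCoh_cokernel φ hM hN.1, IsFT.of_epi hN.2 (cokernel.π φ)⟩

theorem isCoh_image [IsLocallyNoetherian X] {M N : X.Modules} (φ : M ⟶ N) (hM : Coh.IsCoh M)
    (hN : Coh.IsQCoh N) : Coh.IsCoh (Abelian.image φ) :=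
  ⟨isQCoh_image φ hM.1 hN, IsFT.of_epi hM.2 (Abelian.factorThruImage φ)⟩

theorem isCoh_of_mono [IsLocallyNoetherian X] {M N : X.Modules} (φ : N ⟶ M) [Mono φ] (hM : Coh.IsCoh M)
    (hN : Coh.IsQCoh N) : Coh.IsCoh N :=
  have := hM.1
  ⟨hN, isFT_of_mono φ hM.2⟩

/-- Property of coherent modules stable under extensions such that every nonzero coherent module has a nonzero
coherent submodule with the property. -/
theorem coh_induction [IsNoetherian X] (P : X.Modules → Prop)
    (hiso : ∀ M N : X.Modules, (M ≅ N) → P M → P N) (h0 : ∀ M : X.Modules, IsZero M → P M)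
    (hext : ∀ S : ShortComplex X.Modules, S.ShortExact → Coh.IsCoh S.X₁ → Coh.IsCoh S.X₂ →
      Coh.IsCoh S.X₃ → P S.X₁ → P S.X₃ → P S.X₂)
    (hsub : ∀ F : X.Modules, Coh.IsCoh F → ¬ IsZero F →
      ∃ (K : X.Modules) (i : K ⟶ F), Mono i ∧ Coh.IsCoh K ∧ ¬ IsZero K ∧ P K)
    (F : X.Modules) (hF : Coh.IsCoh F) : P F := by
  let T := {S : Subobject F // Coh.IsQCoh (S : X.Modules) ∧ P (S : X.Modules)}
  have hwf : WellFounded (fun a b : T => a > b) := by
    have : WellFoundedGT T := by
      rw [wellFoundedGT_iff_monotone_chain_condition]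
      intro a
      obtain ⟨n, hn⟩ := S0045.result X F hF ⟨fun n => (a n).1, fun m n h => a.monotone h⟩
        fun n => (a n).2.1
      exact ⟨n, fun m hm => Subtype.ext (hn m hm).symm⟩
    exact this.wf
  have hbot : IsZero ((⊥ : Subobject F) : X.Modules) :=
    (isZero_zero _).of_iso Subobject.botCoeIsoZero
  obtain ⟨⟨S, hSq, hSP⟩, -, hmax⟩ := hwf.has_min Set.univ ⟨⟨⊥, isQCoh_of_isZero hbot, h0 _ hbot⟩, trivial⟩
  have hS : Coh.IsCoh (S : X.Modules) := isCoh_of_mono S.arrow hF hSq
  by_cases hQ : IsZero (cokernel S.arrow)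
  · have : Epi S.arrow := Preadditive.epi_of_isZero_cokernel _ hQ
    have : IsIso S.arrow := isIso_of_mono_of_epi _
    exact hiso _ _ (asIso S.arrow) hSP
  · exfalso
    have hQc : Coh.IsCoh (cokernel S.arrow) := isCoh_cokernel _ hSq hF
    obtain ⟨K, i, hi, hK, hKne, hKP⟩ := hsub _ hQc hQ
    let F' := pullback (cokernel.π S.arrow) i
    let j : (S : X.Modules) ⟶ F' := pullback.lift S.arrow 0 (by simp)
    have hj1 : j ≫ pullback.fst (cokernel.π S.arrow) i = S.arrow := pullback.lift_fst _ _ _
    have hj2 : j ≫ pullback.snd (cokernel.π S.arrow) i = 0 := pullback.lift_snd _ _ _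
    have hjm : Mono j := by
      have : Mono (j ≫ pullback.fst (cokernel.π S.arrow) i) := by rw [hj1]; infer_instance
      exact mono_of_mono _ (pullback.fst (cokernel.π S.arrow) i)
    have hex : (ShortComplex.mk j (pullback.snd (cokernel.π S.arrow) i) hj2).Exact := by
      apply ShortComplex.exact_of_f_is_kernel
      refine KernelFork.IsLimit.ofι' _ _ fun {W} t ht => ?_
      have h1 : (t ≫ pullback.fst (cokernel.π S.arrow) i) ≫ cokernel.π S.arrow = 0 := by
        rw [Category.assoc, pullback.condition, ← Category.assoc]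
        have : t ≫ pullback.snd (cokernel.π S.arrow) i = 0 := ht
        rw [this, zero_comp]
      refine ⟨(Abelian.monoIsKernelOfCokernel _ (cokernelIsCokernel S.arrow)).lift
        (KernelFork.ofι _ h1), ?_⟩
      have h2 : (Abelian.monoIsKernelOfCokernel _ (cokernelIsCokernel S.arrow)).lift
        (KernelFork.ofι _ h1) ≫ S.arrow = t ≫ pullback.fst (cokernel.π S.arrow) i :=
        (Abelian.monoIsKernelOfCokernel _ (cokernelIsCokernel S.arrow)).fac (KernelFork.ofι _ h1)
          WalkingParallelPair.zero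
      rw [← cancel_mono (pullback.fst (cokernel.π S.arrow) i)]
      change ((Abelian.monoIsKernelOfCokernel _ (cokernelIsCokernel S.arrow)).lift
        (KernelFork.ofι _ h1) ≫ j) ≫ _ = _
      rw [Category.assoc, hj1, h2]
    have hse : (ShortComplex.mk j (pullback.snd (cokernel.π S.arrow) i) hj2).ShortExact :=
      { exact := hex, mono_f := hjm, epi_g := Abelian.epi_pullback_of_epi_f _ _ }
    have hF'q : Coh.IsQCoh F' := isQCoh_of_shortExact₂ hse hSq hK.1
    have hF'c : Coh.IsCoh F' := isCoh_of_mono (pullback.fst (cokernel.π S.arrow) i) hF hF'q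
    have hF'P : P F' := hext _ hse hS hF'c hK hSP hKP
    let S' : Subobject F := Subobject.mk (pullback.fst (cokernel.π S.arrow) i)
    have e : (S' : X.Modules) ≅ F' := Subobject.underlyingIso _
    have hS' : Coh.IsQCoh (S' : X.Modules) ∧ P (S' : X.Modules) :=
      ⟨isQCoh_of_iso e.symm hF'q, hiso _ _ e.symm hF'P⟩
    have hle : S ≤ S' := Subobject.le_mk_of_comm j hj1
    have hnle : ¬ S' ≤ S := by
      intro h
      apply hKne
      have h1 : pullback.fst (cokernel.π S.arrow) i ≫ cokernel.π S.arrow = 0 := by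
        have h2 := Subobject.ofMkLE_arrow h
        rw [← h2, Category.assoc, cokernel.condition, comp_zero]
      rw [pullback.condition] at h1
      have h2 : pullback.snd (cokernel.π S.arrow) i = 0 := by
        rw [← cancel_mono i, h1, zero_comp]
      have h3 : Epi (pullback.snd (cokernel.π S.arrow) i) := Abelian.epi_pullback_of_epi_f _ _
      rw [h2] at h3
      exact (IsZero.iff_id_eq_zero K).2 ((cancel_epi (0 : F' ⟶ K)).1 (by simp))
    exact hmax ⟨S', hS'⟩ trivial (lt_of_le_not_ge hle hnle)

end Groth.Agent.CohqB.FinEngine
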