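import Groth.Agent.CohqB.FiniteType2

/-!
# Morphisms between restrictions of quasi-coherent modules to an affine open
from linear maps between the sections
-/

set_option autoImplicit false

universe u

open CategoryTheory CategoryTheory.Limits AlgebraicGeometry Opposite TopologicalSpace

namespace Groth.Agent.CohqB.FinHom

open FiniteType FiniteType2

/-- For an adjunction `F ⊣ G` and `M` with invertible counit, `Hom(M, N) → Hom(GM, GN)` is surjective. -/
theorem exists_hom_of_adj {C D : Type*} [Category C] [Category D] {F : C ⥤ D} {G : D ⥤ C} (adj : F ⊣ G)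
    {M N : D} (hM : IsIso (adj.counit.app M)) (g : G.obj M ⟶ G.obj N) : ∃ φ : M ⟶ N, G.map φ = g := by
  refine ⟨inv (adj.counit.app M) ≫ F.map g ≫ adj.counit.app N, ?_⟩
  have h1 : G.map (inv (adj.counit.app M)) = adj.unit.app (G.obj M) := by
    rw [Functor.map_inv, IsIso.inv_eq_of_inv_hom_id]
    exact adj.right_triangle_components M
  rw [Functor.map_comp, Functor.map_comp, h1, adj.unit_naturality_assoc,
    adj.right_triangle_components, Category.comp_id]

/-- On an affine scheme, linear maps between global sections of quasi-coherent modules come from morphisms. -/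
theorem exists_hom_spec {R : CommRingCat.{u}} (M N : (Spec R).Modules) [Coh.IsQCoh M]
    (g : Γ(M, ⊤) →ₗ[R] Γ(N, ⊤)) : ∃ φ : M ⟶ N, ∀ m : Γ(M, ⊤), φ.app ⊤ m = g m := by
  have h : IsIso (tilde.adjunction.counit.app M) :=
    inferInstanceAs (IsIso (Scheme.Modules.fromTildeΓ M))
  obtain ⟨φ, hφ⟩ := exists_hom_of_adj (tilde.adjunction (R := R)) h (N := N)
    (ModuleCat.ofHom (R := R) (X := Γ(M, ⊤)) (Y := Γ(N, ⊤)) g)
  refine ⟨φ, fun m => ?_⟩
  exact congr($(hφ).hom m)

variable {X : Scheme.{u}}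

theorem map_map (M : X.Modules) {V W T : X.Opens} (h : W ≤ V) (h' : T ≤ W) (s : Γ(M, V)) :
    M.presheaf.map (homOfLE h').op (M.presheaf.map (homOfLE h).op s) =
      M.presheaf.map (homOfLE (h'.trans h)).op s := by
  rw [← ConcreteCategory.comp_apply, ← Functor.map_comp]
  rfl

theorem map_self (M : X.Modules) {V : X.Opens} (h : V ≤ V) (s : Γ(M, V)) :
    M.presheaf.map (homOfLE h).op s = s := by
  have : (homOfLE h).op = 𝟙 (op V) := rfl
  rw [this, M.presheaf.map_id]
  rfl

theorem app_map {M N : X.Modules} (φ : M ⟶ N) {V W : X.Opens} (h : W ≤ V) (s : Γ(M, V)) :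
    φ.app W (M.presheaf.map (homOfLE h).op s) = N.presheaf.map (homOfLE h).op (φ.app V s) :=
  congr($(φ.mapPresheaf.naturality (homOfLE h).op) s)

variable {U : X.Opens} (hU : IsAffineOpen U)

/-- the comparison of restrictions -/
noncomputable def restrictFunctorIsoSpec :
    Scheme.Modules.restrictFunctor hU.fromSpec ⋙ Scheme.Modules.restrictFunctor hU.isoSpec.hom ≅
      Scheme.Modules.restrictFunctor U.ι :=
  (Scheme.Modules.restrictFunctorComp hU.isoSpec.hom hU.fromSpec).symm ≪≫
    Scheme.Modules.restrictFunctorCongr hU.isoSpec_hom_fromSpec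

theorem fromSpecEquiv_apply (M : X.Modules) (x : Γ(M.restrict hU.fromSpec, ⊤)) :
    fromSpecEquiv M hU x = M.presheaf.map (homOfLE (fromSpec_image_top hU).ge).op
      (show Γ(M, hU.fromSpec ''ᵁ ⊤) from x) := rfl

theorem image_isoSpec_top : hU.isoSpec.hom ''ᵁ ⊤ = ⊤ := by
  rw [Scheme.Hom.image_top_eq_opensRange]
  exact Scheme.Hom.opensRange_of_isIso _

theorem image_image_top : hU.fromSpec ''ᵁ (hU.isoSpec.hom ''ᵁ ⊤) = U.ι ''ᵁ ⊤ := by
  rw [image_isoSpec_top, fromSpec_image_top]
  simp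

theorem isoSpec_inv_app_top (P : X.Modules) :
    ((restrictFunctorIsoSpec hU).inv.app P).app ⊤ =
      P.presheaf.map (homOfLE (image_image_top hU).le).op := by
  have h : (restrictFunctorIsoSpec hU).inv.app P =
      (Scheme.Modules.restrictFunctorCongr hU.isoSpec_hom_fromSpec).inv.app P ≫
      (Scheme.Modules.restrictFunctorComp hU.isoSpec.hom hU.fromSpec).hom.app P := rfl
  rw [h, Scheme.Modules.Hom.comp_app, Scheme.Modules.restrictFunctorCongr_inv_app_app,
    Scheme.Modules.restrictFunctorComp_hom_app_app]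
  exact (P.presheaf.map_comp _ _).symm

theorem isoSpec_hom_app_top (P : X.Modules) :
    ((restrictFunctorIsoSpec hU).hom.app P).app ⊤ =
      P.presheaf.map (homOfLE (image_image_top hU).ge).op := by
  have h : (restrictFunctorIsoSpec hU).hom.app P =
      (Scheme.Modules.restrictFunctorComp hU.isoSpec.hom hU.fromSpec).inv.app P ≫
      (Scheme.Modules.restrictFunctorCongr hU.isoSpec_hom_fromSpec).hom.app P := rfl
  rw [h, Scheme.Modules.Hom.comp_app, Scheme.Modules.restrictFunctorCongr_hom_app_app,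
    Scheme.Modules.restrictFunctorComp_inv_app_app]
  exact (P.presheaf.map_comp _ _).symm

theorem exists_hom_restrict (M N : X.Modules) [Coh.IsQCoh M] {U : X.Opens} (hU : IsAffineOpen U)
    (l : Γ(M, U) →ₗ[Γ(X, U)] Γ(N, U)) :
    ∃ φ : M.restrict U.ι ⟶ N.restrict U.ι, ∀ (m : Γ(M, U)),
      φ.app ⊤ (M.presheaf.map (homOfLE (U.ι_image_le ⊤)).op m) =
        N.presheaf.map (homOfLE (U.ι_image_le ⊤)).op (l m) := by
  have hq : Coh.IsQCoh (M.restrict hU.fromSpec) := inferInstance
  obtain ⟨φ, hφ⟩ := exists_hom_spec (M.restrict hU.fromSpec) (N.restrict hU.fromSpec)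
    ((fromSpecEquiv N hU).symm.toLinearMap ∘ₗ l ∘ₗ (fromSpecEquiv M hU).toLinearMap)
  refine ⟨(restrictFunctorIsoSpec hU).inv.app M ≫
    (Scheme.Modules.restrictFunctor hU.isoSpec.hom).map φ ≫
    (restrictFunctorIsoSpec hU).hom.app N, fun m => ?_⟩
  have h0 : hU.fromSpec ''ᵁ ⊤ ≤ U := (fromSpec_image_top hU).le
  have h1 := hφ (M.presheaf.map (homOfLE h0).op m)
  have h2 : fromSpecEquiv M hU (M.presheaf.map (homOfLE h0).op m) = m := by
    rw [fromSpecEquiv_apply]
    exact (map_map M h0 (fromSpec_image_top hU).ge m).trans (map_self M _ m)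
  have h2' : (fromSpecEquiv N hU).symm (l m) = N.presheaf.map (homOfLE h0).op (l m) := by
    rw [LinearEquiv.symm_apply_eq, fromSpecEquiv_apply]
    exact ((map_map N h0 (fromSpec_image_top hU).ge _).trans (map_self N _ _)).symm
  have h4 : hU.isoSpec.hom ''ᵁ ⊤ ≤ ⊤ := le_top
  have h5 : hU.fromSpec ''ᵁ (hU.isoSpec.hom ''ᵁ ⊤) ≤ hU.fromSpec ''ᵁ ⊤ :=
    Scheme.Hom.image_mono _ h4
  have e2 : φ.app ⊤ (M.presheaf.map (homOfLE h0).op m) =
      (N.presheaf.map (homOfLE h0).op (l m) : Γ(N, hU.fromSpec ''ᵁ ⊤)) := by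
    rw [← h2', h1]
    change (fromSpecEquiv N hU).symm (l (fromSpecEquiv M hU _)) = _
    rw [h2]
  have e3 := app_map φ h4 (M.presheaf.map (homOfLE h0).op m)
  rw [e2] at e3
  have e4 : (M.presheaf.map (homOfLE (image_image_top hU).le).op
      (M.presheaf.map (homOfLE (U.ι_image_le ⊤)).op m) : Γ(M, hU.fromSpec ''ᵁ (hU.isoSpec.hom ''ᵁ ⊤))) =
      M.presheaf.map (homOfLE h5).op (M.presheaf.map (homOfLE h0).op m) := by
    rw [map_map, map_map]
  have e5 : (N.presheaf.map (homOfLE (image_image_top hU).ge).op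
      (N.presheaf.map (homOfLE h5).op (N.presheaf.map (homOfLE h0).op (l m))) : Γ(N, U.ι ''ᵁ ⊤)) =
      N.presheaf.map (homOfLE (U.ι_image_le ⊤)).op (l m) := by
    rw [map_map, map_map]
  rw [Scheme.Modules.Hom.comp_app, Scheme.Modules.Hom.comp_app, ConcreteCategory.comp_apply,
    ConcreteCategory.comp_apply, isoSpec_hom_app_top, isoSpec_inv_app_top]
  refine Eq.trans ?_ e5
  refine congrArg (N.presheaf.map (homOfLE (image_image_top hU).ge).op) ?_
  refine Eq.trans ?_ e3
  exact congrArg (φ.app (hU.isoSpec.hom ''ᵁ ⊤)) e4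

end Groth.Agent.CohqB.FinHom
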