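import Groth.Agent.CohqB.FinAlg
import Groth.Agent.CohqB.FinHom
import Groth.Agent.CohqB.FinKill
import Groth.Agent.CohqB.QC6
import Groth.Agent.CohqA.IdealMod
import Groth.Agent.CohqA.AffPush
import Groth.Agent.Divis.IdealComap
import Groth.Agent.S0816

/-!
# Finite surjective morphisms: every nonzero coherent module receives a nonzero map from a direct image

`exists_push_hom_ne_zero`: `f : Y ⟶ X` finite surjective, `X` Noetherian, `F ≠ 0` coherent on `X`.  Then there are
a coherent `O_Y`-module `G` and a nonzero morphism `f_* G ⟶ F`.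
-/

set_option autoImplicit false

universe u

open CategoryTheory CategoryTheory.Limits AlgebraicGeometry Opposite TopologicalSpace

namespace Groth.Agent.CohqB.FinKey

open QC2 QC6 FinKill FinHom

variable {X Y : Scheme.{u}}

theorem exists_affine_nontrivial (F : X.Modules) (h : ¬ IsZero F) :
    ∃ U : X.Opens, IsAffineOpen U ∧ Nontrivial Γ(F, U) := by
  by_contra hc
  push Not at hc
  apply h
  rw [IsZero.iff_id_eq_zero]
  apply Scheme.Modules.hom_ext
  intro V
  ext s
  change s = 0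
  have hc' : ∀ x : V, ∃ (D : X.Opens) (hD : D ≤ V), x.1 ∈ D ∧ res F hD s = 0 := by
    rintro ⟨x, hx⟩
    obtain ⟨D, hD, hxD, hDV⟩ := exists_isAffineOpen_mem_and_subset hx
    have := hc D hD
    exact ⟨D, hDV, hxD, Subsingleton.elim _ _⟩
  choose D hD hxD hres using hc'
  refine section_ext F D hD (fun x hx => Opens.mem_iSup.2 ⟨⟨x, hx⟩, hxD ⟨x, hx⟩⟩) _ _ fun x => ?_
  rw [hres, map_zero]

/-- Surjectivity of `f` on spectra of sections over an affine open. -/
theorem comap_app_surjective (f : Y ⟶ X) [IsAffineHom f] [Surjective f] {U : X.Opens} (hU : IsAffineOpen U) :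
    Function.Surjective (PrimeSpectrum.comap (f.app U).hom) := by
  intro p
  obtain ⟨y, hy⟩ := f.surjective (hU.fromSpec p)
  have hV : IsAffineOpen (f ⁻¹ᵁ U) := hU.preimage f
  have hyV : y ∈ f ⁻¹ᵁ U := by
    change f y ∈ U
    rw [hy]
    have : hU.fromSpec p ∈ Set.range hU.fromSpec := ⟨p, rfl⟩
    rwa [hU.range_fromSpec] at this
  obtain ⟨q, hq⟩ : y ∈ Set.range hV.fromSpec := by
    rw [hV.range_fromSpec]; exact hyV
  refine ⟨q, ?_⟩
  apply hU.fromSpec.isOpenEmbedding.injective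
  have h1 : Spec.map (f.app U) ≫ hU.fromSpec = hV.fromSpec ≫ f := by
    rw [← hU.SpecMap_appLE_fromSpec f hV le_rfl, Scheme.Hom.appLE_eq_app]
  have h2 : hU.fromSpec (Spec.map (f.app U) q) = f (hV.fromSpec q) := by
    rw [← Scheme.Hom.comp_apply, h1, Scheme.Hom.comp_apply]
  rw [hq, hy] at h2
  exact h2

/-- A nonzero map defined over an affine open. -/
theorem exists_local (f : Y ⟶ X) [IsFinite f] [Surjective f] [IsLocallyNoetherian X] (F : X.Modules)
    {U : X.Opens} (hU : IsAffineOpen U) [Nontrivial Γ(F, U)] :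
    ∃ l : Γ((Coh.push f).obj (Coh.structureModule Y), U) →ₗ[Γ(X, U)] Γ(F, U),
      l (show Γ((Coh.push f).obj (Coh.structureModule Y), U) from (1 : Γ(Y, f ⁻¹ᵁ U))) ≠ 0 := by
  have hN : IsNoetherianRing Γ(X, U) := IsLocallyNoetherian.component_noetherian ⟨U, hU⟩
  have h2 : (f.app U).hom.Finite := IsFinite.finite_app f U hU
  let _ : Algebra Γ(X, U) Γ(Y, f ⁻¹ᵁ U) := (f.app U).hom.toAlgebra
  have : Module.Finite Γ(X, U) Γ(Y, f ⁻¹ᵁ U) := h2
  obtain ⟨l, hl⟩ := FinAlg.exists_linearMap_ne_zero (A := Γ(X, U)) (B := Γ(Y, f ⁻¹ᵁ U)) (M := Γ(F, U))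
    (comap_app_surjective f hU)
  exact ⟨{ toFun := fun s => l s
           map_add' := fun s t => l.map_add s t
           map_smul' := fun r s => l.map_smul r s }, hl⟩

theorem eq_zero_of_locally (M : X.Modules) {V : X.Opens} (s : Γ(M, V))
    (h : ∀ x : X, x ∈ V → ∃ (D : X.Opens) (hD : D ≤ V), x ∈ D ∧ res M hD s = 0) : s = 0 := by
  choose D hD hxD hres using h
  refine section_ext M (fun x : V => D x.1 x.2) (fun x => hD x.1 x.2)
    (fun x hx => Opens.mem_iSup.2 ⟨⟨x, hx⟩, hxD x hx⟩) _ _ fun x => ?_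
  rw [hres, map_zero]

/-- If `ι : F' ⟶ F` is an isomorphism over `U` then the cokernel has no sections over opens inside `U`. -/
theorem cokernel_sections_eq_zero {F' F : X.Modules} (ι : F' ⟶ F) (hF : Coh.IsQCoh F) (hF' : Coh.IsQCoh F')
    (U : X.Opens) (hι : IsIso ((Scheme.Modules.restrictFunctor U.ι).map ι)) (W : X.Opens) (hW : W ≤ U)
    (m : Γ(cokernel ι, W)) : m = 0 := by
  apply eq_zero_of_locally
  intro x hx
  obtain ⟨D, hD, hxD, hDW⟩ := exists_isAffineOpen_mem_and_subset hx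
  refine ⟨D, hDW, hxD, ?_⟩
  obtain ⟨t, ht⟩ := QC5.app_surjective_of_epi (cokernel.π ι) hF (isQCoh_cokernel ι hF' hF) hD
    (res _ hDW m)
  have hDU : D ≤ U := le_trans hDW hW
  have h1 : IsIso (((Scheme.Modules.restrictFunctor U.ι).map ι).app (U.ι ⁻¹ᵁ D)) := inferInstance
  have h2 : IsIso (ι.app (U.ι ''ᵁ (U.ι ⁻¹ᵁ D))) := h1
  have h3 : U.ι ''ᵁ (U.ι ⁻¹ᵁ D) = D := by
    rw [Scheme.Hom.image_preimage_eq_opensRange_inf]
    simpa using hDU
  rw [h3] at h2
  obtain ⟨t', rfl⟩ := (ConcreteCategory.bijective_of_isIso (ι.app D)).2 t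
  have h4 : (ι ≫ cokernel.π ι).app D t' = 0 := by
    rw [cokernel.condition]; rfl
  rw [← ht]
  exact h4

theorem vanishingIdeal_compl_ideal_eq_top (U : X.affineOpens) :
    (Scheme.IdealSheafData.vanishingIdeal (FinKill.compl U.1)).ideal U = ⊤ := by
  rw [Scheme.IdealSheafData.vanishingIdeal_ideal]
  have : U.2.fromSpec ⁻¹' (FinKill.compl U.1 : Set X) = ∅ := by
    ext p
    simp only [Set.mem_preimage, Set.mem_empty_iff_false, iff_false]
    intro hp
    apply hp
    have : U.2.fromSpec p ∈ Set.range U.2.fromSpec := ⟨p, rfl⟩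
    rwa [U.2.range_fromSpec] at this
  exact (congrArg PrimeSpectrum.vanishingIdeal this).trans PrimeSpectrum.vanishingIdeal_empty

/-- The composite `f_* (J O_Y) ⟶ f_* O_Y ⟶ Q` vanishes if `J` kills `Q`. -/
theorem push_idealModι_comp_eq_zero (f : Y ⟶ X) [IsAffineHom f] (J : X.IdealSheafData) (Q : X.Modules)
    (hQ : ClSub.KilledByIdeal J Q) (π : (Coh.push f).obj (Coh.structureModule Y) ⟶ Q) :
    (Coh.push f).map (ClSub.idealModι (J.comap f)) ≫ π = 0 := by
  apply Scheme.Modules.hom_ext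
  intro V
  ext s
  change _ = 0
  apply eq_zero_of_locally
  intro x hx
  obtain ⟨D, hD, hxD, hDV⟩ := exists_isAffineOpen_mem_and_subset hx
  refine ⟨D, hDV, hxD, ?_⟩
  rw [← app_res]
  generalize res ((Coh.push f).obj (ClSub.idealMod (J.comap f))) hDV s = g
  rw [Scheme.Modules.Hom.comp_app, ConcreteCategory.comp_apply]
  change Γ(ClSub.idealMod (J.comap f), f ⁻¹ᵁ D) at g
  have h1 : (ClSub.idealModι (J.comap f)).app (f ⁻¹ᵁ D) g ∈ (J.comap f).ideal ⟨f ⁻¹ᵁ D, hD.preimage f⟩ :=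
    (CohqA.IdealMod.exists_idealModι_app_iff _ ⟨f ⁻¹ᵁ D, hD.preimage f⟩ _).1 ⟨g, rfl⟩
  rw [Divis.IdealComap.ideal_comap J f ⟨D, hD⟩ ⟨f ⁻¹ᵁ D, hD.preimage f⟩ le_rfl,
    Scheme.Hom.appLE_eq_app] at h1
  have h2 : ∀ b ∈ (J.ideal ⟨D, hD⟩).map (f.app D).hom, ∀ c : Γ(Y, f ⁻¹ᵁ D),
      π.app D (show Γ((Coh.push f).obj (Coh.structureModule Y), D) from c * b) = 0 := by
    intro b hb
    induction hb using Submodule.span_induction with
    | mem y hy =>
      obtain ⟨r, hr, rfl⟩ := hy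
      intro c
      have h3 : (show Γ((Coh.push f).obj (Coh.structureModule Y), D) from c * (f.app D).hom r) =
        r • (show Γ((Coh.push f).obj (Coh.structureModule Y), D) from c) :=
        show c * (f.app D).hom r = (f.app D).hom r * c from mul_comm _ _
      rw [h3, Scheme.Modules.Hom.app_smul]
      exact hQ ⟨D, hD⟩ r hr _
    | zero =>
      intro c
      rw [mul_zero]
      exact map_zero (π.app D).hom
    | add y z _ _ hy hz =>
      intro c
      rw [mul_add]
      refine (map_add (π.app D).hom _ _).trans ?_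
      rw [show (π.app D).hom _ = 0 from hy c, show (π.app D).hom _ = 0 from hz c, add_zero]
    | smul r y _ hy =>
      intro c
      have := hy (c * r)
      rwa [mul_assoc] at this
  have h3 := h2 _ h1 1
  rw [one_mul] at h3
  exact h3

/-- Key lemma for devissage along a finite surjective morphism: every nonzero coherent module on `X` receives
a nonzero map from the direct image of a coherent module on `Y`. -/
theorem exists_push_hom_ne_zero (f : Y ⟶ X) [IsFinite f] [Surjective f] [IsNoetherian X] (F : X.Modules)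
    (hF : Coh.IsCoh F) (hne : ¬ IsZero F) :
    ∃ (G : Y.Modules) (φ : (Coh.push f).obj G ⟶ F), Coh.IsCoh G ∧ φ ≠ 0 := by
  have hY : IsLocallyNoetherian Y := LocallyOfFiniteType.isLocallyNoetherian f
  obtain ⟨U, hU, hnt⟩ := exists_affine_nontrivial F hne
  obtain ⟨l, hl⟩ := exists_local f F hU
  have hO : Coh.IsCoh (Coh.structureModule Y) := CurvesB.UnitCoh.isCoh_structureModule Y
  have hP : Coh.IsCoh ((Coh.push f).obj (Coh.structureModule Y)) :=
    ⟨CohqA.AffPush.isQCoh_push f _ hO.1, CohqA.AffPush.isFT_push f _ hO.1 hO.2⟩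
  have hPq := hP.1
  obtain ⟨φ, hφ⟩ := exists_hom_restrict ((Coh.push f).obj (Coh.structureModule Y)) F hU l
  obtain ⟨F', ι, φ', hmono, hF', hiso, hcomp⟩ := S0816.result X _ F hP hF U φ
  have hQ : Coh.IsCoh (cokernel ι) :=
    ⟨isQCoh_cokernel ι hF'.1 hP.1, FiniteType.IsFT.of_epi (M := (Coh.push f).obj (Coh.structureModule Y)) hP.2 (cokernel.π ι)⟩
  obtain ⟨n, hn⟩ := exists_pow_killedByIdeal (cokernel ι) hQ U
    (cokernel_sections_eq_zero ι hP.1 hF'.1 U hiso)
  set J := (Scheme.IdealSheafData.vanishingIdeal (FinKill.compl U)) ^ n with hJ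
  have h0 := push_idealModι_comp_eq_zero f J (cokernel ι) hn (cokernel.π ι)
  let k : (Coh.push f).obj (ClSub.idealMod (J.comap f)) ⟶ F' :=
    (Abelian.monoIsKernelOfCokernel _ (cokernelIsCokernel ι)).lift (KernelFork.ofι _ h0)
  have hk : k ≫ ι = (Coh.push f).map (ClSub.idealModι (J.comap f)) :=
    (Abelian.monoIsKernelOfCokernel _ (cokernelIsCokernel ι)).fac (KernelFork.ofι _ h0)
      WalkingParallelPair.zero
  refine ⟨ClSub.idealMod (J.comap f), k ≫ φ', ⟨CohqA.IdealMod.isQCoh_idealMod _,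
    CohqA.IdealMod.isFT_idealMod _ fun V => ?_⟩, fun hz => hl ?_⟩
  · have : IsNoetherianRing Γ(Y, V.1) := IsLocallyNoetherian.component_noetherian V
    exact IsNoetherian.noetherian _
  · -- a section of the ideal over `f ⁻¹ U` which is the unit
    have h1 : (1 : Γ(Y, f ⁻¹ᵁ U)) ∈ (J.comap f).ideal ⟨f ⁻¹ᵁ U, hU.preimage f⟩ := by
      rw [Divis.IdealComap.ideal_comap J f ⟨U, hU⟩ ⟨f ⁻¹ᵁ U, hU.preimage f⟩ le_rfl, hJ,
        Scheme.IdealSheafData.ideal_pow, Pi.pow_apply,
        vanishingIdeal_compl_ideal_eq_top ⟨U, hU⟩, Ideal.top_pow, Ideal.map_top]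
      trivial
    obtain ⟨g, hg⟩ := (CohqA.IdealMod.exists_idealModι_app_iff _ ⟨f ⁻¹ᵁ U, hU.preimage f⟩ _).2 h1
    let x : Γ(F', U) := k.app U g
    have hx : ι.app U x = (show Γ((Coh.push f).obj (Coh.structureModule Y), U) from (1 : Γ(Y, f ⁻¹ᵁ U))) := by
      have := congr(($hk).app U g)
      rw [Scheme.Modules.Hom.comp_app] at this
      exact this.trans hg
    have hx' : φ'.app U x = 0 := by
      have := congr(($hz).app U g)
      rw [Scheme.Modules.Hom.comp_app] at this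
      exact this
    have hUU : U.ι ''ᵁ ⊤ ≤ U := U.ι_image_le ⊤
    have h2 : φ'.app (U.ι ''ᵁ ⊤) (res F' hUU x) =
        φ.app ⊤ (ι.app (U.ι ''ᵁ ⊤) (res F' hUU x)) :=
      congr(($hcomp).app ⊤ (res F' hUU x))
    rw [app_res, app_res, hx, hx', map_zero] at h2
    have h3 := hφ (show Γ((Coh.push f).obj (Coh.structureModule Y), U) from (1 : Γ(Y, f ⁻¹ᵁ U)))
    have h4 : res F hUU (l (show Γ((Coh.push f).obj (Coh.structureModule Y), U) from
        (1 : Γ(Y, f ⁻¹ᵁ U)))) = 0 := h3.symm.trans h2.symm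
    have h5 := (res_injective_of_eq F hUU (by simp)).1
    exact h5 (h4.trans (map_zero _).symm)

end Groth.Agent.CohqB.FinKey
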