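import Groth.Agent.CohqB.VanTw
import Groth.Agent.CohqB.FinKey
import Groth.Agent.CohqB.FinEngine
import Groth.Agent.CohqB.AmpGeneric
import Groth.Agent.Grpsch.PicGrp
import Groth.Agent.VarietyB.ProjForm
import Groth.Agent.Ega2.QCohLocal
import Groth.Agent.CohqA.AffPush
import Groth.Agent.S0012
import Groth.Agent.S0016

/-!
# Eventual vanishing descends along finite surjective morphisms
-/

set_option autoImplicit false
universe u

open CategoryTheory CategoryTheory.Limits AlgebraicGeometry Opposite TopologicalSpace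

namespace Groth.Agent.CohqB.FinAmple

open Groth.Agent.CohqB.LocBaseHH Groth.Agent.CohqB.SerTw Groth.Agent.CohqB.VanTw
open Groth.Agent.Fdesc.LocGen (isInvertible_tensorPow isInvertible_pullback)

variable {X Y : Scheme.{u}}

theorem hasBases_of_isInvertible {L : X.Modules} (hL : PicF.IsInvertible L) :
    VarietyB.TensCoh.HasBases L :=
  VarietyB.TensCoh.HasBases.of_isFinLocFree
    (Ega2.QCohLocal.isFinLocFree_of_rank (Ega2.QCohLocal.isFinLocFreeOfRank_one_iff.mpr hL))

open Grpsch.PicGrp in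
/-- `f^*(L^n) ≅ (f^*L)^n`. -/
theorem nonempty_pullback_tensorPow (f : Y ⟶ X) {L : X.Modules} (hL : PicF.IsInvertible L) (n : ℕ) :
    Nonempty ((Scheme.Modules.pullback f).obj (CohB1.tensorPow L n) ≅
      CohB1.tensorPow ((Scheme.Modules.pullback f).obj L) n) := by
  have h : pull f (mk (CohB1.tensorPow L n) (isInvertible_tensorPow hL n)) =
      mk (CohB1.tensorPow ((Scheme.Modules.pullback f).obj L) n)
        (isInvertible_tensorPow (isInvertible_pullback f hL) n) := by
    rw [mk_tensorPow hL, mk_tensorPow (isInvertible_pullback f hL), map_pow, pull_mk]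
  rw [pull_mk, mk_eq_iff] at h
  exact h

theorem isCoh_push (f : Y ⟶ X) [IsFinite f] {G : Y.Modules} (hG : Coh.IsCoh G) :
    Coh.IsCoh ((Coh.push f).obj G) :=
  ⟨CohqA.AffPush.isQCoh_push f _ hG.1, CohqA.AffPush.isFT_push f _ hG.1 hG.2⟩

/-- `f_* G ⊗ L^n ≅ f_*(G ⊗ (f^*L)^n)`. -/
theorem nonempty_push_tw (f : Y ⟶ X) {L : X.Modules} (hL : PicF.IsInvertible L) (G : Y.Modules)
    (n : ℕ) :
    Nonempty (CohB1.tensorMod ((Coh.push f).obj G) (CohB1.tensorPow L n) ≅
      (Coh.push f).obj (CohB1.tensorMod G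
        (CohB1.tensorPow ((Scheme.Modules.pullback f).obj L) n))) := by
  obtain ⟨e⟩ := nonempty_pullback_tensorPow f hL n
  exact ⟨Ega2.Tens.swap _ _ ≪≫
    VarietyB.ProjForm.projIso f (hasBases_of_isInvertible (isInvertible_tensorPow hL n)) G ≪≫
    (Coh.push f).mapIso (Ega2.Tens.mapTIso e (Iso.refl G) ≪≫ Ega2.Tens.swap _ _)⟩

theorem ev_push (f : Y ⟶ X) [IsAffineHom f] {L : X.Modules} (hL : PicF.IsInvertible L)
    {G : Y.Modules} (hG : Coh.IsQCoh G) {p : ℕ}
    (h : Ev ((Scheme.Modules.pullback f).obj L) p G) : Ev L p ((Coh.push f).obj G) := by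
  obtain ⟨n₀, h⟩ := h
  refine ⟨n₀, fun n hn => ?_⟩
  obtain ⟨e⟩ := nonempty_push_tw f hL G n
  have hq : Coh.IsQCoh (CohB1.tensorMod G
      (CohB1.tensorPow ((Scheme.Modules.pullback f).obj L) n)) :=
    Ega2.TensGen.isQCoh_tensor hG (isInvertible_tensorPow (isInvertible_pullback f hL) n)
  obtain ⟨e'⟩ := S0012.result f (CohB1.tensorMod G
      (CohB1.tensorPow ((Scheme.Modules.pullback f).obj L) n)) p
  have := h n hn
  exact subsingleton_of_iso e.symm p e'.symm.toEquiv.subsingleton

section KerIm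

variable {C : Type*} [Category* C] [Abelian C]

/-- `ker φ → M → im φ`. -/
noncomputable def kerIm {M N : C} (φ : M ⟶ N) : ShortComplex C :=
  ShortComplex.mk (kernel.ι φ) (Abelian.factorThruImage φ) (by
    rw [← cancel_mono (Abelian.image.ι φ), Category.assoc, Abelian.image.fac, kernel.condition,
      zero_comp])

theorem kerIm_shortExact {M N : C} (φ : M ⟶ N) : (kerIm φ).ShortExact := by
  refine { exact := ?_, mono_f := by dsimp [kerIm]; infer_instance,
           epi_g := by dsimp [kerIm]; infer_instance }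
  refine ShortComplex.exact_of_f_is_kernel _ ?_
  refine KernelFork.IsLimit.ofι _ _ (fun {W} (g : W ⟶ M) hg => kernel.lift φ g ?_) ?_ ?_
  · have hg' : g ≫ Abelian.factorThruImage φ = 0 := hg
    rw [← Abelian.image.fac φ, ← Category.assoc, hg', zero_comp]
  · intro W g hg
    exact kernel.lift_ι _ _ _
  · intro W g hg m hm
    exact (cancel_mono (kernel.ι φ)).mp ((show _ = g from hm).trans (kernel.lift_ι φ g _).symm)

end KerIm

/-- Serre vanishing descends along a finite surjective morphism. -/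
theorem ev_of_finite_surjective (f : Y ⟶ X) [IsFinite f] [Surjective f] [IsNoetherian X]
    {L : X.Modules} (hL : PicF.IsInvertible L)
    (h : ∀ G : Y.Modules, Coh.IsCoh G → ∀ p, 0 < p → Ev ((Scheme.Modules.pullback f).obj L) p G)
    (F : X.Modules) (hF : Coh.IsCoh F) (p : ℕ) (hp : 0 < p) : Ev L p F := by
  obtain ⟨d, hd⟩ := S0016.result X
  suffices H : ∀ k p : ℕ, 0 < p → d ≤ p + k → ∀ F : X.Modules, Coh.IsCoh F → Ev L p F from
    H d p hp (by omega) F hF
  intro k
  induction k with
  | zero =>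
    intro p hp hdp F hF
    exact ⟨0, fun n _ => hd _ (Ega2.TensGen.isQCoh_tensor hF.1 (isInvertible_tensorPow hL n)) p hdp⟩
  | succ k ih =>
    intro p hp hdp F hF
    refine FinEngine.coh_induction (Ev L p) (fun M N e hM => hM.of_iso e)
      (fun M hM => Ev.of_isZero hM) (fun S hS _ _ _ h₁ h₃ => Ev.middle hL hS h₁ h₃) ?_ F hF
    intro F hF hne
    obtain ⟨G, φ, hG, hφ⟩ := FinKey.exists_push_hom_ne_zero f F hF hne
    have hpG := isCoh_push f hG
    refine ⟨Abelian.image φ, Abelian.image.ι φ, inferInstance,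
      FinEngine.isCoh_image φ hpG hF.1, ?_, ?_⟩
    · intro hz
      apply hφ
      rw [← Abelian.image.fac φ, hz.eq_of_src (Abelian.image.ι φ) 0, comp_zero]
    · have hS := kerIm_shortExact φ
      have h2 : Ev L p (kerIm φ).X₂ := ev_push f hL hG.1 (h G hG p hp)
      have hK : Coh.IsCoh (kerIm φ).X₁ := SerTw.isCoh_kernel φ hpG hF.1
      have h1 : Ev L (p + 1) (kerIm φ).X₁ := ih (p + 1) (by omega) (by omega) _ hK
      have h3 : Ev L p (kerIm φ).X₃ := Ev.right hL hS h2 h1
      exact h3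

end Groth.Agent.CohqB.FinAmple
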