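import Groth.Agent.CohqB.AmpGeneric
import Mathlib.AlgebraicGeometry.Fiber
import Mathlib.AlgebraicGeometry.Stalk

/-!
# Ampleness on fibres under base change
-/

set_option autoImplicit false
universe u v

open CategoryTheory CategoryTheory.Limits AlgebraicGeometry TopologicalSpace

namespace Groth.Agent.CohqB.AmpCocycle

variable {P X Y Z : Scheme.{u}}

/-- Ampleness on the fibre is preserved by base change. -/
theorem isAmple_fiber_of_isPullback {fst : P ⟶ X} {snd : P ⟶ Y} {f : X ⟶ Z} {g : Y ⟶ Z}
    (h : IsPullback fst snd f g) (y : Y) (L : X.Modules)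
    (hA : CohB1.IsAmple ((Scheme.Modules.pullback (f.fiberι (g y))).obj L)) :
    CohB1.IsAmple ((Scheme.Modules.pullback (snd.fiberι y)).obj
      ((Scheme.Modules.pullback fst).obj L)) := by
  have hP := isPullback_fiberToSpecResidueField_of_isPullback h y
  let e : snd.fiber y ⟶ f.fiber (g y) :=
    pullback.map _ _ _ _ fst (Spec.map (g.residueFieldMap y)) g h.w.symm (by simp)
  have he : IsAffineHom e := by
    have h1 : IsAffineHom (Spec.map (g.residueFieldMap y)) := inferInstance
    exact MorphismProperty.of_isPullback hP.flip h1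
  have hf : e ≫ f.fiberι (g y) = snd.fiberι y ≫ fst := pullback.lift_fst _ _ _
  rw [isAmple_pullback_comp_iff _ _ _ rfl, ← isAmple_pullback_comp_iff e _ _ hf]
  exact isAmple_pullback e hA

/-- The closed fibre of `X ×_Y Spec O_{Y,y} ⟶ Spec O_{Y,y}`. -/
theorem isAmple_closedFiber (f : X ⟶ Y) (y : Y) (L : X.Modules)
    (hA : CohB1.IsAmple ((Scheme.Modules.pullback (f.fiberι y)).obj L)) :
    CohB1.IsAmple ((Scheme.Modules.pullback ((pullback.snd f (Y.fromSpecStalk y)).fiberι
      (IsLocalRing.closedPoint (Y.presheaf.stalk y)))).obj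
      ((Scheme.Modules.pullback (pullback.fst f (Y.fromSpecStalk y))).obj L)) := by
  apply isAmple_fiber_of_isPullback (IsPullback.of_hasPullback f (Y.fromSpecStalk y))
  rw [Scheme.fromSpecStalk_closedPoint]
  exact hA

end Groth.Agent.CohqB.AmpCocycle
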