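import Groth.Agent.CohqB.AmpCocycle

/-!
# Extending sections, and small affine loci

For an ample cocycle on a scheme (finite cover by affines with quasi-compact overlaps) the affine
loci of sections of positive powers form a basis of the topology.
-/

set_option autoImplicit false
universe u v

open CategoryTheory AlgebraicGeometry TopologicalSpace

namespace Groth.Agent.CohqB.AmpCocycle

variable {X : Scheme.{u}} {ι : Type v}

namespace Coc

/-- Finiteness hypotheses: finite cover by affine opens with quasi-compact pairwise overlaps. -/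
structure Fin (c : Coc X ι) : Prop where
  finite : Finite ι
  affine : ∀ i, IsAffineOpen (c.W i)
  compact : ∀ i j, IsCompact ((c.W i ⊓ c.W j : X.Opens) : Set X)

variable {c : Coc X ι}

/-- Extension of functions on the locus of a section (Stacks 01PW). -/
theorem Fin.exists_extension (hc : c.Fin) {n : ℕ} {f : ∀ i, Γ(X, c.W i)} (hf : c.IsSec n f)
    (a : Γ(X, c.locus f)) :
    ∃ (N : ℕ) (g : ∀ i, Γ(X, c.W i)), c.IsSec (n * N) g ∧
      ∀ i, res (X.basicOpen_le (f i)) (g i) =
        res (X.basicOpen_le (f i)) (f i) ^ N * res (basicOpen_le_locus f i) a := by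
  classical
  have := hc.finite
  cases nonempty_fintype ι
  have h1 : ∀ i, ∃ (m : ℕ) (b : Γ(X, c.W i)), res (X.basicOpen_le (f i)) b =
      res (X.basicOpen_le (f i)) (f i) ^ m * res (basicOpen_le_locus f i) a := fun i =>
    exists_eq_pow_mul_of_isCompact_of_isQuasiSeparated X (c.W i) (hc.affine i).isCompact
      (hc.affine i).isQuasiSeparated (f i) (res (basicOpen_le_locus f i) a)
  choose m b hb using h1
  set N₁ := Finset.univ.sup m with hN₁
  let b' : ∀ i, Γ(X, c.W i) := fun i => f i ^ (N₁ - m i) * b i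
  have hb' : ∀ i, res (X.basicOpen_le (f i)) (b' i) =
      res (X.basicOpen_le (f i)) (f i) ^ N₁ * res (basicOpen_le_locus f i) a := by
    intro i
    have : m i ≤ N₁ := Finset.le_sup (Finset.mem_univ i)
    simp only [b', map_mul, map_pow, hb]
    rw [← mul_assoc, ← pow_add, Nat.sub_add_cancel this]
  -- the differences on overlaps
  let V : ι → ι → X.Opens := fun i j => c.W i ⊓ c.W j
  let d : ∀ i j, Γ(X, V i j) := fun i j =>
    res inf_le_left (b' i) -
      c.t i j (V i j) inf_le_left inf_le_right ^ (n * N₁) * res inf_le_right (b' j)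
  have hd : ∀ i j, ∃ k : ℕ, (res inf_le_left (f i) : Γ(X, V i j)) ^ k * d i j = 0 := by
    intro i j
    have e : V i j ⊓ X.basicOpen (f i) = X.basicOpen (res inf_le_left (f i) : Γ(X, V i j)) := by
      rw [basicOpen_res]
    have hle : V i j ⊓ X.basicOpen (f i) ≤ X.basicOpen (f j) := by
      rw [hf.basicOpen_inf i j (V i j) inf_le_left inf_le_right]
      exact inf_le_right
    refine exists_pow_mul_eq_zero (hc.compact i j) _ _ (V := V i j ⊓ X.basicOpen (f i))
      inf_le_left e ?_
    have hi : V i j ⊓ X.basicOpen (f i) ≤ c.W i := inf_le_left.trans inf_le_left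
    have hj : V i j ⊓ X.basicOpen (f i) ≤ c.W j := inf_le_left.trans inf_le_right
    have e1 := congrArg (res (inf_le_right : V i j ⊓ X.basicOpen (f i) ≤ _)) (hb' i)
    have e2 := congrArg (res hle) (hb' j)
    simp only [map_mul, map_pow, res_res] at e1 e2
    have e3 : res (inf_le_left : V i j ⊓ X.basicOpen (f i) ≤ V i j)
        (c.t i j (V i j) inf_le_left inf_le_right) = c.t i j _ hi hj := c.res_t i j _ _ _
    simp only [d, map_sub, map_mul, map_pow, res_res]
    rw [e1, e2, e3, hf i j _ hi hj, mul_pow, ← pow_mul]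
    ring
  choose k hk using hd
  set M := Finset.univ.sup (fun p : ι × ι => k p.1 p.2) with hM
  refine ⟨M + N₁, fun i => f i ^ M * b' i, ?_, ?_⟩
  · apply IsSec.mk'
    intro i j
    have hkM : k i j ≤ M := Finset.le_sup (f := fun p : ι × ι => k p.1 p.2) (Finset.mem_univ (i, j))
    have h0 : (res inf_le_left (f i) : Γ(X, V i j)) ^ M * d i j = 0 := by
      rw [← Nat.sub_add_cancel hkM, pow_add, mul_assoc, hk, mul_zero]
    simp only [d, mul_sub, sub_eq_zero] at h0
    simp only [map_mul, map_pow]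
    rw [h0, hf i j (V i j) inf_le_left inf_le_right, mul_pow, ← pow_mul, mul_add, pow_add]
    ring
  · intro i
    simp only [map_mul, map_pow, hb', pow_add]
    ring

/-- In the situation of an affine locus of a section, basic opens of the locus are loci. -/
theorem Fin.exists_locus_eq_basicOpen (hc : c.Fin) {n : ℕ} {f : ∀ i, Γ(X, c.W i)}
    (hf : c.IsSec n f) (a : Γ(X, c.locus f)) :
    ∃ (N : ℕ) (g : ∀ i, Γ(X, c.W i)), c.IsSec (n + n * N) g ∧ c.locus g = X.basicOpen a := by
  obtain ⟨N, g, hg, h⟩ := hc.exists_extension hf a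
  refine ⟨N, f * g, hf.mul hg, ?_⟩
  have key : ∀ i, X.basicOpen (f i) ⊓ X.basicOpen (g i) = X.basicOpen (f i) ⊓ X.basicOpen a := by
    intro i
    rw [← basicOpen_res (X.basicOpen_le (f i)) (g i), h i, Scheme.basicOpen_mul,
      Scheme.basicOpen_of_isUnit, basicOpen_res, ← inf_assoc, inf_idem]
    exact (RingedSpace.isUnit_res_basicOpen _ (f i)).pow N
  ext x
  constructor
  · intro hx
    obtain ⟨i, hi⟩ := mem_locus.mp hx
    rw [Pi.mul_apply, Scheme.basicOpen_mul, key] at hi
    exact hi.2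
  · intro hx
    obtain ⟨i, hi⟩ := mem_locus.mp (X.basicOpen_le a hx)
    refine mem_locus.mpr ⟨i, ?_⟩
    rw [Pi.mul_apply, Scheme.basicOpen_mul, key]
    exact ⟨hi, hx⟩

/-- Affine loci of sections of positive powers of an ample cocycle form a basis. -/
theorem Ample.exists_locus_le (hA : c.Ample) (hc : c.Fin) (x : X) (V : X.Opens) (hx : x ∈ V) :
    ∃ (n : ℕ) (f : ∀ i, Γ(X, c.W i)), c.IsSec (n + 1) f ∧ x ∈ c.locus f ∧
      IsAffineOpen (c.locus f) ∧ c.locus f ≤ V := by
  obtain ⟨n, f, hf, hxf, ha⟩ := hA.2 x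
  obtain ⟨a, haV, hxa⟩ := ha.exists_basicOpen_le (V := V) ⟨x, hx⟩ hxf
  obtain ⟨N, g, hg, hgl⟩ := hc.exists_locus_eq_basicOpen hf a
  refine ⟨n + (n + 1) * N, g, ?_, ?_, ?_, ?_⟩
  · convert hg using 1
    ring
  · rw [hgl]; exact hxa
  · rw [hgl]; exact ha.basicOpen a
  · rw [hgl]; exact haV

/-- An ample cocycle has finitely many sections of one positive power whose loci cover, each
contained in one member of the cover (hence a basic open of it). -/
theorem Ample.exists_finite_cover (hA : c.Ample) (hc : c.Fin) :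
    ∃ (n : ℕ) (s : Set (∀ i, Γ(X, c.W i))), s.Finite ∧ (∀ f ∈ s, c.IsSec (n + 1) f) ∧
      (∀ f ∈ s, ∃ j, c.locus f ≤ c.W j) ∧ ∀ x : X, ∃ f ∈ s, x ∈ c.locus f := by
  classical
  have hX := hA.1
  choose j hj using c.cov
  choose n f hf hx ha hle using fun x => hA.exists_locus_le hc x (c.W (j x)) (hj x)
  obtain ⟨t, ht⟩ := isCompact_univ.elim_finite_subcover (fun x : X => (c.locus (f x) : Set X))
    (fun x => (c.locus (f x)).isOpen) (fun x _ => Set.mem_iUnion.mpr ⟨x, hx x⟩)
  -- common power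
  let m : ℕ := ∏ x ∈ t, (n x + 1)
  have hm : 0 < m := Finset.prod_pos fun x _ => Nat.succ_pos _
  have hdvd : ∀ x ∈ t, (n x + 1) ∣ m := fun x hx => Finset.dvd_prod_of_mem _ hx
  let q : X → ℕ := fun x => m / (n x + 1)
  have hq : ∀ x ∈ t, (n x + 1) * q x = m := fun x hx => Nat.mul_div_cancel' (hdvd x hx)
  have hq0 : ∀ x ∈ t, 0 < q x := by
    intro x hx
    rcases Nat.eq_zero_or_pos (q x) with h | h
    · have := hq x hx
      rw [h, mul_zero] at this
      omega
    · exact h
  obtain ⟨n₀, hn₀⟩ : ∃ n₀, m = n₀ + 1 := ⟨m - 1, by omega⟩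
  refine ⟨n₀, (fun x => f x ^ q x) '' (t : Set X), t.finite_toSet.image _, ?_, ?_, ?_⟩
  · rintro _ ⟨x, hxt, rfl⟩
    have := (hf x).pow (q x)
    rw [hq x hxt, hn₀] at this
    exact this
  · rintro _ ⟨x, hxt, rfl⟩
    exact ⟨j x, by rw [locus_pow _ (hq0 x hxt)]; exact hle x⟩
  · intro y
    obtain ⟨x, hxt, hy⟩ := Set.mem_iUnion₂.mp (ht (Set.mem_univ y))
    exact ⟨_, ⟨x, hxt, rfl⟩, by rw [locus_pow _ (hq0 x hxt)]; exact hy⟩

/-- Conversely: sections of positive powers whose loci cover, each contained in an affine member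
of the cover, witness ampleness. -/
theorem ample_of_cover [CompactSpace X] (ha : ∀ i, IsAffineOpen (c.W i))
    (H : ∀ x : X, ∃ (n : ℕ) (f : ∀ i, Γ(X, c.W i)), c.IsSec (n + 1) f ∧ x ∈ c.locus f ∧
      ∃ j, c.locus f ≤ c.W j) : c.Ample := by
  refine ⟨inferInstance, fun x => ?_⟩
  obtain ⟨n, f, hf, hx, j, hj⟩ := H x
  refine ⟨n, f, hf, hx, ?_⟩
  rw [hf.locus_eq_of_le hj]
  exact (ha j).basicOpen _

end Coc

end Groth.Agent.CohqB.AmpCocycle
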