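import Groth.Agent.CohqB.AmpRefine
import Mathlib.RingTheory.Ideal.Maximal

/-!
# Spreading out ampleness from a localization

`Locz g M`: the morphism `g : X' ⟶ X` is the localization of `X` at a multiplicative set `M` of
global functions.  If the pullback of a cocycle along such a `g` is ample, then the cocycle is
already ample on some `X_m`, `m ∈ M`.
-/

set_option autoImplicit false
universe u v

open CategoryTheory AlgebraicGeometry TopologicalSpace

namespace Groth.Agent.CohqB.AmpCocycle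

variable {X X' : Scheme.{u}} {ι : Type v}

/-- Pullback of global functions. -/
noncomputable def plTop (g : X' ⟶ X) (V : X'.Opens) : Γ(X, ⊤) →+* Γ(X', V) :=
  pl g ⊤ V (fun _ _ => trivial)

theorem res_plTop (g : X' ⟶ X) {V V' : X'.Opens} (h : V' ≤ V) (m : Γ(X, ⊤)) :
    res h (plTop g V m) = plTop g V' m := by
  unfold plTop
  rw [res_pl]

theorem pl_res_top (g : X' ⟶ X) {U : X.Opens} {V : X'.Opens} (h : V ≤ g ⁻¹ᵁ U) (m : Γ(X, ⊤)) :
    pl g U V h (res le_top m) = plTop g V m := by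
  unfold plTop
  rw [pl_res]

/-- `g : X' ⟶ X` is the localization of `X` at a multiplicative set `M` of global functions. -/
structure Locz (g : X' ⟶ X) (M : Submonoid Γ(X, ⊤)) : Prop where
  affine : IsAffineHom g
  unit : ∀ m ∈ M, IsUnit (plTop g ⊤ m)
  surj : ∀ (U : X.Opens), IsAffineOpen U → ∀ F : Γ(X', g ⁻¹ᵁ U), ∃ m ∈ M, ∃ a : Γ(X, U),
    plTop g (g ⁻¹ᵁ U) m * F = pl g U (g ⁻¹ᵁ U) le_rfl a
  inj : ∀ (U : X.Opens), IsAffineOpen U → ∀ a : Γ(X, U), pl g U (g ⁻¹ᵁ U) le_rfl a = 0 →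
    ∃ m ∈ M, res le_top m * a = 0
  range : ∀ x : X, (∀ m ∈ M, x ∈ X.basicOpen m) → x ∈ Set.range g

namespace Locz

variable {g : X' ⟶ X} {M : Submonoid Γ(X, ⊤)}

theorem inj_compact (h : Locz g M) {U : X.Opens} (hU : IsCompact (U : Set X)) (a : Γ(X, U))
    (ha : pl g U (g ⁻¹ᵁ U) le_rfl a = 0) : ∃ m ∈ M, res le_top m * a = 0 := by
  classical
  obtain ⟨s, hs, e⟩ := isCompact_and_isOpen_iff_finite_and_eq_biUnion_affineOpens.mp ⟨hU, U.2⟩
  replace e : U = iSup fun i : s => (i : X.Opens) := by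
    ext1; simpa using e
  have h₁ (i : s) : i.1.1 ≤ U := by
    rw [e]
    exact le_iSup (fun (i : s) => (i : Opens (X.toPresheafedSpace))) i
  have h₂ : ∀ i : s, ∃ m ∈ M, res le_top m * res (h₁ i) a = 0 := by
    intro i
    apply h.inj i.1.1 i.1.2
    have h3 := congrArg (res (g.preimage_mono (h₁ i))) ha
    rw [res_pl, map_zero] at h3
    rw [pl_res]
    exact h3
  choose m hm hma using h₂
  have := hs.to_subtype
  cases nonempty_fintype s
  refine ⟨∏ i, m i, prod_mem fun i _ => hm i, ?_⟩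
  apply eq_of_locally
  intro x hx
  rw [e] at hx
  obtain ⟨i, hi⟩ := Opens.mem_iSup.mp hx
  refine ⟨i.1.1, h₁ i, hi, ?_⟩
  rw [map_mul, res_res, map_zero, ← Finset.prod_erase_mul _ _ (Finset.mem_univ i), map_mul,
    mul_assoc, hma, mul_zero]

/-- Topological spreading: if `V` contains all points of `D(a)` lying in all `X_m`, then it contains
`D(a) ∩ X_m` for some `m ∈ M`. -/
theorem exists_basicOpen_inf_le {U : X.Opens} (hU : IsAffineOpen U) (a : Γ(X, U)) (V : X.Opens)
    (H : ∀ x ∈ X.basicOpen a, (∀ m ∈ M, x ∈ X.basicOpen m) → x ∈ V) :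
    ∃ m ∈ M, X.basicOpen a ⊓ X.basicOpen m ≤ V := by
  -- the ideal of functions on U vanishing outside V
  let J : Ideal Γ(X, U) :=
    { carrier := {f | X.basicOpen f ≤ V}
      add_mem' := fun {f f'} hf hf' => (X.basicOpen_add_le f f').trans (sup_le hf hf')
      zero_mem' := by
        change X.basicOpen (0 : Γ(X, U)) ≤ V
        rw [Scheme.basicOpen_zero]; exact bot_le
      smul_mem' := fun r f hf => by
        change X.basicOpen (r * f) ≤ V
        rw [Scheme.basicOpen_mul]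
        exact inf_le_right.trans hf }
  have hJ : ∀ f, f ∈ J ↔ X.basicOpen f ≤ V := fun f => Iff.rfl
  let N : Submonoid Γ(X, U) :=
    Submonoid.powers a ⊔ M.map (res (le_top : U ≤ ⊤) : Γ(X, ⊤) →+* Γ(X, U)).toMonoidHom
  by_cases hd : Disjoint (J : Set Γ(X, U)) N
  · exfalso
    obtain ⟨q, hq, hJq, hqN⟩ := Ideal.exists_le_prime_disjoint J N hd
    have haq : a ∉ q := fun h =>
      (Set.disjoint_left.mp hqN h) ((le_sup_left : Submonoid.powers a ≤ N)
        (Submonoid.mem_powers a))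
    have hmq : ∀ m ∈ M, res (le_top : U ≤ ⊤) m ∉ q := fun m hm h =>
      (Set.disjoint_left.mp hqN h) ((le_sup_right : M.map _ ≤ N) ⟨m, hm, rfl⟩)
    let pt : PrimeSpectrum Γ(X, U) := ⟨q, hq⟩
    let x : X := hU.fromSpec pt
    have hxU : x ∈ U := by
      have : x ∈ Set.range hU.fromSpec := ⟨pt, rfl⟩
      rwa [hU.range_fromSpec] at this
    have key : ∀ f : Γ(X, U), x ∈ X.basicOpen f ↔ f ∉ q := by
      intro f
      have h1 := hU.fromSpec_preimage_basicOpen f
      have h2 : x ∈ X.basicOpen f ↔ pt ∈ hU.fromSpec ⁻¹ᵁ X.basicOpen f := Iff.rfl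
      rw [h2, h1]
      exact Iff.rfl
    have hxV : x ∈ V := H x ((key a).mpr haq) fun m hm => by
      have h3 := (key (res le_top m)).mpr (hmq m hm)
      rw [basicOpen_res] at h3
      exact h3.2
    obtain ⟨f, hfV, hxf⟩ := hU.exists_basicOpen_le (V := V) ⟨x, hxV⟩ hxU
    exact ((key f).mp hxf) (hJq hfV)
  · rw [Set.not_disjoint_iff] at hd
    obtain ⟨f, hfJ, hfN⟩ := hd
    obtain ⟨y, ⟨k, rfl⟩, z, ⟨m, hm, rfl⟩, rfl⟩ := Submonoid.mem_sup.mp hfN
    refine ⟨m, hm, ?_⟩
    have h1 : X.basicOpen (a ^ k * res le_top m) ≤ V := hfJ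
    intro x hx
    apply h1
    rw [Scheme.basicOpen_mul, basicOpen_res]
    refine ⟨?_, X.basicOpen_le a hx.1, hx.2⟩
    rcases Nat.eq_zero_or_pos k with rfl | hk
    · rw [pow_zero, Scheme.basicOpen_of_isUnit _ isUnit_one]
      exact X.basicOpen_le a hx.1
    · rw [Scheme.basicOpen_pow _ _ hk]
      exact hx.1

end Locz

end Groth.Agent.CohqB.AmpCocycle
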