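import Groth.Agent.CohqB.AmpSpread

/-!
# Spreading out ampleness from a localization: the main theorem
-/

set_option autoImplicit false
universe u v

open CategoryTheory AlgebraicGeometry TopologicalSpace

namespace Groth.Agent.CohqB.AmpCocycle

variable {X X' : Scheme.{u}} {ι : Type v}

namespace Coc

variable {c : Coc X ι} {g : X' ⟶ X} {M : Submonoid Γ(X, ⊤)}

/-- A section of a power on the localization is, up to a unit from `M`, the pullback of a section. -/
theorem Fin.exists_section_of_locz (hc : c.Fin) (h : Locz g M) {n : ℕ}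
    {F : ∀ i, Γ(X', (c.pull g).W i)} (hF : (c.pull g).IsSec n F) :
    ∃ G : ∀ i, Γ(X, c.W i), c.IsSec n G ∧ (c.pull g).locus F = g ⁻¹ᵁ (c.locus G) := by
  classical
  have := hc.finite
  cases nonempty_fintype ι
  let F' : ∀ i, Γ(X', g ⁻¹ᵁ c.W i) := F
  have h1 : ∀ i, ∃ m ∈ M, ∃ a : Γ(X, c.W i),
      plTop g (g ⁻¹ᵁ c.W i) m * F' i = pl g (c.W i) (g ⁻¹ᵁ c.W i) le_rfl a :=
    fun i => h.surj (c.W i) (hc.affine i) (F' i)
  choose m hm a ha using h1
  -- common denominator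
  set m₀ : Γ(X, ⊤) := ∏ i, m i with hm₀
  have hm₀M : m₀ ∈ M := prod_mem fun i _ => hm i
  obtain ⟨a', ha'⟩ : ∃ a' : ∀ i, Γ(X, c.W i), ∀ i, pl g (c.W i) (g ⁻¹ᵁ c.W i) le_rfl (a' i) =
      plTop g (g ⁻¹ᵁ c.W i) m₀ * F' i := by
    refine ⟨fun i => res le_top (∏ j ∈ Finset.univ.erase i, m j) * a i, fun i => ?_⟩
    have e : m₀ = (∏ j ∈ Finset.univ.erase i, m j) * m i :=
      (Finset.prod_erase_mul _ _ (Finset.mem_univ i)).symm
    rw [e, map_mul (plTop g (g ⁻¹ᵁ c.W i)), mul_assoc, ha, map_mul, pl_res_top]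
  -- compatibility after multiplication by an element of M
  have h2 : ∀ i j, ∃ m' ∈ M, res (le_top : c.W i ⊓ c.W j ≤ ⊤) m' *
      (res inf_le_left (a' i) - c.t i j (c.W i ⊓ c.W j) inf_le_left inf_le_right ^ n *
        res inf_le_right (a' j)) = 0 := by
    intro i j
    apply h.inj_compact (hc.compact i j)
    have hi' : g ⁻¹ᵁ (c.W i ⊓ c.W j) ≤ g ⁻¹ᵁ c.W i := g.preimage_mono inf_le_left
    have hj' : g ⁻¹ᵁ (c.W i ⊓ c.W j) ≤ g ⁻¹ᵁ c.W j := g.preimage_mono inf_le_right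
    have key : res hi' (F' i) = (c.pull g).t i j (g ⁻¹ᵁ (c.W i ⊓ c.W j)) hi' hj' ^ n *
      res hj' (F' j) := hF i j (g ⁻¹ᵁ (c.W i ⊓ c.W j)) hi' hj'
    have ht : (c.pull g).t i j (g ⁻¹ᵁ (c.W i ⊓ c.W j)) hi' hj' =
      pl g (c.W i ⊓ c.W j) _ le_rfl (c.t i j _ inf_le_left inf_le_right) :=
      pull_t' c g i j _ _ le_rfl inf_le_left inf_le_right hi' hj'
    rw [ht] at key
    have e1 := congrArg (res hi') (ha' i)
    have e2 := congrArg (res hj') (ha' j)
    rw [res_pl, map_mul, res_plTop] at e1 e2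
    rw [map_sub, map_mul, map_pow, pl_res, pl_res, e1, e2, sub_eq_zero, key]
    ring
  choose m' hm' hmm' using h2
  set m₁ : Γ(X, ⊤) := ∏ p : ι × ι, m' p.1 p.2 with hm₁
  have hm₁M : m₁ ∈ M := prod_mem fun p _ => hm' p.1 p.2
  refine ⟨fun i => res le_top m₁ * a' i, IsSec.mk' fun i j => ?_, ?_⟩
  · have e : m₁ = (∏ p ∈ Finset.univ.erase (i, j), m' p.1 p.2) * m' i j :=
      (Finset.prod_erase_mul _ (fun p : ι × ι => m' p.1 p.2) (Finset.mem_univ (i, j))).symm
    have h3 : res (le_top : c.W i ⊓ c.W j ≤ ⊤) m₁ *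
      (res inf_le_left (a' i) - c.t i j (c.W i ⊓ c.W j) inf_le_left inf_le_right ^ n *
        res inf_le_right (a' j)) = 0 := by
      rw [e, map_mul, mul_assoc, hmm', mul_zero]
    rw [mul_sub, sub_eq_zero] at h3
    rw [map_mul (res (inf_le_left : c.W i ⊓ c.W j ≤ c.W i)),
      map_mul (res (inf_le_right : c.W i ⊓ c.W j ≤ c.W j)), res_res, res_res, h3]
    ring
  · rw [← locus_plSec]
    unfold locus
    congr 1
    funext i
    have e : plSec g (fun i => res le_top m₁ * a' i) i =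
        plTop g (g ⁻¹ᵁ c.W i) (m₁ * m₀) * F' i := by
      change pl g (c.W i) (g ⁻¹ᵁ c.W i) le_rfl (res le_top m₁ * a' i) = _
      rw [map_mul, pl_res_top, ha', map_mul (plTop g (g ⁻¹ᵁ c.W i)), mul_assoc]
    have hu : IsUnit (plTop g (g ⁻¹ᵁ c.W i) (m₁ * m₀)) := by
      have h5 := (h.unit _ (M.mul_mem hm₁M hm₀M)).map (res (le_top : g ⁻¹ᵁ c.W i ≤ ⊤))
      rwa [res_plTop] at h5
    rw [e]
    have e2 : X'.basicOpen (plTop g (g ⁻¹ᵁ c.W i) (m₁ * m₀) * F' i) =
        X'.basicOpen (plTop g (g ⁻¹ᵁ c.W i) (m₁ * m₀)) ⊓ X'.basicOpen (F' i) :=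
      X'.basicOpen_mul _ _
    refine Eq.trans ?_ e2.symm
    rw [Scheme.basicOpen_of_isUnit _ hu]
    exact (inf_eq_right.mpr (X'.basicOpen_le (F' i))).symm

/-- Spreading out of ampleness from a localization. -/
theorem Fin.ample_spread (hc : c.Fin) (h : Locz g M) (hA : (c.pull g).Ample) :
    ∃ m ∈ M, (c.pull (X.basicOpen m).ι).Ample := by
  classical
  have := hc.finite
  cases nonempty_fintype ι
  have := h.affine
  have hc' : (c.pull g).Fin :=
    { finite := hc.finite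
      affine := fun i => (hc.affine i).preimage g
      compact := fun i j =>
        QuasiCompact.isCompact_preimage (f := g) _ (c.W i ⊓ c.W j).2 (hc.compact i j) }
  obtain ⟨n, s, hs, hsec, hle, hcov⟩ := hA.exists_finite_cover hc'
  have := hs.to_subtype
  cases nonempty_fintype s
  choose j hj using fun F : s => hle F.1 F.2
  choose G hG hloc using fun F : s => hc.exists_section_of_locz h (hsec F.1 F.2)
  -- loci lie in the members of the cover, near X'
  have h1 : ∀ (F : s) (i : ι), ∃ m ∈ M, X.basicOpen (G F i) ⊓ X.basicOpen m ≤ c.W (j F) := by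
    intro F i
    apply Locz.exists_basicOpen_inf_le (hc.affine i)
    intro x hx hxM
    obtain ⟨x', rfl⟩ := h.range x hxM
    have h2 : x' ∈ g ⁻¹ᵁ (c.locus (G F)) := basicOpen_le_locus (G F) i hx
    rw [← hloc F] at h2
    exact hj F h2
  choose m₁ hm₁ hm₁' using h1
  have h2 : ∀ i : ι, ∃ m ∈ M, X.basicOpen (1 : Γ(X, c.W i)) ⊓ X.basicOpen m ≤
      ⨆ F : s, c.locus (G F) := by
    intro i
    apply Locz.exists_basicOpen_inf_le (hc.affine i)
    intro x _ hxM
    obtain ⟨x', rfl⟩ := h.range x hxM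
    obtain ⟨F, hF, hxF⟩ := hcov x'
    refine Opens.mem_iSup.mpr ⟨⟨F, hF⟩, ?_⟩
    rw [hloc ⟨F, hF⟩] at hxF
    exact hxF
  choose m₂ hm₂ hm₂' using h2
  set m : Γ(X, ⊤) := (∏ p : s × ι, m₁ p.1 p.2) * ∏ i, m₂ i with hm
  have hmM : m ∈ M := M.mul_mem (prod_mem fun p _ => hm₁ p.1 p.2) (prod_mem fun i _ => hm₂ i)
  have hle1 : ∀ (F : s) (i : ι), X.basicOpen m ≤ X.basicOpen (m₁ F i) := by
    intro F i
    rw [hm, ← Finset.prod_erase_mul _ (fun p : s × ι => m₁ p.1 p.2) (Finset.mem_univ (F, i)),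
      Scheme.basicOpen_mul, Scheme.basicOpen_mul]
    exact inf_le_left.trans inf_le_right
  have hle2 : ∀ i : ι, X.basicOpen m ≤ X.basicOpen (m₂ i) := by
    intro i
    rw [hm, ← Finset.prod_erase_mul _ m₂ (Finset.mem_univ i),
      Scheme.basicOpen_mul, Scheme.basicOpen_mul]
    exact inf_le_right.trans inf_le_right
  refine ⟨m, hmM, ?_⟩
  -- the opens W i ∩ X_m are affine
  have haff : ∀ i, IsAffineOpen (c.W i ⊓ X.basicOpen m) := by
    intro i
    rw [← basicOpen_res (le_top : c.W i ≤ ⊤)]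
    exact (hc.affine i).basicOpen _
  have haff' : ∀ i, IsAffineOpen ((c.pull (X.basicOpen m).ι).W i) := by
    intro i
    have e : (c.pull (X.basicOpen m).ι).W i =
        (X.basicOpen m).ι ⁻¹ᵁ (c.W i ⊓ X.basicOpen m) := by
      change (X.basicOpen m).ι ⁻¹ᵁ c.W i = _
      rw [Scheme.Hom.preimage_inf]
      simp
    rw [e]
    exact (haff i).preimage_of_isOpenImmersion _ (by simp)
  have hcompact : CompactSpace (X.basicOpen m) := by
    refine isCompact_iff_compactSpace.mp ?_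
    have e : ((X.basicOpen m : X.Opens) : Set X) =
        ⋃ i, ((c.W i ⊓ X.basicOpen m : X.Opens) : Set X) := by
      ext x
      simp only [Set.mem_iUnion]
      constructor
      · intro hx
        obtain ⟨i, hi⟩ := c.cov x
        exact ⟨i, hi, hx⟩
      · rintro ⟨i, -, hx⟩
        exact hx
    rw [e]
    exact isCompact_iUnion fun i => (haff i).isCompact
  have : CompactSpace ((X.basicOpen m : X.Opens) : Scheme.{u}) := hcompact
  apply ample_of_cover haff'
  intro x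
  obtain ⟨i, hi⟩ := c.cov ((X.basicOpen m).ι x)
  have hxm : (X.basicOpen m).ι x ∈ X.basicOpen m := x.2
  have hx1 : (X.basicOpen m).ι x ∈ X.basicOpen (1 : Γ(X, c.W i)) ⊓ X.basicOpen (m₂ i) := by
    refine ⟨?_, hle2 i hxm⟩
    rw [Scheme.basicOpen_of_isUnit _ isUnit_one]
    exact hi
  obtain ⟨F, hF⟩ := Opens.mem_iSup.mp (hm₂' i hx1)
  refine ⟨n, plSec (X.basicOpen m).ι (G F), (hG F).pull _, ?_, j F, ?_⟩
  · rw [locus_plSec]; exact hF
  · rw [locus_plSec]
    intro y hy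
    obtain ⟨k, hk⟩ := mem_locus.mp (show (X.basicOpen m).ι y ∈ c.locus (G F) from hy)
    exact hm₁' F k ⟨hk, hle1 F k y.2⟩

end Coc

end Groth.Agent.CohqB.AmpCocycle
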