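import Groth.Agent.CohqB.AmpSpread2
import Mathlib.AlgebraicGeometry.Morphisms.Flat
import Mathlib.AlgebraicGeometry.Stalk
import Mathlib.Algebra.Category.Ring.Constructions
import Mathlib.RingTheory.Localization.BaseChange

/-!
# Spreading out ampleness from `X ×_Y Spec O_{Y,y}` to a neighbourhood of `y`
-/

set_option autoImplicit false
universe u v

open CategoryTheory CategoryTheory.Limits AlgebraicGeometry TopologicalSpace

namespace Groth.Agent.CohqB.AmpCocycle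

/-- Localizations are stable under pushout, elementwise form. -/
theorem loc_of_isPushout {R S A B : CommRingCat.{u}} {φ : R ⟶ A} {ψ : R ⟶ S} {α : A ⟶ B}
    {β : S ⟶ B} (H : IsPushout φ ψ α β) (M : Submonoid R) (hu : ∀ m ∈ M, IsUnit (ψ m))
    (hs : ∀ t : S, ∃ m ∈ M, ∃ a : R, ψ m * t = ψ a)
    (hi : ∀ a : R, ψ a = 0 → ∃ m ∈ M, m * a = 0) :
    (∀ t : B, ∃ m ∈ M, ∃ a : A, α (φ m) * t = α a) ∧
      ∀ a : A, α a = 0 → ∃ m ∈ M, φ m * a = 0 := by
  let _ : Algebra R S := ψ.hom.toAlgebra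
  let _ : Algebra R A := φ.hom.toAlgebra
  let _ : Algebra A B := α.hom.toAlgebra
  let _ : Algebra S B := β.hom.toAlgebra
  let _ : Algebra R B := (φ ≫ α).hom.toAlgebra
  have : IsScalarTower R A B := IsScalarTower.of_algebraMap_eq fun _ => rfl
  have : IsScalarTower R S B := IsScalarTower.of_algebraMap_eq fun r => by
    change (φ ≫ α) r = (ψ ≫ β) r
    rw [H.w]
  have hM : IsLocalization M S := by
    refine ⟨⟨?_, ?_, ?_⟩⟩
    · rintro ⟨m, hm⟩; exact hu m hm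
    · intro t
      obtain ⟨m, hm, a, ha⟩ := hs t
      exact ⟨(a, ⟨m, hm⟩), by rw [mul_comm]; exact ha⟩
    · intro a b hab
      have h1 : ψ (a - b) = 0 := by
        rw [map_sub, sub_eq_zero]; exact hab
      obtain ⟨m, hm, h2⟩ := hi _ h1
      exact ⟨⟨m, hm⟩, by rw [← sub_eq_zero, ← mul_sub]; exact h2⟩
  have hp : Algebra.IsPushout R A S B := CommRingCat.isPushout_iff_isPushout.mp H
  have hB : IsLocalization (Algebra.algebraMapSubmonoid A M) B :=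
    (Algebra.isLocalization_iff_isPushout M S).mpr hp
  constructor
  · intro t
    obtain ⟨⟨a, ⟨_, m, hm, rfl⟩⟩, ha⟩ := IsLocalization.surj (Algebra.algebraMapSubmonoid A M) t
    exact ⟨m, hm, a, by rw [mul_comm]; exact ha⟩
  · intro a ha
    obtain ⟨⟨_, m, hm, rfl⟩, h⟩ := (IsLocalization.map_eq_zero_iff
      (Algebra.algebraMapSubmonoid A M) B a).mp ha
    exact ⟨m, hm, h⟩

variable {X X' S T : Scheme.{u}} {ι : Type v}

theorem appTop_eq_pl (f : X ⟶ S) (m : Γ(S, ⊤)) : f.appTop m = pl f ⊤ ⊤ (fun _ _ => trivial) m := by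
  change f.app ⊤ m = (f.appLE ⊤ ⊤ _).hom m
  rw [← Scheme.Hom.appLE_eq_app]
  rfl

/-- Base change of a localization. -/
theorem locz_of_isPullback {g : X' ⟶ X} {p : X' ⟶ T} {f : X ⟶ S} {h : T ⟶ S}
    (H : IsPullback g p f h) [IsAffine S] [IsAffine T] (M : Submonoid Γ(S, ⊤))
    (hu : ∀ m ∈ M, IsUnit (h.appTop m))
    (hs : ∀ t : Γ(T, ⊤), ∃ m ∈ M, ∃ a : Γ(S, ⊤), h.appTop m * t = h.appTop a)
    (hi : ∀ a : Γ(S, ⊤), h.appTop a = 0 → ∃ m ∈ M, m * a = 0)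
    (hr : ∀ s : S, (∀ m ∈ M, s ∈ S.basicOpen m) → s ∈ Set.range h) :
    Locz g (M.map f.appTop.hom.toMonoidHom) := by
  have hh : h.appLE ⊤ ⊤ (fun _ _ => trivial) = h.appTop := Scheme.Hom.appLE_eq_app h
  have key : ∀ (U : X.Opens), IsAffineOpen U →
      (∀ F : Γ(X', g ⁻¹ᵁ U), ∃ m ∈ M, ∃ a : Γ(X, U),
        pl g U (g ⁻¹ᵁ U) le_rfl (pl f ⊤ U (fun _ _ => trivial) m) * F =
          pl g U (g ⁻¹ᵁ U) le_rfl a) ∧
      ∀ a : Γ(X, U), pl g U (g ⁻¹ᵁ U) le_rfl a = 0 →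
        ∃ m ∈ M, pl f ⊤ U (fun _ _ => trivial) m * a = 0 := by
    intro U hU
    have e : g ⁻¹ᵁ U = g ⁻¹ᵁ U ⊓ p ⁻¹ᵁ ⊤ := by simp
    have hP := (isIso_pushoutSection_iff H (US := ⊤) (UT := ⊤) (UX := U) (UY := g ⁻¹ᵁ U)
      (fun _ _ => trivial) (fun _ _ => trivial) e).mp
      (isIso_pushoutSection_of_isAffineOpen H _ _ e (isAffineOpen_top S) (isAffineOpen_top T) hU)
    exact loc_of_isPushout hP M (by rw [hh]; exact hu) (by rw [hh]; exact hs)
      (by rw [hh]; exact hi)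
  have key2 : ∀ (V : X'.Opens) (m : Γ(S, ⊤)), plTop g V (f.appTop m) =
      pl (g ≫ f) ⊤ V (fun _ _ => trivial) m := by
    intro V m
    rw [appTop_eq_pl]
    exact pl_pl f g _ _ m
  have key3 : ∀ (U : X.Opens) (m : Γ(S, ⊤)),
      pl g U (g ⁻¹ᵁ U) le_rfl (pl f ⊤ U (fun _ _ => trivial) m) =
        pl (g ≫ f) ⊤ (g ⁻¹ᵁ U) (fun _ _ => trivial) m := fun U m => pl_pl f g _ _ m
  refine ⟨?_, ?_, ?_, ?_, ?_⟩
  · have : IsAffineHom h := inferInstance
    exact MorphismProperty.of_isPullback H.flip this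
  · rintro _ ⟨m, hm, rfl⟩
    have h1 : plTop g ⊤ (f.appTop m) = p.appTop (h.appTop m) := by
      rw [key2, appTop_eq_pl p, appTop_eq_pl h, H.w]
      exact (pl_pl h p _ _ m).symm
    change IsUnit (plTop g ⊤ (f.appTop m))
    rw [h1]
    exact (hu m hm).map p.appTop.hom
  · intro U hU F
    obtain ⟨m, hm, a, ha⟩ := (key U hU).1 F
    refine ⟨f.appTop m, ⟨m, hm, rfl⟩, a, ?_⟩
    rw [key2, ← ha, key3]
  · intro U hU a ha
    obtain ⟨m, hm, hma⟩ := (key U hU).2 a ha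
    refine ⟨f.appTop m, ⟨m, hm, rfl⟩, ?_⟩
    rw [← hma]
    refine congrArg (· * a) ?_
    rw [appTop_eq_pl]
    exact res_pl f _ le_top m
  · intro x hx
    have h1 : f x ∈ Set.range h := hr _ fun m hm => by
      have h2 := hx _ ⟨m, hm, rfl⟩
      have h3 : x ∈ f ⁻¹ᵁ S.basicOpen m := by
        rw [Scheme.preimage_basicOpen]; exact h2
      exact h3
    obtain ⟨t, ht⟩ := h1
    obtain ⟨z, hz, -⟩ := Scheme.Pullback.exists_preimage_pullback (f := f) (g := h) x t ht.symm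
    refine ⟨H.isoPullback.inv z, ?_⟩
    rw [← Scheme.Hom.comp_apply, H.isoPullback_inv_fst]
    exact hz

/-- `Spec O_{Y,y} ⟶ Y₀` for `Y₀` an affine open containing `y` is the localization at the functions
not vanishing at `y`. -/
theorem fromSpecStalk_facts {Y : Scheme.{u}} [IsAffine Y] (y : Y) :
    (∀ m : Γ(Y, ⊤), y ∈ Y.basicOpen m → IsUnit ((Y.fromSpecStalk y).appTop m)) ∧
    (∀ t : Γ(Spec (Y.presheaf.stalk y), ⊤), ∃ m : Γ(Y, ⊤), y ∈ Y.basicOpen m ∧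
      ∃ a : Γ(Y, ⊤), (Y.fromSpecStalk y).appTop m * t = (Y.fromSpecStalk y).appTop a) ∧
    (∀ a : Γ(Y, ⊤), (Y.fromSpecStalk y).appTop a = 0 → ∃ m : Γ(Y, ⊤), y ∈ Y.basicOpen m ∧
      m * a = 0) ∧
    (∀ s : Y, (∀ m : Γ(Y, ⊤), y ∈ Y.basicOpen m → s ∈ Y.basicOpen m) →
      s ∈ Set.range (Y.fromSpecStalk y)) := by
  have hy : y ∈ (⊤ : Y.Opens) := trivial
  let e : Y.presheaf.stalk y ≅ Γ(Spec (Y.presheaf.stalk y), ⊤) :=
    (Scheme.ΓSpecIso (Y.presheaf.stalk y)).symm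
  have hψ : ∀ m : Γ(Y, ⊤), (Y.fromSpecStalk y).appTop m =
      e.hom (Y.presheaf.germ ⊤ y hy m) := by
    intro m
    rw [Scheme.fromSpecStalk_appTop]
    have : (Spec (Y.presheaf.stalk y)).presheaf.map (homOfLE (le_top (a := ⊤))).op = 𝟙 _ := by
      rw [← (Spec (Y.presheaf.stalk y)).presheaf.map_id]
      rfl
    simp only [CommRingCat.comp_apply]
    change (Spec (Y.presheaf.stalk y)).presheaf.map (homOfLE (le_top (a := ⊤))).op _ = _
    rw [this]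
    rfl
  let _ : Algebra Γ(Y, ⊤) (Y.presheaf.stalk y) :=
    TopCat.Presheaf.algebra_section_stalk Y.presheaf (⟨y, hy⟩ : (⊤ : Y.Opens))
  have hloc : IsLocalization.AtPrime (Y.presheaf.stalk y)
      ((isAffineOpen_top Y).primeIdealOf ⟨y, hy⟩).asIdeal :=
    (isAffineOpen_top Y).isLocalization_stalk ⟨y, hy⟩
  have hbo : ∀ m : Γ(Y, ⊤), y ∈ Y.basicOpen m ↔ IsUnit (Y.presheaf.germ ⊤ y hy m) :=
    fun m => Scheme.mem_basicOpen _ _ _ hy
  have hunit : ∀ m : Γ(Y, ⊤), m ∈ ((isAffineOpen_top Y).primeIdealOf ⟨y, hy⟩).asIdeal.primeCompl →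
      y ∈ Y.basicOpen m := by
    intro m hm
    rw [hbo]
    exact IsLocalization.map_units (Y.presheaf.stalk y) (⟨m, hm⟩ :
      ((isAffineOpen_top Y).primeIdealOf ⟨y, hy⟩).asIdeal.primeCompl)
  refine ⟨?_, ?_, ?_, ?_⟩
  · intro m hm
    rw [hψ]
    exact ((hbo m).mp hm).map e.hom.hom
  · intro t
    obtain ⟨⟨a, m⟩, h⟩ := IsLocalization.surj
      ((isAffineOpen_top Y).primeIdealOf ⟨y, hy⟩).asIdeal.primeCompl (e.inv t)
    refine ⟨m.1, hunit _ m.2, a, ?_⟩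
    rw [hψ, hψ]
    have h2 := congrArg e.hom h
    rw [map_mul] at h2
    have h3 : e.hom (e.inv t) = t := by
      rw [← CommRingCat.comp_apply, e.inv_hom_id]; rfl
    rw [h3, mul_comm] at h2
    exact h2
  · intro a ha
    rw [hψ] at ha
    have h1 : Y.presheaf.germ ⊤ y hy a = 0 := by
      have h3 := congrArg e.inv ha
      rw [← CommRingCat.comp_apply, e.hom_inv_id, map_zero] at h3
      exact h3
    obtain ⟨m, hm⟩ := (IsLocalization.map_eq_zero_iff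
      ((isAffineOpen_top Y).primeIdealOf ⟨y, hy⟩).asIdeal.primeCompl (Y.presheaf.stalk y) a).mp h1
    exact ⟨m.1, hunit _ m.2, hm⟩
  · intro s hs
    rw [Scheme.range_fromSpecStalk]
    change s ⤳ y
    rw [specializes_iff_forall_open]
    intro V hV hyV
    obtain ⟨m, hmV, hym⟩ := (isAffineOpen_top Y).exists_basicOpen_le (V := ⟨V, hV⟩) ⟨y, hyV⟩ hy
    exact hmV (hs m hym)

end Groth.Agent.CohqB.AmpCocycle
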