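import Groth.Agent.CohqB.AmpThick
import Mathlib.AlgebraicGeometry.Morphisms.ClosedImmersion
import Mathlib.RingTheory.Noetherian.Nilpotent

/-!
# A cocycle is ample iff its restriction to a thickened closed subscheme is
-/

set_option autoImplicit false
universe u v

open CategoryTheory AlgebraicGeometry TopologicalSpace

namespace Groth.Agent.CohqB.AmpCocycle

variable {X Z : Scheme.{u}} {ι : Type v}

theorem pl_eq_app (g : Z ⟶ X) (U : X.Opens) (a : Γ(X, U)) :
    pl g U (g ⁻¹ᵁ U) le_rfl a = g.app U a := by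
  change (g.appLE _ _ _).hom _ = _
  rw [Scheme.Hom.appLE_eq_app]

/-- The kernel of a surjective closed immersion into a Noetherian scheme is nilpotent. -/
theorem exists_ker_pow_eq_bot (i : Z ⟶ X) [IsClosedImmersion i] [IsNoetherian X]
    (hs : Function.Surjective i) : ∃ N : ℕ, i.ker ^ N = ⊥ := by
  have h1 : ∀ U : X.affineOpens, ∃ n : ℕ, (i.ker.ideal U) ^ n = ⊥ := by
    intro U
    have : IsNoetherianRing Γ(X, U.1) := IsLocallyNoetherian.component_noetherian U
    have h2 : IsNilpotent (i.ker.ideal U) := by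
      rw [Ideal.FG.isNilpotent_iff_le_nilradical (IsNoetherian.noetherian (i.ker.ideal U))]
      intro a ha
      rw [Scheme.Hom.ker_apply, RingHom.mem_ker] at ha
      rw [mem_nilradical, Scheme.isNilpotent_iff_basicOpen_eq_bot_of_isCompact U.2.isCompact,
        eq_bot_iff]
      intro x hx
      obtain ⟨z, rfl⟩ := hs x
      have h3 : z ∈ Z.basicOpen (i.app U.1 a) := by
        rw [← Scheme.preimage_basicOpen]; exact hx
      have h4 : i.app U.1 a = 0 := ha
      rw [h4, Scheme.basicOpen_zero] at h3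
      exact h3.elim
    exact h2
  choose n hn using h1
  obtain ⟨s, hs', e⟩ := isCompact_and_isOpen_iff_finite_and_eq_biUnion_affineOpens.mp
    ⟨(isCompact_univ : IsCompact (Set.univ : Set X)), isOpen_univ⟩
  have := hs'.to_subtype
  cases nonempty_fintype s
  refine ⟨Finset.univ.sup (fun U : s => n U.1), ?_⟩
  apply Scheme.IdealSheafData.ext_of_iSup_eq_top (fun U : s => U.1)
  · apply Opens.ext
    simpa using e.symm
  · intro U
    rw [Scheme.IdealSheafData.ideal_pow, Pi.pow_apply, Scheme.IdealSheafData.ideal_bot,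
      Pi.bot_apply, eq_bot_iff, ← hn U.1]
    exact Ideal.pow_le_pow_right (Finset.le_sup (f := fun U : s => n U.1) (Finset.mem_univ U))

namespace Coc

variable {c : Coc X ι}

theorem fin_of_isNoetherian [Finite ι] [IsNoetherian X] (ha : ∀ i, IsAffineOpen (c.W i)) :
    c.Fin where
  finite := inferInstance
  affine := ha
  compact _ _ := (NoetherianSpace.isCompact (α := X) _)

theorem ample_of_pull_closedImmersion [Finite ι] [IsNoetherian X] [IsNoetherian Z]
    (ha : ∀ i, IsAffineOpen (c.W i)) (i : Z ⟶ X) [IsClosedImmersion i]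
    (hs : Function.Surjective i) (hA : (c.pull i).Ample) : c.Ample := by
  have hc : c.Fin := fin_of_isNoetherian ha
  have hcZ : (c.pull i).Fin := fin_of_isNoetherian fun k => (ha k).preimage i
  refine ⟨inferInstance, fun x => ?_⟩
  obtain ⟨z, rfl⟩ := hs x
  obtain ⟨j₀, hj₀⟩ := c.cov (i z)
  obtain ⟨n, s, hsec, hz, haff, hle⟩ := hA.exists_locus_le hcZ z (i ⁻¹ᵁ c.W j₀) hj₀
  choose f hf using fun k => Scheme.Hom.app_surjective i (c.W k) (ha k) (s k)
  have hfs : plSec i f = s := by
    funext k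
    exact (pl_eq_app i (c.W k) (f k)).trans (hf k)
  have hmod : c.IsSecMod i.ker (n + 1) f := by
    intro k l V hk hl U hU
    rw [Scheme.Hom.ker_apply, RingHom.mem_ker]
    change i.app U.1 _ = 0
    rw [← pl_eq_app]
    rw [map_sub, map_mul, map_pow, res_res, res_res, res_t, map_sub, map_mul, map_pow]
    rw [pl_res, pl_res, ← pull_t' c i k l (i ⁻¹ᵁ U.1) U.1 le_rfl (hU.trans hk) (hU.trans hl)
      (i.preimage_mono (hU.trans hk)) (i.preimage_mono (hU.trans hl))]
    have hk' : i ⁻¹ᵁ U.1 ≤ (c.pull i).W k := i.preimage_mono (hU.trans hk)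
    have hl' : i ⁻¹ᵁ U.1 ≤ (c.pull i).W l := i.preimage_mono (hU.trans hl)
    have key := hsec k l (i ⁻¹ᵁ U.1) hk' hl'
    rw [← hfs, res_plSec i f k _ hk', res_plSec i f l _ hl'] at key
    rw [sub_eq_zero]
    exact key
  have hloc : i ⁻¹ᵁ (c.locus f) = (c.pull i).locus s := by
    rw [← locus_plSec, hfs]
  have hlocle : c.locus f ≤ c.W j₀ := by
    intro y hy
    obtain ⟨w, rfl⟩ := hs y
    have : w ∈ i ⁻¹ᵁ (c.locus f) := hy
    rw [hloc] at this
    exact hle this
  obtain ⟨N, hN⟩ := exists_ker_pow_eq_bot i hs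
  obtain ⟨K, g, hK, hg, hgf⟩ := hc.exists_lift_of_nilpotent hN hmod j₀
    (fun k => (basicOpen_le_locus f k).trans hlocle)
  obtain ⟨m, hm⟩ : ∃ m, (n + 1) * K = m + 1 := ⟨(n + 1) * K - 1, by
    have : 0 < (n + 1) * K := Nat.mul_pos (Nat.succ_pos n) hK
    omega⟩
  rw [hm] at hg
  refine ⟨m, g, hg, ?_, ?_⟩
  · rw [hgf]
    change z ∈ i ⁻¹ᵁ (c.locus f)
    rw [hloc]
    exact hz
  · rw [hg.locus_eq_of_le (hgf.le.trans hlocle)]
    exact (ha j₀).basicOpen _

end Coc

end Groth.Agent.CohqB.AmpCocycle
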