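import Groth.Agent.CohqB.AmpSpread3
import Groth.Agent.CohqB.AmpGeneric
import Groth.Agent.CohqB.AmpThick2
import Mathlib.AlgebraicGeometry.Noetherian
import Mathlib.AlgebraicGeometry.Morphisms.Proper

/-!
# Ampleness spreads out from `X ×_Y Spec O_{Y,y}` to a neighbourhood of `y`
-/

set_option autoImplicit false
universe u v

open CategoryTheory CategoryTheory.Limits AlgebraicGeometry TopologicalSpace

namespace Groth.Agent.CohqB.AmpCocycle

variable {X Y : Scheme.{u}}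

/-- Restricting an ample module further to an affine open of the base. -/
theorem isAmple_restrict_affine (f : X ⟶ Y) (L : X.Modules) {V W : Y.Opens} (hV : IsAffineOpen V)
    (hW : IsAffineOpen W) (hWV : W ≤ V) (h : CohB1.IsAmple (L.restrict (f ⁻¹ᵁ V).ι)) :
    CohB1.IsAmple (L.restrict (f ⁻¹ᵁ W).ι) := by
  have : IsAffine V := hV
  have hW' : IsAffineOpen (V.ι ⁻¹ᵁ W) := hW.preimage_of_isOpenImmersion _ (by simpa using hWV)
  have : IsAffine (V.ι ⁻¹ᵁ W : V.toScheme.Opens) := hW'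
  have hA : IsAffineHom (V.ι ⁻¹ᵁ W).ι := inferInstance
  have hB : IsAffineHom ((f ∣_ V) ⁻¹ᵁ (V.ι ⁻¹ᵁ W)).ι :=
    MorphismProperty.of_isPullback (isPullback_morphismRestrict (f ∣_ V) (V.ι ⁻¹ᵁ W)) hA
  rw [isAmple_restrict_iff] at h
  have h2 := isAmple_pullback ((f ∣_ V) ⁻¹ᵁ (V.ι ⁻¹ᵁ W)).ι h
  rw [isAmple_pullback_comp_iff _ _ _ rfl] at h2
  refine isAmple_restrict_of_range _ _ ?_ h2
  rw [Scheme.Hom.opensRange_comp]
  simp only [Scheme.Opens.opensRange_ι]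
  rw [← Scheme.Hom.comp_preimage, morphismRestrict_ι, Scheme.Hom.comp_preimage,
    Scheme.Hom.image_preimage_eq_opensRange_inf, Scheme.Opens.opensRange_ι]
  exact inf_eq_right.mpr (f.preimage_mono hWV)

set_option backward.isDefEq.respectTransparency false in
theorem exists_iso_fromSpecStalk (U : Y.Opens) (y : Y) (hy : y ∈ U) :
    ∃ φ : Spec (Y.presheaf.stalk y) ≅ Spec (U.toScheme.presheaf.stalk ⟨y, hy⟩),
      φ.hom ≫ U.toScheme.fromSpecStalk ⟨y, hy⟩ = U.fromSpecStalkOfMem y hy :=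
  ⟨asIso (Spec.map (inv (U.ι.stalkMap ⟨y, hy⟩))), rfl⟩

/-- Ampleness spreads out from the localization of the base at a point. -/
theorem exists_nhd_isAmple [IsNoetherian X] (f : X ⟶ Y) (y : Y) (L : X.Modules)
    (hL : PicF.IsInvertible L)
    (hA : CohB1.IsAmple ((Scheme.Modules.pullback (pullback.fst f (Y.fromSpecStalk y))).obj L)) :
    ∃ V : Y.Opens, y ∈ V ∧ IsAffineOpen V ∧ CohB1.IsAmple (L.restrict (f ⁻¹ᵁ V).ι) := by
  -- an affine neighbourhood
  obtain ⟨Y₀, hY₀', hy₀⟩ : ∃ Y₀ : Y.Opens, IsAffineOpen Y₀ ∧ y ∈ Y₀ := by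
    obtain ⟨_, ⟨Y₀, hY₀, rfl⟩, hyY₀, -⟩ :=
      Y.isBasis_affineOpens.exists_subset_of_mem_open (Set.mem_univ y) isOpen_univ
    exact ⟨Y₀, hY₀, hyY₀⟩
  have : IsAffine Y₀ := hY₀'
  let y₀ : Y₀ := ⟨y, hy₀⟩
  set X₀ : X.Opens := f ⁻¹ᵁ Y₀ with hX₀
  let L₀ : X₀.toScheme.Modules := (Scheme.Modules.pullback X₀.ι).obj L
  have hL₀ : PicF.IsInvertible L₀ := Groth.Agent.Fdesc.LocGen.isInvertible_pullback X₀.ι hL
  have hN : IsNoetherian X₀.toScheme := by
    have : IsLocallyNoetherian X₀.toScheme := inferInstance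
    have : CompactSpace X₀.toScheme := isCompact_iff_compactSpace.mp
      (NoetherianSpace.isCompact (α := X) _)
    exact {}
  obtain ⟨n, c, ha, ⟨T⟩⟩ := exists_triv_affine' L₀ hL₀
  have hc : c.Fin := Coc.fin_of_isNoetherian ha
  -- the cartesian squares
  have sq1 : IsPullback X₀.ι (f ∣_ Y₀) f Y₀.ι := (isPullback_morphismRestrict f Y₀).flip
  have outer : IsPullback (pullback.fst f (Y.fromSpecStalk y)) (pullback.snd f (Y.fromSpecStalk y))
    f (Y.fromSpecStalk y) := IsPullback.of_hasPullback _ _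
  let s₀ : Spec (Y.presheaf.stalk y) ⟶ Y₀ := Y₀.fromSpecStalkOfMem y hy₀
  have hs₀ : s₀ ≫ Y₀.ι = Y.fromSpecStalk y := Y₀.fromSpecStalkOfMem_ι y hy₀
  let g₀ : pullback f (Y.fromSpecStalk y) ⟶ X₀ := sq1.lift (pullback.fst f (Y.fromSpecStalk y))
    (pullback.snd f (Y.fromSpecStalk y) ≫ s₀) (by
      rw [Category.assoc, hs₀, outer.w])
  have hg₀ : g₀ ≫ X₀.ι = pullback.fst f (Y.fromSpecStalk y) := sq1.lift_fst _ _ _
  have left : IsPullback g₀ (pullback.snd f (Y.fromSpecStalk y)) (f ∣_ Y₀) s₀ := by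
    refine IsPullback.of_right (h₁₂ := X₀.ι) (v₁₃ := f) (h₂₂ := Y₀.ι) ?_ (sq1.lift_snd _ _ _) sq1
    rw [hg₀, hs₀]
    exact outer
  obtain ⟨φ, hφ⟩ := exists_iso_fromSpecStalk Y₀ y hy₀
  have left' : IsPullback g₀ (pullback.snd f (Y.fromSpecStalk y) ≫ φ.hom) (f ∣_ Y₀)
      (Y₀.toScheme.fromSpecStalk y₀) := by
    refine IsPullback.of_iso left (Iso.refl _) (Iso.refl _) φ (Iso.refl _) ?_ ?_ ?_ ?_
    · simp
    · simp
    · simp
    · simp [hφ, s₀, y₀]
  -- the multiplicative set of functions not vanishing at `y`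
  let M : Submonoid Γ(Y₀, ⊤) :=
    { carrier := {m | y₀ ∈ Y₀.toScheme.basicOpen m}
      mul_mem' := fun {a b} ha hb => by
        change y₀ ∈ Y₀.toScheme.basicOpen (a * b)
        rw [Scheme.basicOpen_mul]; exact ⟨ha, hb⟩
      one_mem' := by
        change y₀ ∈ Y₀.toScheme.basicOpen 1
        rw [Scheme.basicOpen_of_isUnit _ isUnit_one]; trivial }
  obtain ⟨F1, F2, F3, F4⟩ := fromSpecStalk_facts (Y := Y₀.toScheme) y₀
  have hLoc := locz_of_isPullback left' M F1 F2 F3 F4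
  have hAmp : (c.pull g₀).Ample := by
    rw [← (T.pullback g₀).isAmple_iff, isAmple_pullback_comp_iff g₀ X₀.ι _ hg₀]
    exact hA
  obtain ⟨_, ⟨m, hm, rfl⟩, hAm⟩ := hc.ample_spread hLoc hAmp
  have hm' : y₀ ∈ Y₀.toScheme.basicOpen m := hm
  have h1 := (T.pullback _).isAmple_iff.mpr hAm
  rw [isAmple_pullback_comp_iff _ X₀.ι _ rfl] at h1
  refine ⟨Y₀.ι ''ᵁ (Y₀.toScheme.basicOpen m), ⟨y₀, hm', rfl⟩, ?_, ?_⟩
  · rw [Scheme.Hom.isAffineOpen_iff_of_isOpenImmersion]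
    exact (isAffineOpen_top _).basicOpen m
  · refine isAmple_restrict_of_range _ _ ?_ h1
    rw [Scheme.Hom.opensRange_comp, Scheme.Opens.opensRange_ι, ← image_morphismRestrict_preimage,
      Scheme.preimage_basicOpen]
    rfl

end Groth.Agent.CohqB.AmpCocycle
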