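import Groth.Agent.CohqB.AmpRefine
import Mathlib.AlgebraicGeometry.IdealSheaf.Basic
import Mathlib.Algebra.Polynomial.Identities

/-!
# Lifting sections of powers through a nilpotent ideal sheaf

`idl I V` is the ideal of `Γ(X, V)` of functions lying in `I` on every affine open.  Given a family
`f` which is a section of a power modulo `I` and whose locus lies in a member of the cover, some
power of `f` is congruent modulo `I` to a section modulo `I * I` (`Coc.exists_lift_sq`), hence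
modulo `I ^ (2^t)` (`Coc.exists_lift`).
-/

set_option autoImplicit false
universe u v

open CategoryTheory AlgebraicGeometry TopologicalSpace

namespace Groth.Agent.CohqB.AmpCocycle

variable {X : Scheme.{u}} {ι : Type v}

/-- Functions on `V` lying in the ideal sheaf `I`. -/
def idl (I : X.IdealSheafData) (V : X.Opens) : Ideal Γ(X, V) where
  carrier := {a | ∀ (U : X.affineOpens) (h : U.1 ≤ V), res h a ∈ I.ideal U}
  add_mem' ha hb U h := by rw [map_add]; exact add_mem (ha U h) (hb U h)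
  zero_mem' U h := by rw [map_zero]; exact zero_mem _
  smul_mem' r a ha U h := by
    rw [smul_eq_mul, map_mul]; exact Ideal.mul_mem_left _ _ (ha U h)

theorem mem_idl {I : X.IdealSheafData} {V : X.Opens} {a : Γ(X, V)} :
    a ∈ idl I V ↔ ∀ (U : X.affineOpens) (h : U.1 ≤ V), res h a ∈ I.ideal U := Iff.rfl

theorem res_mem_ideal {I : X.IdealSheafData} {U V : X.affineOpens} (h : U.1 ≤ V.1) {a : Γ(X, V.1)}
    (ha : a ∈ I.ideal V) : res h a ∈ I.ideal U :=
  I.ideal_le_comap_ideal (U := U) (V := V) h ha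

theorem mem_idl_of_affine {I : X.IdealSheafData} (U : X.affineOpens) {a : Γ(X, U.1)} :
    a ∈ idl I U.1 ↔ a ∈ I.ideal U := by
  constructor
  · intro h
    simpa using h U le_rfl
  · intro h V hV
    exact res_mem_ideal hV h

theorem res_mem_idl {I : X.IdealSheafData} {V V' : X.Opens} (h : V' ≤ V) {a : Γ(X, V)}
    (ha : a ∈ idl I V) : res h a ∈ idl I V' := by
  intro U hU
  rw [res_res]
  exact ha U _

theorem mul_mem_idl {I J : X.IdealSheafData} {V : X.Opens} {a b : Γ(X, V)}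
    (ha : a ∈ idl I V) (hb : b ∈ idl J V) : a * b ∈ idl (I * J) V := by
  intro U hU
  rw [map_mul]
  exact Ideal.mul_mem_mul (ha U hU) (hb U hU)

theorem mem_ideal_of_res_basicOpen {I : X.IdealSheafData} (U : X.affineOpens) (f a : Γ(X, U.1))
    (H : res (X.basicOpen_le f) a ∈ I.ideal (X.affineBasicOpen f)) :
    ∃ n : ℕ, f ^ n * a ∈ I.ideal U := by
  rw [← I.map_ideal_basicOpen] at H
  have := U.2.isLocalization_basicOpen f
  have H' : algebraMap Γ(X, U.1) Γ(X, X.basicOpen f) a ∈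
      (I.ideal U).map (algebraMap Γ(X, U.1) Γ(X, X.basicOpen f)) := H
  rw [IsLocalization.algebraMap_mem_map_algebraMap_iff (Submonoid.powers f)] at H'
  obtain ⟨_, ⟨n, rfl⟩, hn⟩ := H'
  exact ⟨n, hn⟩

/-- Membership in `idl` is local. -/
theorem mem_idl_of_locally {I : X.IdealSheafData} {V : X.Opens} {a : Γ(X, V)}
    (H : ∀ x ∈ V, ∃ (V' : X.Opens) (h : V' ≤ V), x ∈ V' ∧ res h a ∈ idl I V') : a ∈ idl I V := by
  intro U hU
  set b := res hU a with hb
  have hs : Ideal.span {g : Γ(X, U.1) | ∃ n : ℕ, g ^ n * b ∈ I.ideal U} = ⊤ := by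
    rw [← U.2.self_le_iSup_basicOpen_iff]
    intro x hx
    obtain ⟨V', h', hxV', hV'⟩ := H x (hU hx)
    obtain ⟨g, hg, hxg⟩ := U.2.exists_basicOpen_le (V := V') ⟨x, hxV'⟩ hx
    refine Opens.mem_iSup.mpr ⟨⟨g, ?_⟩, hxg⟩
    apply mem_ideal_of_res_basicOpen U g b
    have h2 : res hg (res h' a) ∈ I.ideal (X.affineBasicOpen g) := hV' (X.affineBasicOpen g) hg
    have e1 : res (X.basicOpen_le g) b = res hg (res h' a) := by
      rw [hb, res_res, res_res]
    rw [e1]
    exact h2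
  apply Submodule.mem_of_span_eq_top_of_smul_pow_mem (I.ideal U) _ hs b
  rintro ⟨g, n, hn⟩
  exact ⟨n, hn⟩

/-- Local nature of `idl` for compact opens and multiplication by powers of a function. -/
theorem exists_pow_mul_mem_idl {I : X.IdealSheafData} {V : X.Opens} (hV : IsCompact (V : Set X))
    (f a : Γ(X, V)) {V' : X.Opens} (hV' : V' ≤ V) (e : V' = X.basicOpen f)
    (H : res hV' a ∈ idl I V') : ∃ n : ℕ, f ^ n * a ∈ idl I V := by
  subst e
  obtain ⟨s, hs, e⟩ := isCompact_and_isOpen_iff_finite_and_eq_biUnion_affineOpens.mp ⟨hV, V.2⟩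
  replace e : V = iSup fun i : s => (i : X.Opens) := by
    ext1; simpa using e
  have h₁ (i : s) : i.1.1 ≤ V := by
    rw [e]
    exact le_iSup (fun (i : s) => (i : Opens (X.toPresheafedSpace))) i
  have h₂ : ∀ i : s, ∃ n : ℕ, (res (h₁ i) f) ^ n * res (h₁ i) a ∈ I.ideal i.1 := by
    intro i
    apply mem_ideal_of_res_basicOpen i.1
    have hle : (X.affineBasicOpen (res (h₁ i) f : Γ(X, i.1.1))).1 ≤ X.basicOpen f := by
      change X.basicOpen (res (h₁ i) f) ≤ _
      rw [basicOpen_res]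
      exact inf_le_right
    have h3 := H (X.affineBasicOpen (res (h₁ i) f : Γ(X, i.1.1))) hle
    have e1 : res (X.basicOpen_le (res (h₁ i) f : Γ(X, i.1.1))) (res (h₁ i) a) =
        res hle (res (X.basicOpen_le f) a) := by
      rw [res_res]
      exact (res_res _ _ _).symm
    rw [e1]
    exact h3
  choose n hn using h₂
  have := hs.to_subtype
  cases nonempty_fintype s
  refine ⟨Finset.univ.sup n, mem_idl_of_locally fun x hx => ?_⟩
  rw [e] at hx
  obtain ⟨i, hi⟩ := Opens.mem_iSup.mp hx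
  refine ⟨i.1.1, h₁ i, hi, (mem_idl_of_affine i.1).mpr ?_⟩
  rw [map_mul, map_pow, ← Nat.sub_add_cancel (Finset.le_sup (Finset.mem_univ i) : n i ≤ _),
    pow_add, mul_assoc]
  exact Ideal.mul_mem_left _ _ (hn i)

/-- Extension of elements of an ideal from a basic open of an affine open. -/
theorem exists_extension_ideal {I : X.IdealSheafData} (U : X.affineOpens) (f : Γ(X, U.1))
    (a : Γ(X, X.basicOpen f)) (ha : a ∈ I.ideal (X.affineBasicOpen f)) :
    ∃ (n : ℕ) (b : Γ(X, U.1)), b ∈ I.ideal U ∧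
      res (X.basicOpen_le f) b = res (X.basicOpen_le f) f ^ n * a := by
  rw [← I.map_ideal_basicOpen] at ha
  have := U.2.isLocalization_basicOpen f
  have H' : a ∈ (I.ideal U).map (algebraMap Γ(X, U.1) Γ(X, X.basicOpen f)) := ha
  rw [IsLocalization.mem_map_algebraMap_iff (Submonoid.powers f)] at H'
  obtain ⟨⟨b, ⟨_, n, rfl⟩⟩, hb⟩ := H'
  refine ⟨n, b.1, b.2, ?_⟩
  rw [mul_comm]
  refine Eq.trans hb.symm ?_
  simp only [map_pow]
  rfl

namespace Coc

variable (c : Coc X ι)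

/-- `f` is a section of the `n`-th power of the cocycle modulo the ideal sheaf `I`. -/
def IsSecMod (I : X.IdealSheafData) (n : ℕ) (f : ∀ i, Γ(X, c.W i)) : Prop :=
  ∀ (i j : ι) (V : X.Opens) (hi : V ≤ c.W i) (hj : V ≤ c.W j),
    res hi (f i) - c.t i j V hi hj ^ n * res hj (f j) ∈ idl I V

variable {c}

theorem idl_bot {V : X.Opens} {a : Γ(X, V)} (ha : a ∈ idl (⊥ : X.IdealSheafData) V) : a = 0 := by
  apply eq_of_locally
  intro x hx
  obtain ⟨_, ⟨U, hU, rfl⟩, hxU, hUV⟩ :=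
    X.isBasis_affineOpens.exists_subset_of_mem_open hx V.2
  refine ⟨U, hUV, hxU, ?_⟩
  have := ha ⟨U, hU⟩ hUV
  rw [map_zero]
  simpa using this

theorem IsSecMod.isSec {n : ℕ} {f : ∀ i, Γ(X, c.W i)} (hf : c.IsSecMod ⊥ n f) : c.IsSec n f :=
  fun i j V hi hj => sub_eq_zero.mp (idl_bot (hf i j V hi hj))

/-- the elements of the ideal sheaf are nilpotent -/
def Nil (I : X.IdealSheafData) : Prop := ∀ (U : X.affineOpens), ∀ a ∈ I.ideal U, IsNilpotent a

theorem basicOpen_eq_bot_of_mem {I : X.IdealSheafData} (hI : Nil I) {V : X.Opens} {a : Γ(X, V)}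
    (ha : a ∈ idl I V) : X.basicOpen a = ⊥ := by
  rw [eq_bot_iff]
  intro x hx
  have hxV := X.basicOpen_le _ hx
  obtain ⟨_, ⟨U, hU, rfl⟩, hxU, hUV'⟩ :=
    X.isBasis_affineOpens.exists_subset_of_mem_open hxV V.2
  have hUV : U ≤ V := hUV'
  have h1 := hI ⟨U, hU⟩ _ (ha ⟨U, hU⟩ hUV)
  have h2 : x ∈ X.basicOpen (res hUV a : Γ(X, U)) := by
    rw [basicOpen_res]; exact ⟨hxU, hx⟩
  have h3 : X.basicOpen (res hUV a : Γ(X, U)) = ⊥ := X.basicOpen_eq_bot_of_isNilpotent _ _ h1
  rw [h3] at h2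
  exact h2

theorem basicOpen_eq_of_sub_mem {I : X.IdealSheafData} (hI : Nil I) {V : X.Opens} {a b : Γ(X, V)}
    (h : a - b ∈ idl I V) : X.basicOpen a = X.basicOpen b := by
  have key : ∀ {a b : Γ(X, V)}, a - b ∈ idl I V → X.basicOpen a ≤ X.basicOpen b := by
    intro a b h
    have h1 := X.basicOpen_add_le b (a - b)
    rw [basicOpen_eq_bot_of_mem hI h, sup_bot_eq, add_sub_cancel] at h1
    exact h1
  refine le_antisymm (key h) (key ?_)
  have := neg_mem h
  rwa [neg_sub] at this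

theorem pow_sub_pow_mem {R : Type*} [CommRing R] {J : Ideal R} {a b : R} (h : a - b ∈ J) (n : ℕ) :
    a ^ n - b ^ n ∈ J := by
  obtain ⟨q, hq⟩ := sub_dvd_pow_sub_pow a b n
  rw [hq]
  exact Ideal.mul_mem_right _ _ h

theorem exists_pow_expansion {R : Type*} [CommRing R] (F S : R) (K : ℕ) :
    ∃ q : R, F ^ K - S ^ K = K * F ^ (K - 1) * (F - S) - q * (F - S) ^ 2 := by
  obtain ⟨q, hq⟩ := Polynomial.powAddExpansion F (S - F) K
  refine ⟨q, ?_⟩
  rw [add_sub_cancel] at hq
  rw [hq]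
  ring

/-- Lifting a section of a power modulo `I` to a section of a higher power modulo `I * I`, when
the locus is contained in one member of the cover. -/
theorem Fin.exists_lift_sq (hc : c.Fin) {I : X.IdealSheafData} (hI : Nil I) {n : ℕ}
    {f : ∀ i, Γ(X, c.W i)} (hf : c.IsSecMod I n f) (j₀ : ι)
    (hj₀ : ∀ i, X.basicOpen (f i) ≤ c.W j₀) :
    ∃ (K : ℕ) (g : ∀ i, Γ(X, c.W i)), 0 < K ∧ c.IsSecMod (I * I) (n * K) g ∧
      ∀ i, g i - f i ^ K ∈ idl I (c.W i) := by
  classical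
  have := hc.finite
  cases nonempty_fintype ι
  -- the corrections on the basic opens
  let δ : ∀ i, Γ(X, X.basicOpen (f i)) := fun i =>
    res (X.basicOpen_le (f i)) (f i) -
      c.t i j₀ _ (X.basicOpen_le (f i)) (hj₀ i) ^ n * res (hj₀ i) (f j₀)
  have hδ : ∀ i, δ i ∈ idl I (X.basicOpen (f i)) := fun i => hf i j₀ _ _ _
  have h1 : ∀ i, ∃ (k : ℕ) (b : Γ(X, c.W i)), b ∈ idl I (c.W i) ∧
      res (X.basicOpen_le (f i)) b = res (X.basicOpen_le (f i)) (f i) ^ k * δ i := by
    intro i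
    obtain ⟨k, b, hb, hb'⟩ := exists_extension_ideal (I := I) ⟨c.W i, hc.affine i⟩ (f i) (δ i)
      ((mem_idl_of_affine (X.affineBasicOpen (U := ⟨c.W i, hc.affine i⟩) (f i))).mp (hδ i))
    exact ⟨k, b, (mem_idl_of_affine ⟨c.W i, hc.affine i⟩).mpr hb, hb'⟩
  choose k' b hb hb' using h1
  set k := Finset.univ.sup k' with hk
  let e : ∀ i, Γ(X, c.W i) := fun i => f i ^ (k - k' i) * b i
  have he : ∀ i, e i ∈ idl I (c.W i) := fun i => Ideal.mul_mem_left _ _ (hb i)
  have he' : ∀ i, res (X.basicOpen_le (f i)) (e i) =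
      res (X.basicOpen_le (f i)) (f i) ^ k * δ i := by
    intro i
    have : k' i ≤ k := Finset.le_sup (Finset.mem_univ i)
    simp only [e, map_mul, map_pow, hb']
    rw [← mul_assoc, ← pow_add, Nat.sub_add_cancel this]
  -- the brackets on the overlaps
  let B : ∀ i l, Γ(X, c.W i ⊓ c.W l) := fun i l =>
    res inf_le_left (f i) ^ k * (res inf_le_left (f i) -
      c.t i l _ inf_le_left inf_le_right ^ n * res inf_le_right (f l)) -
      (res inf_le_left (e i) - c.t i l _ inf_le_left inf_le_right ^ (n * (k + 1)) *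
        res inf_le_right (e l))
  have hB : ∀ i l, ∃ m : ℕ, (res inf_le_left (f i) : Γ(X, c.W i ⊓ c.W l)) ^ m * B i l ∈
      idl (I * I) (c.W i ⊓ c.W l) := by
    intro i l
    have e0 : (c.W i ⊓ c.W l) ⊓ X.basicOpen (f i) =
        X.basicOpen (res inf_le_left (f i) : Γ(X, c.W i ⊓ c.W l)) := by
      rw [basicOpen_res]
    have hle : (c.W i ⊓ c.W l) ⊓ X.basicOpen (f i) ≤ X.basicOpen (f l) := by
      have h2 := basicOpen_eq_of_sub_mem hI (hf i l (c.W i ⊓ c.W l) inf_le_left inf_le_right)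
      rw [basicOpen_res, Scheme.basicOpen_mul,
        Scheme.basicOpen_of_isUnit _ ((c.isUnit_t i l _ _).pow n), basicOpen_res] at h2
      rw [h2]
      exact inf_le_right.trans inf_le_right
    refine exists_pow_mul_mem_idl (hc.compact i l) _ _ (V' := (c.W i ⊓ c.W l) ⊓ X.basicOpen (f i))
      inf_le_left e0 ?_
    set V' := (c.W i ⊓ c.W l) ⊓ X.basicOpen (f i) with hV'
    have hi : V' ≤ c.W i := inf_le_left.trans inf_le_left
    have hl : V' ≤ c.W l := inf_le_left.trans inf_le_right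
    have hDi : V' ≤ X.basicOpen (f i) := inf_le_right
    have hj : V' ≤ c.W j₀ := hDi.trans (hj₀ i)
    have e1 := congrArg (res hDi) (he' i)
    have e2 := congrArg (res hle) (he' l)
    simp only [δ, map_mul, map_pow, map_sub, res_res, res_t] at e1 e2
    have e3 : res (inf_le_left : V' ≤ c.W i ⊓ c.W l)
        (c.t i l (c.W i ⊓ c.W l) inf_le_left inf_le_right) = c.t i l V' hi hl := c.res_t i l _ _ _
    have e4 : c.t i j₀ V' hi hj = c.t i l V' hi hl * c.t l j₀ V' hl hj :=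
      (c.t_mul i l j₀ hi hl hj).symm
    simp only [B, map_sub, map_mul, map_pow, res_res, e3, e1, e2]
    have m1 : res hi (f i) ^ k - (c.t i l V' hi hl ^ n * res hl (f l)) ^ k ∈ idl I V' :=
      pow_sub_pow_mem (hf i l V' hi hl) k
    have m2 : res hl (f l) - c.t l j₀ V' hl hj ^ n * res hj (f j₀) ∈ idl I V' :=
      hf l j₀ V' hl hj
    have m3 := neg_mem (Ideal.mul_mem_left _ (c.t i l V' hi hl ^ n) (mul_mem_idl m1 m2))
    convert m3 using 1
    rw [e4]
    ring
  choose m hm using hB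
  set M := Finset.univ.sup (fun p : ι × ι => m p.1 p.2) with hM
  have hM' : ∀ i l, (res inf_le_left (f i) : Γ(X, c.W i ⊓ c.W l)) ^ M * B i l ∈
      idl (I * I) (c.W i ⊓ c.W l) := by
    intro i l
    have hmM : m i l ≤ M := Finset.le_sup (f := fun p : ι × ι => m p.1 p.2) (Finset.mem_univ (i, l))
    rw [← Nat.sub_add_cancel hmM, pow_add, mul_assoc]
    exact Ideal.mul_mem_left _ _ (hm i l)
  refine ⟨k + 1 + M, fun i => f i ^ (k + 1 + M) - ((k + 1 + M : ℕ) : Γ(X, c.W i)) * f i ^ M * e i,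
    by omega, ?_, ?_⟩
  · -- it suffices to work on the overlaps
    suffices H : ∀ i l, res inf_le_left
        (f i ^ (k + 1 + M) - ((k + 1 + M : ℕ) : Γ(X, c.W i)) * f i ^ M * e i) -
        c.t i l (c.W i ⊓ c.W l) inf_le_left inf_le_right ^ (n * (k + 1 + M)) * res inf_le_right
          (f l ^ (k + 1 + M) - ((k + 1 + M : ℕ) : Γ(X, c.W l)) * f l ^ M * e l) ∈
        idl (I * I) (c.W i ⊓ c.W l) by
      intro i l V hi hl
      have := res_mem_idl (le_inf hi hl) (H i l)
      rw [map_sub, map_mul, map_pow, res_res, res_res, res_t] at this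
      exact this
    intro i l
    have mB := hM' i l
    simp only [B] at mB
    have mε : (res inf_le_left (f i) : Γ(X, c.W i ⊓ c.W l)) -
      c.t i l _ inf_le_left inf_le_right ^ n * res inf_le_right (f l) ∈ idl I (c.W i ⊓ c.W l) :=
      hf i l _ _ _
    have mE : (res inf_le_right (e l) : Γ(X, c.W i ⊓ c.W l)) ∈ idl I (c.W i ⊓ c.W l) :=
      res_mem_idl _ (he l)
    simp only [map_sub, map_mul, map_pow, map_natCast]
    generalize (res inf_le_left (f i) : Γ(X, c.W i ⊓ c.W l)) = F at *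
    generalize (res inf_le_right (f l) : Γ(X, c.W i ⊓ c.W l)) = G at *
    generalize (res inf_le_left (e i) : Γ(X, c.W i ⊓ c.W l)) = E at *
    generalize (res inf_le_right (e l) : Γ(X, c.W i ⊓ c.W l)) = E' at *
    generalize (c.t i l (c.W i ⊓ c.W l) inf_le_left inf_le_right) = T at *
    obtain ⟨q, hq⟩ := exists_pow_expansion F (T ^ n * G) (k + 1 + M)
    have mS : F ^ M - (T ^ n * G) ^ M ∈ idl I (c.W i ⊓ c.W l) := pow_sub_pow_mem mε M
    have a1 := Ideal.mul_mem_left _ (((k + 1 + M : ℕ)) : Γ(X, c.W i ⊓ c.W l)) mB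
    have a2 := Ideal.mul_mem_left _ q (mul_mem_idl mε mε)
    have a3 := Ideal.mul_mem_left _ (((k + 1 + M : ℕ) : Γ(X, c.W i ⊓ c.W l)) * T ^ (n * (k + 1)))
      (mul_mem_idl mS mE)
    have a4 := sub_mem (sub_mem a1 a2) a3
    convert a4 using 1
    have hq' : F ^ (k + 1 + M) = (T ^ n * G) ^ (k + 1 + M) +
        ((k + 1 + M : ℕ) * F ^ (k + M) * (F - T ^ n * G) - q * (F - T ^ n * G) ^ 2) := by
      have : k + 1 + M - 1 = k + M := by omega
      rw [← this, ← hq]
      ring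
    rw [hq']
    have p1 : T ^ (n * (k + 1 + M)) = (T ^ n) ^ (k + 1 + M) := pow_mul _ _ _
    have p2 : T ^ (n * (k + 1)) = (T ^ n) ^ (k + 1) := pow_mul _ _ _
    rw [p1, p2]
    generalize T ^ n = S
    push_cast
    ring
  · intro i
    have := neg_mem (Ideal.mul_mem_left _ (((k + 1 + M : ℕ) : Γ(X, c.W i)) * f i ^ M) (he i))
    convert this using 1
    ring

theorem idl_mono {I J : X.IdealSheafData} (h : I ≤ J) (V : X.Opens) : idl I V ≤ idl J V :=
  fun _ ha U hU => h U (ha U hU)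

/-- Lifting a section of a power modulo `I` to a section of a higher power modulo `I ^ (2 ^ t)`. -/
theorem Fin.exists_lift (hc : c.Fin) {I : X.IdealSheafData} (hI : Nil I) {n : ℕ}
    {f : ∀ i, Γ(X, c.W i)} (hf : c.IsSecMod I n f) (j₀ : ι)
    (hj₀ : ∀ i, X.basicOpen (f i) ≤ c.W j₀) (t : ℕ) :
    ∃ (K : ℕ) (g : ∀ i, Γ(X, c.W i)), 0 < K ∧ c.IsSecMod (I ^ (2 ^ t)) (n * K) g ∧
      ∀ i, g i - f i ^ K ∈ idl I (c.W i) := by
  induction t with
  | zero =>
    refine ⟨1, f, one_pos, ?_, fun i => ?_⟩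
    · simpa using hf
    · simp
  | succ t ih =>
    obtain ⟨K, g, hK, hg, hgf⟩ := ih
    have hle : I ^ (2 ^ t) ≤ I := fun U => by
      rw [Scheme.IdealSheafData.ideal_pow]
      exact Ideal.pow_le_self (pow_ne_zero _ two_ne_zero)
    have hnil : Nil (I ^ (2 ^ t)) := fun U a ha => hI U a (hle U ha)
    have hloc : ∀ i, X.basicOpen (g i) = X.basicOpen (f i) := by
      intro i
      rw [basicOpen_eq_of_sub_mem hI (hgf i), Scheme.basicOpen_pow _ _ hK]
    obtain ⟨K', g', hK', hg', hgf'⟩ := hc.exists_lift_sq hnil hg j₀ (fun i => by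
      rw [hloc]; exact hj₀ i)
    refine ⟨K * K', g', Nat.mul_pos hK hK', ?_, fun i => ?_⟩
    · rw [← mul_assoc, pow_succ 2 t, mul_two, pow_add]
      exact hg'
    · have h1 := idl_mono hle _ (hgf' i)
      have h2 : g i ^ K' - (f i ^ K) ^ K' ∈ idl I (c.W i) := pow_sub_pow_mem (hgf i) K'
      have h3 := add_mem h1 h2
      rw [pow_mul]
      convert h3 using 1
      ring

/-- Lifting a section of a power modulo a nilpotent ideal sheaf. -/
theorem Fin.exists_lift_of_nilpotent (hc : c.Fin) {I : X.IdealSheafData} {N : ℕ}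
    (hN : I ^ N = ⊥) {n : ℕ} {f : ∀ i, Γ(X, c.W i)} (hf : c.IsSecMod I n f) (j₀ : ι)
    (hj₀ : ∀ i, X.basicOpen (f i) ≤ c.W j₀) :
    ∃ (K : ℕ) (g : ∀ i, Γ(X, c.W i)), 0 < K ∧ c.IsSec (n * K) g ∧
      c.locus g = c.locus f := by
  have hI : Nil I := fun U a ha => by
    refine ⟨N, ?_⟩
    have h1 : a ^ N ∈ (I ^ N).ideal U := by
      rw [Scheme.IdealSheafData.ideal_pow]
      exact Ideal.pow_mem_pow ha N
    rw [hN] at h1
    simpa using h1
  obtain ⟨K, g, hK, hg, hgf⟩ := hc.exists_lift hI hf j₀ hj₀ N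
  have hbot : I ^ (2 ^ N) = ⊥ := by
    have h2 : N ≤ 2 ^ N := Nat.lt_two_pow_self.le
    rw [← Nat.sub_add_cancel h2, pow_add, hN, Scheme.IdealSheafData.mul_bot]
  rw [hbot] at hg
  refine ⟨K, g, hK, hg.isSec, ?_⟩
  unfold locus
  congr 1
  funext i
  rw [basicOpen_eq_of_sub_mem hI (hgf i), Scheme.basicOpen_pow _ _ hK]

end Coc

end Groth.Agent.CohqB.AmpCocycle
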