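import Groth.Agent.CohqB.DevSupport


set_option autoImplicit false

/-!
# The unit `M ⟶ j_* j^* M` for an open immersion, and the split-support sequence (Stacks 01YD)
-/

universe u

open CategoryTheory CategoryTheory.Limits AlgebraicGeometry Opposite TopologicalSpace

namespace Groth.Agent.CohqB.DevSplit

open Groth.Agent.CohqB.DevSupport

variable {X : Scheme.{u}}

/-- The unit `M ⟶ j_* (M|_U)`. -/
noncomputable def unitJ (U : X.Opens) (M : X.Modules) : M ⟶ (Coh.push U.ι).obj (M.restrict U.ι) :=
  (Scheme.Modules.restrictAdjunction U.ι).unit.app M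

theorem unitJ_app (U : X.Opens) (M : X.Modules) (V : X.Opens) :
    (unitJ U M).app V = M.presheaf.map (homOfLE (U.ι.image_preimage_le V)).op := rfl

theorem image_preimage_eq_inf (U V : X.Opens) : U.ι ''ᵁ (U.ι ⁻¹ᵁ V) = U ⊓ V := by
  rw [Scheme.Hom.image_preimage_eq_opensRange_inf, Scheme.Opens.opensRange_ι]

/-- Sections of `M` killed by `unitJ` over `V`: those vanishing on `V ⊓ U`. -/
theorem isIso_unitJ_app_of_le (U : X.Opens) (M : X.Modules) (V : X.Opens) (h : V ≤ U) :
    IsIso ((unitJ U M).app V) := by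
  rw [unitJ_app]
  have : U.ι ''ᵁ (U.ι ⁻¹ᵁ V) = V := by rw [image_preimage_eq_inf]; exact inf_eq_right.2 h
  have h2 : IsIso (homOfLE (U.ι.image_preimage_le V)) := by
    refine ⟨homOfLE this.ge, ?_, ?_⟩ <;> exact Subsingleton.elim _ _
  exact Functor.map_isIso M.presheaf (homOfLE (U.ι.image_preimage_le V)).op

/-- sections of `j_* M|_U` over `V` are sections of `M` over `V ⊓ U`; they vanish if ... -/
theorem subsingleton_push_sections (U : X.Opens) (M : X.Modules) (V : X.Opens)
    (h : ∀ x ∈ U ⊓ V, x ∉ CohB1.support M) :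
    Subsingleton Γ((Coh.push U.ι).obj (M.restrict U.ι), V) := by
  refine subsingleton_sections_of_support M (U.ι ''ᵁ (U.ι ⁻¹ᵁ V)) ?_
  rw [image_preimage_eq_inf]; exact h

/-- If the restriction of `φ` to an open `U` is an isomorphism, so are its stalks at points of `U`. -/
theorem isIso_stalk_of_isIso_restrict (U : X.Opens) {M N : X.Modules} (φ : M ⟶ N)
    [IsIso ((Scheme.Modules.restrictFunctor U.ι).map φ)] (x : X) (hx : x ∈ U) :
    IsIso ((stalkF X x).map φ) := by
  let y : (U : Scheme.{u}) := ⟨x, hx⟩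
  have h := (NatIso.isIso_map_iff (Scheme.Modules.restrictStalkNatIso U.ι y) φ).1
    (by dsimp only [Functor.comp_map]; infer_instance)
  exact h

theorem isIso_restrict_of_app (U : X.Opens) {M N : X.Modules} (φ : M ⟶ N)
    (h : ∀ V : X.Opens, V ≤ U → IsIso (φ.app V)) :
    IsIso ((Scheme.Modules.restrictFunctor U.ι).map φ) := by
  rw [Scheme.Modules.Hom.isIso_iff_isIso_app]
  intro V
  exact h (U.ι ''ᵁ V) (by simpa using U.ι.image_le_opensRange V)

theorem isIso_restrict_unitJ (U : X.Opens) (M : X.Modules) :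
    IsIso ((Scheme.Modules.restrictFunctor U.ι).map (unitJ U M)) :=
  isIso_restrict_of_app U _ fun V hV => isIso_unitJ_app_of_le U M V hV

theorem isIso_stalk_unitJ (U : X.Opens) (M : X.Modules) (x : X) (hx : x ∈ U) :
    IsIso ((stalkF X x).map (unitJ U M)) :=
  have := isIso_restrict_unitJ U M
  isIso_stalk_of_isIso_restrict U _ x hx

/-- the kernel of a map that is injective at `x` has zero stalk at `x`. -/
theorem not_mem_support_kernel {M N : X.Modules} (φ : M ⟶ N) (x : X)
    (h : Mono ((stalkF X x).map φ)) : x ∉ CohB1.support (kernel φ) := by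
  rw [not_mem_support_iff_isZero]
  have e : (stalkF X x).obj (kernel φ) ≅ kernel ((stalkF X x).map φ) :=
    PreservesKernel.iso (stalkF X x) φ
  exact IsZero.of_iso (isZero_kernel_of_mono _) e

/-- the cokernel of a map that is surjective at `x` has zero stalk at `x`. -/
theorem not_mem_support_cokernel {M N : X.Modules} (φ : M ⟶ N) (x : X)
    (h : Epi ((stalkF X x).map φ)) : x ∉ CohB1.support (cokernel φ) := by
  rw [not_mem_support_iff_isZero]
  have e : (stalkF X x).obj (cokernel φ) ≅ cokernel ((stalkF X x).map φ) :=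
    PreservesCokernel.iso (stalkF X x) φ
  exact IsZero.of_iso (isZero_cokernel_of_epi _) e

theorem not_mem_support_kernel_unitJ (U : X.Opens) (M : X.Modules) (x : X) (hx : x ∈ U) :
    x ∉ CohB1.support (kernel (unitJ U M)) :=
  have := isIso_stalk_unitJ U M x hx
  not_mem_support_kernel _ x inferInstance

theorem not_mem_support_push (U : X.Opens) (M : X.Modules) (W : X.Opens)
    (hW : ∀ x ∈ U ⊓ W, x ∉ CohB1.support M) (x : X) (hx : x ∈ W) :
    x ∉ CohB1.support ((Coh.push U.ι).obj (M.restrict U.ι)) :=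
  not_mem_support_of_sections _ W
    (fun V hV => subsingleton_push_sections U M V fun y hy => hW y ⟨hy.1, hV hy.2⟩) x hx

end Groth.Agent.CohqB.DevSplit
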