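import Mathlib.RingTheory.Ideal.AssociatedPrime.Basic
import Mathlib.RingTheory.Spectrum.Prime.Basic
import Mathlib.Algebra.Module.FinitePresentation
import Mathlib.RingTheory.Localization.FractionRing
import Mathlib.LinearAlgebra.Dual.Lemmas
import Mathlib.RingTheory.Spectrum.Prime.RingHom
import Mathlib.RingTheory.Localization.Module
import Mathlib.RingTheory.Ideal.Quotient.Noetherian

set_option autoImplicit false

/-!
# Nonzero linear maps out of a finite algebra with surjective spectrum
-/

namespace Groth.Agent.CohqB.FinAlg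

/-- If `A → B` is an injective finite map from a Noetherian domain into a domain then there is an
`A`-linear map `B → A` which is nonzero at `1`. -/
theorem exists_linearMap_domain {A B : Type*} [CommRing A] [CommRing B] [Algebra A B]
    [IsDomain A] [IsDomain B] [IsNoetherianRing A] [Module.Finite A B]
    (hinj : Function.Injective (algebraMap A B)) :
    ∃ l : B →ₗ[A] A, l 1 ≠ 0 := by
  classical
  have : FaithfulSMul A B := (faithfulSMul_iff_algebraMap_injective A B).2 hinj
  let : Algebra (FractionRing A) (FractionRing B) := FractionRing.liftAlgebra A (FractionRing B)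
  have : IsScalarTower A (FractionRing A) (FractionRing B) :=
    FractionRing.isScalarTower_liftAlgebra A (FractionRing B)
  obtain ⟨f, hf⟩ := Module.Projective.exists_dual_ne_zero (FractionRing A)
    (one_ne_zero (α := FractionRing B))
  let g : B →ₗ[A] FractionRing A := (f.restrictScalars A) ∘ₗ (IsScalarTower.toAlgHom A B (FractionRing B)).toLinearMap
  have hg : g 1 ≠ 0 := by simpa [g] using hf
  have : Module.FinitePresentation A B := Module.finitePresentation_of_finite A B
  obtain ⟨h, s, hs⟩ := Module.FinitePresentation.exists_lift_of_isLocalizedModule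
    (nonZeroDivisors A) (Algebra.linearMap A (FractionRing A)) g
  refine ⟨h, fun h0 => ?_⟩
  have h1 : algebraMap A (FractionRing A) (h 1) = s • g 1 := LinearMap.congr_fun hs 1
  rw [h0, map_zero] at h1
  have h2 : (s : A) • g 1 = 0 := h1.symm
  rw [Algebra.smul_def, mul_eq_zero] at h2
  rcases h2 with h2 | h2
  · rw [map_eq_zero_iff _ (IsFractionRing.injective A (FractionRing A))] at h2
    exact nonZeroDivisors.coe_ne_zero s h2
  · exact hg h2

/-- Let `A` be Noetherian and `B` a finite `A`-algebra with `Spec B → Spec A` surjective.  For every nonzero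
`A`-module `M` there is a nonzero `A`-linear map `B → M`. -/
theorem exists_linearMap_ne_zero {A B M : Type*} [CommRing A] [CommRing B] [Algebra A B]
    [IsNoetherianRing A] [Module.Finite A B]
    (hs : Function.Surjective (PrimeSpectrum.comap (algebraMap A B)))
    [AddCommGroup M] [Module A M] [Nontrivial M] : ∃ l : B →ₗ[A] M, l 1 ≠ 0 := by
  obtain ⟨x, hx⟩ := exists_ne (0 : M)
  obtain ⟨p, hp, -⟩ := exists_le_isAssociatedPrime_of_isNoetherianRing A x hx
  rw [isAssociatedPrime_iff] at hp
  obtain ⟨hpp, y, hy⟩ := hp
  obtain ⟨q, hq⟩ := hs ⟨p, hpp⟩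
  have hq' : q.asIdeal.comap (algebraMap A B) = p := congrArg PrimeSpectrum.asIdeal hq
  have : q.asIdeal.LiesOver p := ⟨hq'.symm⟩
  have : Module.Finite A (B ⧸ q.asIdeal) :=
    Module.Finite.of_surjective (IsScalarTower.toAlgHom A B (B ⧸ q.asIdeal)).toLinearMap
      Ideal.Quotient.mk_surjective
  have : Module.Finite (A ⧸ p) (B ⧸ q.asIdeal) :=
    Module.Finite.of_restrictScalars_finite A (A ⧸ p) (B ⧸ q.asIdeal)
  have hinj : Function.Injective (algebraMap (A ⧸ p) (B ⧸ q.asIdeal)) :=
    FaithfulSMul.algebraMap_injective _ _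
  obtain ⟨l, hl⟩ := exists_linearMap_domain hinj
  have hk : p ≤ LinearMap.ker (LinearMap.toSpanSingleton A M y) := by
    intro a ha
    rw [hy, Submodule.mem_colon_singleton, Submodule.mem_bot] at ha
    exact ha
  let j : (A ⧸ p) →ₗ[A] M := Submodule.liftQ p (LinearMap.toSpanSingleton A M y) hk
  have hj : Function.Injective j := by
    rw [injective_iff_map_eq_zero]
    intro a ha
    obtain ⟨a, rfl⟩ := Ideal.Quotient.mk_surjective a
    rw [Ideal.Quotient.eq_zero_iff_mem, hy, Submodule.mem_colon_singleton, Submodule.mem_bot]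
    exact ha
  refine ⟨j ∘ₗ (l.restrictScalars A) ∘ₗ (IsScalarTower.toAlgHom A B (B ⧸ q.asIdeal)).toLinearMap, ?_⟩
  intro h0
  apply hl
  apply hj
  rw [map_zero]
  simpa using h0

end Groth.Agent.CohqB.FinAlg
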