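import Groth.Agent.CohqB.HHResAbs
import Groth.Agent.FormalB.HMod
import Groth.Agent.CohqA.FBCCx
import Groth.Agent.CohqA.Acyc

/-!
# Cohomology of O_X-modules computed by flasque resolutions in O_X-modules, `A`-linearly
-/

set_option autoImplicit false
universe u

open CategoryTheory CategoryTheory.Limits AlgebraicGeometry Opposite TopologicalSpace

namespace Groth.Agent.CohqB.HHRes

open Groth.Agent.FormalB.HMod Groth.Agent.CohqA.FBCSec Groth.Agent.CohqA.FBCCx
  Groth.Agent.CohqB.HHResAbs Groth.Agent.CohqA.ModSec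

variable (A : Type u) [CommRing A] (X : Scheme.{u}) [X.Over (Spec (CommRingCat.of A))]

/-- The structure map. -/
noncomputable def rho : A →+* Γ(X, (⊤ : X.Opens)) :=
  Coh.toGlobal (X ↘ Spec (CommRingCat.of A))

/-- `H⁰(X, M) = Γ(X, M)`. -/
noncomputable def eq0 (M : X.Modules) :
    (HM A X 0).obj M ≃+ (sec (rho A X) (le_refl (⊤ : X.Opens))).obj M :=
  Sheaf.H.equiv₀ (Coh.toAb M) (T := (⊤ : Opens X)) isTerminalTop

theorem eq0_map {M N : X.Modules} (φ : M ⟶ N) (x : (HM A X 0).obj M) :
    eq0 A X N ((HM A X 0).map φ x) = (sec (rho A X) (le_refl (⊤ : X.Opens))).map φ (eq0 A X M x) :=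
  (Sheaf.H.equiv₀_naturality (T := (⊤ : Opens X)) isTerminalTop
    ((SheafOfModules.toSheaf X.ringCatSheaf).map φ) x).symm

theorem sec_map_smulMod (M : X.Modules) (a : A)
    (y : (sec (rho A X) (le_refl (⊤ : X.Opens))).obj M) :
    (sec (rho A X) (le_refl (⊤ : X.Opens))).map (Formal.smulMod A M a) y = a • y := rfl

theorem eq0_smul (M : X.Modules) (a : A) (x : (HM A X 0).obj M) :
    eq0 A X M (a • x) = a • eq0 A X M x := by
  rw [← map_smulMod, eq0_map, sec_map_smulMod]

/-- `H⁰(X, M) = Γ(X, M)`, `A`-linearly. -/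
noncomputable def lin0 (M : X.Modules) :
    (HM A X 0).obj M ≃ₗ[A] (sec (rho A X) (le_refl (⊤ : X.Opens))).obj M :=
  { toFun := eq0 A X M
    invFun := (eq0 A X M).symm
    left_inv := (eq0 A X M).left_inv
    right_inv := (eq0 A X M).right_inv
    map_add' := (eq0 A X M).map_add
    map_smul' := fun a x => eq0_smul A X M a x }

/-- `H⁰(X, -) = Γ(X, -)`, `A`-linearly. -/
noncomputable def iso0 : HM A X 0 ≅ sec (rho A X) (le_refl (⊤ : X.Opens)) :=
  NatIso.ofComponents (fun M => (lin0 A X M).toModuleIso (X₁ := (HM A X 0).obj M)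
    (X₂ := (sec (rho A X) (le_refl (⊤ : X.Opens))).obj M)) (by
      intro M N φ
      ext x
      exact eq0_map A X φ x)

instance : PreservesFiniteLimits (HM A X 0) :=
  preservesFiniteLimits_of_natIso (iso0 A X).symm

/-- Connecting maps and exactness. -/
noncomputable def les (S : ShortComplex X.Modules) (hS : S.ShortExact) :
    LES (fun n => HM A X n) S where
  δ n := dm A S.f S.g S.zero hS n
  w₃ n := by
    ext x
    exact dm_map A S.f S.g S.zero hS n x
  e₃ n := by
    rw [ShortComplex.moduleCat_exact_iff]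
    intro x hx
    exact exact_P A S.f S.g S.zero hS n x hx
  w₁ n := by
    ext x
    exact map_dm A S.f S.g S.zero hS n x
  e₁ n := by
    rw [ShortComplex.moduleCat_exact_iff]
    intro x hx
    exact exact_M A S.f S.g S.zero hS n x hx

theorem isZero_of_fl {M : X.Modules} (hM : Fl M) (n : ℕ) : IsZero ((HM A X (n + 1)).obj M) := by
  have h1 := hM.isFlasque
  have h2 : Subsingleton ((HM A X (n + 1)).obj M) :=
    Groth.Agent.CohtopA.Flasque.subsingleton_H_succ (X := X.toTopCat) (Coh.toAb M) n
  exact ModuleCat.isZero_of_subsingleton _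

/-- Cohomology computed by flasque resolutions. -/
theorem nonempty_homology_iso (K : CochainComplex X.Modules ℕ) (hK : ∀ n, Fl (K.X n))
    (hex : ∀ n, K.ExactAt (n + 1)) (n : ℕ) :
    Nonempty ((secCx (rho A X) (le_refl (⊤ : X.Opens)) K).homology n ≅ (HM A X n).obj (K.cycles 0)) := by
  obtain ⟨e⟩ := HHResAbs.nonempty_homology_iso (T := fun n => HM A X n) K
    (fun m => les A X _ (Groth.Agent.CohqA.CxLeft.T_shortExact K m (hex m)))
    (fun m n => isZero_of_fl A X (hK m) n) n
  exact ⟨(HomologicalComplex.homologyFunctor _ _ n).mapIso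
    ((NatIso.mapHomologicalComplex (iso0 A X).symm (ComplexShape.up ℕ)).app K) ≪≫ e⟩

/-- Cohomology computed by flasque resolutions. -/
theorem nonempty_homology_iso' {M : X.Modules} (K : CochainComplex X.Modules ℕ)
    (hK : ∀ n, Fl (K.X n)) (hex : ∀ n, K.ExactAt (n + 1)) (e : K.cycles 0 ≅ M) (n : ℕ) :
    Nonempty ((secCx (rho A X) (le_refl (⊤ : X.Opens)) K).homology n ≅ (HM A X n).obj M) := by
  obtain ⟨e'⟩ := nonempty_homology_iso A X K hK hex n
  exact ⟨e' ≪≫ (HM A X n).mapIso e⟩

/-- `Z⁰` of an injective resolution. -/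
noncomputable def cyclesZeroIso {M : X.Modules} (I : InjectiveResolution M) :
    I.cocomplex.cycles 0 ≅ M :=
  IsLimit.conePointUniqueUpToIso (I.cocomplex.cyclesIsKernel 0 1 (by simp)) I.isLimitKernelFork

/-- Cohomology computed by injective resolutions in `X.Modules`. -/
theorem nonempty_homology_iso_of_injectiveResolution {M : X.Modules} (I : InjectiveResolution M)
    (n : ℕ) : Nonempty ((secCx (rho A X) (le_refl (⊤ : X.Opens)) I.cocomplex).homology n ≅
      (HM A X n).obj M) :=
  nonempty_homology_iso' A X I.cocomplex (fun _ => Fl.of_injective _)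
    (fun n => I.cocomplex_exactAt_succ n) (cyclesZeroIso X I) n

end Groth.Agent.CohqB.HHRes
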