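import Groth.Agent.CohqB.HHRes

/-!
# Cohomology by flasque resolutions: change of the ring of scalars
-/

set_option autoImplicit false
universe u

open CategoryTheory CategoryTheory.Limits AlgebraicGeometry Opposite TopologicalSpace

namespace Groth.Agent.CohqB.HHRes

open Groth.Agent.FormalB.HMod Groth.Agent.CohqA.FBCSec Groth.Agent.CohqA.FBCCx
  Groth.Agent.CohqB.HHResAbs Groth.Agent.CohqA.ModSec

section

variable {A R : Type u} [CommRing A] [CommRing R] (φ : A →+* R) {X : Scheme.{u}}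
  {W : X.Opens} (ρ : R →+* Γ(X, W)) {U : X.Opens} (h : U ≤ W)

/-- Sections, with restricted scalars. -/
noncomputable def secRestrict : sec (ρ.comp φ) h ≅ sec ρ h ⋙ ModuleCat.restrictScalars φ :=
  Functor.isoWhiskerLeft (Scheme.Modules.toPresheafOfModules X ⋙
      PresheafOfModules.evaluation X.ringCatSheaf.obj (op U))
    (ModuleCat.restrictScalarsComp φ ((Groth.Agent.Ega1.QCohLoc.resO h).comp ρ))

instance : PreservesFiniteColimits (ModuleCat.restrictScalars.{u} φ) where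
  preservesFiniteColimits _ _ _ := ⟨fun {_} => inferInstance⟩

/-- Homology of section complexes, with restricted scalars. -/
noncomputable def homologyRestrict (K : CochainComplex X.Modules ℕ) (n : ℕ) :
    (secCx (ρ.comp φ) h K).homology n ≅
      (ModuleCat.restrictScalars φ).obj ((secCx ρ h K).homology n) :=
  (HomologicalComplex.homologyFunctor _ _ n).mapIso
    ((NatIso.mapHomologicalComplex (secRestrict φ ρ h) (ComplexShape.up ℕ)).app K) ≪≫
  ((secCx ρ h K).sc n).mapHomologyIso (ModuleCat.restrictScalars.{u} φ)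

/-- The same, elementwise. -/
theorem exists_homologyRestrict (K : CochainComplex X.Modules ℕ) (n : ℕ) :
    ∃ e : (secCx ρ h K).homology n ≃+ (secCx (ρ.comp φ) h K).homology n,
      ∀ (a : A) x, e (φ a • x) = a • e x := by
  let e := (homologyRestrict φ ρ h K n).symm.toLinearEquiv
  exact ⟨e.toAddEquiv, fun a x => e.map_smul a x⟩

end

variable (A : Type u) [CommRing A] (X : Scheme.{u}) [X.Over (Spec (CommRingCat.of A))]

/-- Cohomology by flasque resolutions, over `Γ(Spec A, ⊤)`. -/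
theorem exists_equiv {M : X.Modules} (K : CochainComplex X.Modules ℕ)
    (hK : ∀ n, Fl (K.X n)) (hex : ∀ n, K.ExactAt (n + 1)) (e : K.cycles 0 ≅ M) (n : ℕ) :
    ∃ e : (secCx (((X ↘ Spec (CommRingCat.of A)).app ⊤).hom :
        Γ(Spec (CommRingCat.of A), ⊤) →+* Γ(X, (X ↘ Spec (CommRingCat.of A)) ⁻¹ᵁ ⊤))
        (le_refl ((X ↘ Spec (CommRingCat.of A)) ⁻¹ᵁ ⊤)) K).homology n ≃+ Coh.HH X M n,
      ∀ (a : A) x, e ((Scheme.ΓSpecIso (CommRingCat.of A)).inv.hom a • x) = a • e x := by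
  obtain ⟨e₁, he₁⟩ := exists_homologyRestrict (Scheme.ΓSpecIso (CommRingCat.of A)).inv.hom
    (((X ↘ Spec (CommRingCat.of A)).app ⊤).hom :
        Γ(Spec (CommRingCat.of A), ⊤) →+* Γ(X, (X ↘ Spec (CommRingCat.of A)) ⁻¹ᵁ ⊤))
    (le_refl ((X ↘ Spec (CommRingCat.of A)) ⁻¹ᵁ ⊤)) K n
  obtain ⟨e₂⟩ := nonempty_homology_iso' A X K hK hex e n
  let e₃ := e₂.toLinearEquiv
  let e₄ : (secCx (rho A X) (le_refl (⊤ : X.Opens)) K).homology n ≃ₗ[A] Coh.HH X M n :=
    e₃.trans (hmEquiv A X M n)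
  exact ⟨e₁.trans e₄.toAddEquiv, fun a x => (congrArg e₄ (he₁ a x)).trans (e₄.map_smul a (e₁ x))⟩

/-- Cohomology by injective resolutions in `X.Modules`, over `Γ(Spec A, ⊤)`. -/
theorem exists_equiv_of_injectiveResolution {M : X.Modules} (I : InjectiveResolution M) (n : ℕ) :
    ∃ e : (secCx (((X ↘ Spec (CommRingCat.of A)).app ⊤).hom :
        Γ(Spec (CommRingCat.of A), ⊤) →+* Γ(X, (X ↘ Spec (CommRingCat.of A)) ⁻¹ᵁ ⊤))
        (le_refl ((X ↘ Spec (CommRingCat.of A)) ⁻¹ᵁ ⊤)) I.cocomplex).homology n ≃+ Coh.HH X M n,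
      ∀ (a : A) x, e ((Scheme.ΓSpecIso (CommRingCat.of A)).inv.hom a • x) = a • e x :=
  exists_equiv A X I.cocomplex (fun _ => Fl.of_injective _)
    (fun n => I.cocomplex_exactAt_succ n) (cyclesZeroIso X I) n

end Groth.Agent.CohqB.HHRes
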