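import Groth.Agent.CohqA.CxLeft

/-!
# δ-functors computed by acyclic resolutions (abstract, no naturality)

`T 0` left exact, `T n` with connecting morphisms and exact sequences, `K` a complex exact in positive degrees
whose terms are `T`-acyclic: then `H^n (T 0 K) ≅ T n (Z⁰ K)`.
-/

set_option autoImplicit false
set_option backward.isDefEq.respectTransparency false
set_option backward.defeqAttrib.useBackward true
universe u

open CategoryTheory CategoryTheory.Limits

namespace Groth.Agent.CohqB.HHResAbs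

open Groth.Agent.CohqA.CxLeft

variable {C D : Type*} [Category* C] [Category* D] [Abelian C] [Abelian D]

section

variable (F : C ⥤ D) [F.Additive] [PreservesFiniteLimits F] (K : CochainComplex C ℕ) (n : ℕ)

theorem cyclesMapIso_hom_i (n : ℕ) :
    (cyclesMapIso F K n).hom ≫ F.map (K.iCycles n) =
      ((F.mapHomologicalComplex (ComplexShape.up ℕ)).obj K).iCycles n :=
  IsLimit.conePointUniqueUpToIso_hom_comp _
    (KernelFork.mapIsLimit _ (K.cyclesIsKernel n (n + 1) (by simp)) F) WalkingParallelPair.zero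

theorem toCycles_cyclesMapIso (n m : ℕ) :
    ((F.mapHomologicalComplex (ComplexShape.up ℕ)).obj K).toCycles n m ≫ (cyclesMapIso F K m).hom =
      F.map (K.toCycles n m) := by
  have h0 : Mono (F.map (K.iCycles m)) := inferInstance
  have h1 : (((F.mapHomologicalComplex (ComplexShape.up ℕ)).obj K).toCycles n m ≫
      (cyclesMapIso F K m).hom) ≫ F.map (K.iCycles m) =
      F.map (K.toCycles n m) ≫ F.map (K.iCycles m) := by
    rw [Category.assoc, cyclesMapIso_hom_i, ← F.map_comp,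
      K.toCycles_i, HomologicalComplex.toCycles_i]
    rfl
  exact (cancel_mono _).1 h1

/-- `H^{m+1}(F K)` is any cokernel of `F K^m ⟶ F Z^{m+1}`. -/
theorem nonempty_homology_succ_iso (m : ℕ) {Q : D} (q : F.obj (K.cycles (m + 1)) ⟶ Q) [Epi q]
    (w : F.map (K.toCycles m (m + 1)) ≫ q = 0)
    (hq : (ShortComplex.mk _ q w).Exact) :
    Nonempty (((F.mapHomologicalComplex (ComplexShape.up ℕ)).obj K).homology (m + 1) ≅ Q) := by
  have h1 := ((F.mapHomologicalComplex (ComplexShape.up ℕ)).obj K).homologyIsCokernel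
    m (m + 1) (by simp)
  have h2 : IsColimit (CokernelCofork.ofπ (f := F.map (K.toCycles m (m + 1))) q w) :=
    hq.gIsCokernel
  let e : parallelPair (((F.mapHomologicalComplex (ComplexShape.up ℕ)).obj K).toCycles m (m + 1)) 0 ≅
      parallelPair (F.map (K.toCycles m (m + 1))) 0 :=
    parallelPair.ext (Iso.refl _) (cyclesMapIso F K (m + 1))
      ((toCycles_cyclesMapIso F K m (m + 1)).trans (Category.id_comp _).symm)
      (zero_comp.trans (comp_zero).symm)
  exact ⟨IsColimit.coconePointsIsoOfNatIso h1 h2 e⟩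

end

variable (T : ℕ → C ⥤ D)

/-- Connecting morphisms and exactness, for one short exact sequence. -/
structure LES (S : ShortComplex C) where
  δ : ∀ n, (T n).obj S.X₃ ⟶ (T (n + 1)).obj S.X₁
  w₃ : ∀ n, (T n).map S.g ≫ δ n = 0
  e₃ : ∀ n, (ShortComplex.mk _ _ (w₃ n)).Exact
  w₁ : ∀ n, δ n ≫ (T (n + 1)).map S.f = 0
  e₁ : ∀ n, (ShortComplex.mk _ _ (w₁ n)).Exact

variable {T}

/-- Dimension shifting. -/
theorem LES.isIso_δ {S : ShortComplex C} (L : LES T S) (n : ℕ)
    (h : IsZero ((T (n + 1)).obj S.X₂)) (h' : IsZero ((T (n + 2)).obj S.X₂)) :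
    IsIso (L.δ (n + 1)) := by
  have h1 : Mono (L.δ (n + 1)) := (L.e₃ (n + 1)).mono_g (h.eq_of_src _ _)
  have h2 : Epi (L.δ (n + 1)) := (L.e₁ (n + 1)).epi_f (h'.eq_of_tgt _ _)
  exact isIso_of_mono_of_epi _

theorem nonempty_iso (K : CochainComplex C ℕ) (L : ∀ m, LES T (Groth.Agent.CohqA.CxLeft.T K m))
    (hK : ∀ m n, IsZero ((T (n + 1)).obj (K.X m))) (m n : ℕ) :
    Nonempty ((T (n + 1)).obj (K.cycles m) ≅ (T (n + m + 1)).obj (K.cycles 0)) := by
  induction m generalizing n with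
  | zero => exact ⟨Iso.refl _⟩
  | succ m ih =>
    have h1 : IsIso ((L m).δ (n + 1)) := (L m).isIso_δ n (hK m n) (hK m (n + 1))
    obtain ⟨e⟩ := ih (n + 1)
    have e' : (T (n + 1 + m + 1)).obj (K.cycles 0) ≅ (T (n + (m + 1) + 1)).obj (K.cycles 0) :=
      eqToIso (by rw [show n + 1 + m + 1 = n + (m + 1) + 1 by omega])
    have e1 : (T (n + 1)).obj (K.cycles (m + 1)) ≅ (T (n + 1 + 1)).obj (K.cycles m) :=
      @asIso _ _ _ _ ((L m).δ (n + 1)) h1
    exact ⟨e1 ≪≫ e ≪≫ e'⟩

/-- `H^n (T 0 K) ≅ T n (Z⁰ K)`. -/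
theorem nonempty_homology_iso [(T 0).Additive] [PreservesFiniteLimits (T 0)] (K : CochainComplex C ℕ)
    (L : ∀ m, LES T (Groth.Agent.CohqA.CxLeft.T K m))
    (hK : ∀ m n, IsZero ((T (n + 1)).obj (K.X m))) (n : ℕ) :
    Nonempty ((((T 0).mapHomologicalComplex (ComplexShape.up ℕ)).obj K).homology n ≅
      (T n).obj (K.cycles 0)) := by
  cases n with
  | zero => exact ⟨homologyZeroIso (T 0) K⟩
  | succ m =>
    have h1 : Epi ((L m).δ 0) := ((L m).e₁ 0).epi_f ((hK m 0).eq_of_tgt _ _)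
    obtain ⟨e⟩ := @nonempty_homology_succ_iso _ _ _ _ _ _ (T 0) _ _ K m _ ((L m).δ 0) h1
      ((L m).w₃ 0) ((L m).e₃ 0)
    obtain ⟨e'⟩ := nonempty_iso K L hK m 0
    have e'' : (T (0 + m + 1)).obj (K.cycles 0) ≅ (T (m + 1)).obj (K.cycles 0) :=
      eqToIso (by rw [show 0 + m + 1 = m + 1 by omega])
    exact ⟨e ≪≫ e' ≪≫ e''⟩

end Groth.Agent.CohqB.HHResAbs
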