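import Groth.Agent.CohqB.HLinE

/-!
# Linear structure on the long exact sequence of Zariski cohomology (continued)

See the header of `HLinE.lean`.
-/

universe w v u

open CategoryTheory CategoryTheory.Limits AlgebraicGeometry Opposite TopologicalSpace

namespace Groth.Agent.CohqB.HLin

noncomputable section

variable {X : Scheme.{u}}

/-- Abelian sheaves on (the space of) `X`. -/
abbrev AbSh (X : Scheme.{u}) := Sheaf (Opens.grothendieckTopology X) AddCommGrpCat.{u}

theorem hE (X : Scheme.{u}) : HasExt.{u} (AbSh X) := inferInstance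

/-- The constant sheaf `ℤ`. -/
abbrev LX (X : Scheme.{u}) : AbSh X :=
  (constantSheaf (Opens.grothendieckTopology X) AddCommGrpCat.{u}).obj
    (AddCommGrpCat.of (ULift.{u} ℤ))

/-- The same type as `Coh.HH X M n` (for fast type checking). -/
abbrev HX (X : Scheme.{u}) (F : AbSh X) (n : ℕ) : Type u := E (hE X) (LX X) F n

/-- functoriality of cohomology of abelian sheaves. -/
def mapX {F G : AbSh X} (φ : F ⟶ G) (n : ℕ) : HX X F n →+ HX X G n := mapE φ n

theorem mapX_id (F : AbSh X) (n : ℕ) (x : HX X F n) : mapX (𝟙 F) n x = x := mapE_id n x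

theorem mapX_comp {F G H : AbSh X} (φ : F ⟶ G) (ψ : G ⟶ H) (n : ℕ)
    (x : HX X F n) : mapX (φ ≫ ψ) n x = mapX ψ n (mapX φ n x) := mapE_comp φ ψ n x

theorem mapX_add {F G : AbSh X} (φ ψ : F ⟶ G) (n : ℕ) (x : HX X F n) :
    mapX (φ + ψ) n x = mapX φ n x + mapX ψ n x := mapE_add φ ψ n x

/-- The short complex of underlying abelian sheaves. -/
abbrev abS (S : ShortComplex X.Modules) : ShortComplex (AbSh X) :=
  ShortComplex.mk (X₁ := Coh.toAb S.X₁) (X₂ := Coh.toAb S.X₂) (X₃ := Coh.toAb S.X₃)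
    ((toAbF X).map S.f) ((toAbF X).map S.g) (S.map (toAbF X)).zero

/-- A short exact sequence of modules gives a short exact sequence of abelian sheaves. -/
theorem shortExact_toAb {S : ShortComplex X.Modules} (hS : S.ShortExact) :
    (abS S).ShortExact := hS.map_of_exact (toAbF X)

section

variable {S : ShortComplex (AbSh X)} (hS : S.ShortExact)

/-- The connecting homomorphism. -/
def δX (n : ℕ) : HX X S.X₃ n →+ HX X S.X₁ (n + 1) := δE hS n

include hS in
theorem X_exact₂ (n : ℕ) (x : HX X S.X₂ n) :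
    mapX S.g n x = 0 ↔ ∃ y, mapX S.f n y = x := E_exact₂ hS n x

theorem X_exact₃ (n : ℕ) (x : HX X S.X₃ n) :
    δX hS n x = 0 ↔ ∃ y, mapX S.g n y = x := E_exact₃ hS n x

theorem X_exact₁ (n : ℕ) (x : HX X S.X₁ (n + 1)) :
    mapX S.f (n + 1) x = 0 ↔ ∃ y, δX hS n y = x := E_exact₁ hS n x

include hS in
theorem mapX_f_zero_injective : Function.Injective (mapX (X := X) S.f 0) :=
  mapE_f_zero_injective hS

theorem δX_naturality {T : ShortComplex (AbSh X)} (hT : T.ShortExact)
    (f : S ⟶ T) (n : ℕ) (x : HX X S.X₃ n) :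
    δX hT n (mapX f.τ₃ n x) = mapX f.τ₁ (n + 1) (δX hS n x) := δE_naturality hS hT f n x

end

/-- multiplication by a global function on a short complex of modules. -/
def smulS (S : ShortComplex X.Modules) (r : Coh.Γtop X) : abS S ⟶ abS S where
  τ₁ := Coh.smulAb S.X₁ r
  τ₂ := Coh.smulAb S.X₂ r
  τ₃ := Coh.smulAb S.X₃ r
  comm₁₂ := smulAb_naturality S.f r
  comm₂₃ := smulAb_naturality S.g r

/-- the map of short complexes of abelian sheaves. -/
def mapS {S T : ShortComplex X.Modules} (f : S ⟶ T) : abS S ⟶ abS T where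
  τ₁ := (toAbF X).map f.τ₁
  τ₂ := (toAbF X).map f.τ₂
  τ₃ := (toAbF X).map f.τ₃
  comm₁₂ := ((toAbF X).mapShortComplex.map f).comm₁₂
  comm₂₃ := ((toAbF X).mapShortComplex.map f).comm₂₃

/-- The group structure on `HH X M n` (abbreviation of the standard one, for fast type checking). -/
@[reducible] def grp (M : X.Modules) (n : ℕ) : AddCommGroup (Coh.HH X M n) :=
  Abelian.Ext.instAddCommGroup

attribute [local instance 2000] grp

/-- The `Γtop X`-module structure on `HH X M n` (abbreviation of the standard one). -/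
@[reducible] def modΓ (M : X.Modules) (n : ℕ) : Module (Coh.Γtop X) (Coh.HH X M n) :=
  Coh.moduleΓtop M n

attribute [local instance 2000] modΓ

/-- identification of `HX` with `Coh.HH`. -/
def eH (M : X.Modules) (n : ℕ) : HX X (Coh.toAb M) n ≃+ Coh.HH X M n := AddEquiv.refl _


/-- additive version of the functoriality of cohomology. -/
def mapH {M N : X.Modules} (φ : M ⟶ N) (n : ℕ) : Coh.HH X M n →+ Coh.HH X N n :=
  (mapX ((toAbF X).map φ) n : HX X (Coh.toAb M) n →+ HX X (Coh.toAb N) n)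

/-- multiplication by a global function on cohomology. -/
def smulH (M : X.Modules) (r : Coh.Γtop X) (n : ℕ) : Coh.HH X M n →+ Coh.HH X M n :=
  (mapX (Coh.smulAb M r) n : HX X (Coh.toAb M) n →+ HX X (Coh.toAb M) n)

theorem mapH_smulH {M N : X.Modules} (φ : M ⟶ N) (r : Coh.Γtop X) (n : ℕ) (x : Coh.HH X M n) :
    mapH φ n (smulH M r n x) = smulH N r n (mapH φ n x) :=
  (mapX_comp (Coh.smulAb M r) ((toAbF X).map φ) n x).symm.trans
    ((congrArg (fun ψ : Coh.toAb M ⟶ Coh.toAb N => mapX ψ n x) (smulAb_naturality φ r)).trans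
    (mapX_comp ((toAbF X).map φ) (Coh.smulAb N r) n x))

theorem smul_def (M : X.Modules) (n : ℕ) (r : Coh.Γtop X) (x : Coh.HH X M n) :
    r • x = smulH M r n x := rfl

/-- The map induced on cohomology, linear over the global functions. -/
def HHmap {M N : X.Modules} (φ : M ⟶ N) (n : ℕ) : Coh.HH X M n →ₗ[Coh.Γtop X] Coh.HH X N n where
  toFun := mapH φ n
  map_add' x y := map_add _ x y
  map_smul' r x := mapH_smulH φ r n x

theorem HHmap_apply {M N : X.Modules} (φ : M ⟶ N) (n : ℕ) (x : Coh.HH X M n) :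
    HHmap φ n x = mapH φ n x := rfl

/-- Comparison with the form used in the prelude (`Sheaf.H.map`). -/
theorem HHmap_eq {M N : X.Modules} (φ : M ⟶ N) (n : ℕ) :
    (⇑(HHmap φ n) : Coh.HH X M n → Coh.HH X N n) =
      ⇑(Sheaf.H.map ((SheafOfModules.toSheaf X.ringCatSheaf).map φ) n :
        Coh.HH X M n →+ Coh.HH X N n) := rfl

theorem mapH_id (M : X.Modules) (n : ℕ) (x : Coh.HH X M n) : mapH (𝟙 M) n x = x :=
  (congrArg (fun ψ : Coh.toAb M ⟶ Coh.toAb M => mapX ψ n x) ((toAbF X).map_id M)).trans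
    (mapX_id (Coh.toAb M) n x)

theorem mapH_comp {M N P : X.Modules} (φ : M ⟶ N) (ψ : N ⟶ P) (n : ℕ) (x : Coh.HH X M n) :
    mapH (φ ≫ ψ) n x = mapH ψ n (mapH φ n x) :=
  (congrArg (fun ψ : Coh.toAb M ⟶ Coh.toAb P => mapX ψ n x) ((toAbF X).map_comp φ ψ)).trans
    (mapX_comp ((toAbF X).map φ) ((toAbF X).map ψ) n x)

theorem mapH_add {M N : X.Modules} (φ ψ : M ⟶ N) (n : ℕ) (x : Coh.HH X M n) :
    mapH (φ + ψ) n x = mapH φ n x + mapH ψ n x :=
  (mapX_add ((toAbF X).map φ) ((toAbF X).map ψ) n x :)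

theorem mapH_zero (M N : X.Modules) (n : ℕ) (x : Coh.HH X M n) :
    mapH (0 : M ⟶ N) n x = 0 := by
  have := mapH_add (0 : M ⟶ N) 0 n x
  rw [add_zero] at this
  exact left_eq_add.mp this

@[simp] theorem HHmap_id (M : X.Modules) (n : ℕ) : HHmap (𝟙 M) n = LinearMap.id :=
  LinearMap.ext (mapH_id M n)

@[simp] theorem HHmap_comp {M N P : X.Modules} (φ : M ⟶ N) (ψ : N ⟶ P) (n : ℕ) :
    HHmap (φ ≫ ψ) n = (HHmap ψ n).comp (HHmap φ n) :=
  LinearMap.ext (mapH_comp φ ψ n)

theorem HHmap_add {M N : X.Modules} (φ ψ : M ⟶ N) (n : ℕ) :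
    HHmap (φ + ψ) n = HHmap φ n + HHmap ψ n :=
  LinearMap.ext (mapH_add φ ψ n)

theorem HHmap_zero (M N : X.Modules) (n : ℕ) : HHmap (0 : M ⟶ N) n = 0 :=
  LinearMap.ext (mapH_zero M N n)

/-- Isomorphic modules have isomorphic cohomology. -/
def HHequiv {M N : X.Modules} (e : M ≅ N) (n : ℕ) : Coh.HH X M n ≃ₗ[Coh.Γtop X] Coh.HH X N n :=
  LinearEquiv.ofLinearMap (HHmap e.hom n) (HHmap e.inv n)
    (by rw [← HHmap_comp, e.inv_hom_id, HHmap_id]) (by rw [← HHmap_comp, e.hom_inv_id, HHmap_id])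

/-- additive connecting map. -/
def δH {S : ShortComplex X.Modules} (hS : S.ShortExact) (n : ℕ) :
    Coh.HH X S.X₃ n →+ Coh.HH X S.X₁ (n + 1) :=
  (δX (S := abS S) (shortExact_toAb (X := X) hS) n :
    HX X (Coh.toAb S.X₃) n →+ HX X (Coh.toAb S.X₁) (n + 1))

theorem δH_smulH {S : ShortComplex X.Modules} (hS : S.ShortExact) (n : ℕ) (r : Coh.Γtop X)
    (x : Coh.HH X S.X₃ n) : δH hS n (smulH _ r n x) = smulH _ r (n + 1) (δH hS n x) :=
  δX_naturality (S := abS S) (T := abS S) (shortExact_toAb (X := X) hS)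
    (shortExact_toAb (X := X) hS) (smulS S r) n x

/-- The connecting map, linear over the global functions. -/
def HHδ {S : ShortComplex X.Modules} (hS : S.ShortExact) (n : ℕ) :
    Coh.HH X S.X₃ n →ₗ[Coh.Γtop X] Coh.HH X S.X₁ (n + 1) where
  toFun := δH hS n
  map_add' x y := map_add _ x y
  map_smul' r x := δH_smulH hS n r x

theorem HHδ_naturality {S T : ShortComplex X.Modules} (hS : S.ShortExact) (hT : T.ShortExact)
    (f : S ⟶ T) (n : ℕ) (x : Coh.HH X S.X₃ n) :
    HHδ hT n (HHmap f.τ₃ n x) = HHmap f.τ₁ (n + 1) (HHδ hS n x) :=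
  δX_naturality (S := abS S) (T := abS T) (shortExact_toAb (X := X) hS)
    (shortExact_toAb (X := X) hT) (mapS f) n x

section exact

variable {S : ShortComplex X.Modules} (hS : S.ShortExact)
include hS

theorem HH_exact₂ (n : ℕ) : Function.Exact (HHmap S.f n) (HHmap S.g n) :=
  fun x => X_exact₂ (S := abS S) (shortExact_toAb (X := X) hS) n x

theorem HH_exact₃ (n : ℕ) : Function.Exact (HHmap S.g n) (HHδ hS n) :=
  fun x => X_exact₃ (S := abS S) (shortExact_toAb (X := X) hS) n x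

theorem HH_exact₁ (n : ℕ) : Function.Exact (HHδ hS n) (HHmap S.f (n + 1)) :=
  fun x => X_exact₁ (S := abS S) (shortExact_toAb (X := X) hS) n x

theorem HHmap_injective_zero : Function.Injective (HHmap S.f 0) :=
  mapX_f_zero_injective (S := abS S) (shortExact_toAb (X := X) hS)

theorem HH_subsingleton₂ (n : ℕ) (h₁ : Subsingleton (Coh.HH X S.X₁ n))
    (h₃ : Subsingleton (Coh.HH X S.X₃ n)) : Subsingleton (Coh.HH X S.X₂ n) := by
  refine subsingleton_of_forall_eq 0 fun x => ?_
  obtain ⟨y, rfl⟩ := (HH_exact₂ hS n x).mp (Subsingleton.elim _ _)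
  rw [Subsingleton.elim y 0, map_zero]

theorem HH_subsingleton₃ (n : ℕ) (h₂ : Subsingleton (Coh.HH X S.X₂ n))
    (h₁ : Subsingleton (Coh.HH X S.X₁ (n + 1))) : Subsingleton (Coh.HH X S.X₃ n) := by
  refine subsingleton_of_forall_eq 0 fun x => ?_
  obtain ⟨y, rfl⟩ := (HH_exact₃ hS n x).mp (Subsingleton.elim _ _)
  rw [Subsingleton.elim y 0, map_zero]

theorem HH_subsingleton₁ (n : ℕ) (h₃ : Subsingleton (Coh.HH X S.X₃ n))
    (h₂ : Subsingleton (Coh.HH X S.X₂ (n + 1))) : Subsingleton (Coh.HH X S.X₁ (n + 1)) := by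
  refine subsingleton_of_forall_eq 0 fun x => ?_
  obtain ⟨y, rfl⟩ := (HH_exact₁ hS n x).mp (Subsingleton.elim _ _)
  rw [Subsingleton.elim y 0, map_zero]

theorem HH_subsingleton₁_zero (h₂ : Subsingleton (Coh.HH X S.X₂ 0)) :
    Subsingleton (Coh.HH X S.X₁ 0) := (HHmap_injective_zero hS).subsingleton

end exact

section overA

variable (A : Type u) [CommRing A] [X.Over (Spec (CommRingCat.of A))]

/-- The `A`-module structure on `HH X M n` (abbreviation of the prelude instance). -/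
@[reducible] def modA (M : X.Modules) (n : ℕ) : Module A (Coh.HH X M n) :=
  Coh.moduleOver A X M n

attribute [local instance 2000] modA

theorem smulA_def (M : X.Modules) (n : ℕ) (a : A) (x : Coh.HH X M n) :
    a • x = Coh.toGlobal (X ↘ Spec (CommRingCat.of A)) a • x := rfl

/-- A `Γtop X`-linear map between modules on which `A` acts through `toGlobal` is `A`-linear. -/
def toA {M N : X.Modules} {m n : ℕ} (f : Coh.HH X M m →ₗ[Coh.Γtop X] Coh.HH X N n) :
    Coh.HH X M m →ₗ[A] Coh.HH X N n where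
  toFun := f
  map_add' := f.map_add
  map_smul' a x := f.map_smul (Coh.toGlobal (X ↘ Spec (CommRingCat.of A)) a) x

@[simp] theorem toA_apply {M N : X.Modules} {m n : ℕ}
    (f : Coh.HH X M m →ₗ[Coh.Γtop X] Coh.HH X N n) (x : Coh.HH X M m) : toA A f x = f x := rfl

/-- The map induced on cohomology, linear over `A`. -/
def HHmapA {M N : X.Modules} (φ : M ⟶ N) (n : ℕ) : Coh.HH X M n →ₗ[A] Coh.HH X N n :=
  toA A (HHmap φ n)

/-- The connecting map, linear over `A`. -/
def HHδA {S : ShortComplex X.Modules} (hS : S.ShortExact) (n : ℕ) :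
    Coh.HH X S.X₃ n →ₗ[A] Coh.HH X S.X₁ (n + 1) := toA A (HHδ hS n)

/-- Isomorphic modules have isomorphic cohomology, linearly over `A`. -/
def HHequivA {M N : X.Modules} (e : M ≅ N) (n : ℕ) : Coh.HH X M n ≃ₗ[A] Coh.HH X N n :=
  LinearEquiv.ofLinearMap (HHmapA A e.hom n) (HHmapA A e.inv n)
    (LinearMap.ext fun x => (HHequiv e n).apply_symm_apply x)
    (LinearMap.ext fun x => (HHequiv e n).symm_apply_apply x)

variable {S : ShortComplex X.Modules} (hS : S.ShortExact)
include hS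

theorem HHA_exact₂ (n : ℕ) : Function.Exact (HHmapA A S.f n) (HHmapA A S.g n) := HH_exact₂ hS n

theorem HHA_exact₃ (n : ℕ) : Function.Exact (HHmapA A S.g n) (HHδA A hS n) := HH_exact₃ hS n

theorem HHA_exact₁ (n : ℕ) : Function.Exact (HHδA A hS n) (HHmapA A S.f (n + 1)) := HH_exact₁ hS n

end overA

/-- In an exact sequence `M' → M → M''` over a Noetherian ring with finite ends, the middle term
is finite. -/
theorem finite_of_exact {A : Type*} [CommRing A] [IsNoetherianRing A] {M' M M'' : Type*}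
    [AddCommGroup M'] [AddCommGroup M] [AddCommGroup M''] [Module A M'] [Module A M] [Module A M'']
    (f : M' →ₗ[A] M) (g : M →ₗ[A] M'') (h : Function.Exact f g)
    (h' : Module.Finite A M') (h'' : Module.Finite A M'') : Module.Finite A M := by
  have : IsNoetherian A M' := isNoetherian_of_isNoetherianRing_of_finite A M'
  have : IsNoetherian A M'' := isNoetherian_of_isNoetherianRing_of_finite A M''
  have : IsNoetherian A M := isNoetherian_of_range_eq_ker f g (LinearMap.exact_iff.mp h).symm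
  infer_instance

section fin

variable (A : Type u) [CommRing A] [IsNoetherianRing A] [X.Over (Spec (CommRingCat.of A))]
  {S : ShortComplex X.Modules} (hS : S.ShortExact)
include hS

attribute [local instance 2000] modA

theorem finite₂ (n : ℕ) (h₁ : Module.Finite A (Coh.HH X S.X₁ n))
    (h₃ : Module.Finite A (Coh.HH X S.X₃ n)) : Module.Finite A (Coh.HH X S.X₂ n) :=
  finite_of_exact _ _ (HHA_exact₂ A hS n) h₁ h₃

theorem finite₃ (n : ℕ) (h₂ : Module.Finite A (Coh.HH X S.X₂ n))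
    (h₁ : Module.Finite A (Coh.HH X S.X₁ (n + 1))) : Module.Finite A (Coh.HH X S.X₃ n) :=
  finite_of_exact _ _ (HHA_exact₃ A hS n) h₂ h₁

theorem finite₁ (n : ℕ) (h₃ : Module.Finite A (Coh.HH X S.X₃ n))
    (h₂ : Module.Finite A (Coh.HH X S.X₂ (n + 1))) : Module.Finite A (Coh.HH X S.X₁ (n + 1)) :=
  finite_of_exact _ _ (HHA_exact₁ A hS n) h₃ h₂

theorem finite₁_zero (h₂ : Module.Finite A (Coh.HH X S.X₂ 0)) :
    Module.Finite A (Coh.HH X S.X₁ 0) :=
  Module.Finite.of_injective (HHmapA A S.f 0) (HHmap_injective_zero hS)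

end fin

section fin'

attribute [local instance 2000] modA

theorem finite_of_iso (A : Type u) [CommRing A] [X.Over (Spec (CommRingCat.of A))]
    {M N : X.Modules} (e : M ≅ N) (n : ℕ) (h : Module.Finite A (Coh.HH X M n)) :
    Module.Finite A (Coh.HH X N n) := Module.Finite.equiv (HHequivA A e n)

end fin'

section FinH

variable {A : Type u} [CommRing A] (f : X ⟶ Spec (CommRingCat.of A))

/-- `H^n(X, M)` is a finite `A`-module, where `A` acts through `f : X ⟶ Spec A`. -/
def FinH (M : X.Modules) (n : ℕ) : Prop :=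
  letI : X.Over (Spec (CommRingCat.of A)) := ⟨f⟩
  @Module.Finite A (Coh.HH X M n) _ _ (modA A M n)

theorem finH_iff (M : X.Modules) (n : ℕ) : FinH f M n ↔
    @Module.Finite A (Coh.HH X M n) _ _ (Module.compHom (Coh.HH X M n) (Coh.toGlobal f)) := Iff.rfl

theorem FinH.of_iso {M N : X.Modules} (e : M ≅ N) {n : ℕ} (h : FinH f M n) : FinH f N n :=
  letI : X.Over (Spec (CommRingCat.of A)) := ⟨f⟩
  finite_of_iso A e n h

theorem FinH.of_subsingleton {M : X.Modules} {n : ℕ} (h : Subsingleton (Coh.HH X M n)) :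
    FinH f M n :=
  letI : X.Over (Spec (CommRingCat.of A)) := ⟨f⟩
  letI := modA A M n
  (inferInstance : Module.Finite A (Coh.HH X M n))

variable [IsNoetherianRing A] {S : ShortComplex X.Modules} (hS : S.ShortExact)
include hS

theorem FinH.two {n : ℕ} (h₁ : FinH f S.X₁ n) (h₃ : FinH f S.X₃ n) : FinH f S.X₂ n :=
  letI : X.Over (Spec (CommRingCat.of A)) := ⟨f⟩
  finite₂ A hS n h₁ h₃

theorem FinH.three {n : ℕ} (h₂ : FinH f S.X₂ n) (h₁ : FinH f S.X₁ (n + 1)) : FinH f S.X₃ n :=
  letI : X.Over (Spec (CommRingCat.of A)) := ⟨f⟩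
  finite₃ A hS n h₂ h₁

theorem FinH.one {n : ℕ} (h₃ : FinH f S.X₃ n) (h₂ : FinH f S.X₂ (n + 1)) :
    FinH f S.X₁ (n + 1) :=
  letI : X.Over (Spec (CommRingCat.of A)) := ⟨f⟩
  finite₁ A hS n h₃ h₂

theorem FinH.one_zero (h₂ : FinH f S.X₂ 0) : FinH f S.X₁ 0 :=
  letI : X.Over (Spec (CommRingCat.of A)) := ⟨f⟩
  finite₁_zero A hS h₂

end FinH

end

end Groth.Agent.CohqB.HLin
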