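import Groth.Prelude.Def_Coh
import Mathlib.Algebra.Homology.DerivedCategory.Ext.ExactSequences
import Mathlib.RingTheory.Noetherian.Basic
import Mathlib.RingTheory.Finiteness.Basic

/-!
# Linear structure on the long exact sequence of Zariski cohomology

* `mapE`, `δE`, `E_exact₁/₂/₃`, `δE_naturality`: long exact sequence of `Ext L _ n` in an abelian
  category (in particular `Sheaf.H`), with the `HasExt` argument implicit.
* `toAbF X : X.Modules ⥤ Sheaf _ Ab` the underlying abelian sheaf functor; it is exact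
  (preserves finite limits and all small colimits).
* `HHmap φ n : HH X M n →ₗ[Γtop X] HH X N n`, `HHmapA A φ n` the same over `A`.
* `HHδ hS n : HH X S.X₃ n →ₗ[Γtop X] HH X S.X₁ (n+1)`, `HHδA A hS n` the same over `A`,
  for a short exact sequence `hS : S.ShortExact` in `X.Modules`.
* exactness at the three places, and finiteness / vanishing of the three terms.
* `FinH f M n` : `H^n(X, M)` is a finite `A`-module via `f : X ⟶ Spec A`.

The instances `grp`, `modΓ`, `modA` are (reducible) abbreviations of the prelude instances; they only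
serve to keep kernel type checking fast.
-/

universe w v u

open CategoryTheory CategoryTheory.Limits AlgebraicGeometry Opposite TopologicalSpace

namespace Groth.Agent.CohqB.HLin

noncomputable section

section Ext

variable {C : Type u} [Category.{v} C] [Abelian C]

/-- `Ext` with explicit `HasExt` argument. -/
abbrev E (h : HasExt.{w} C) (L F : C) (n : ℕ) : Type w := @Abelian.Ext C _ _ h L F n

/-- functoriality of `Ext L _ n`. -/
def mapE {h : HasExt.{w} C} {L : C} {F G : C} (φ : F ⟶ G) (n : ℕ) : E h L F n →+ E h L G n :=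
  (Abelian.Ext.mk₀ φ).postcomp L (add_zero n)

@[simp] theorem mapE_id {h : HasExt.{w} C} {L : C} {F : C} (n : ℕ) (x : E h L F n) :
    mapE (𝟙 F) n x = x :=
  Abelian.Ext.comp_mk₀_id x

theorem mapE_comp {h : HasExt.{w} C} {L : C} {F G H : C} (φ : F ⟶ G) (ψ : G ⟶ H) (n : ℕ)
    (x : E h L F n) : mapE (φ ≫ ψ) n x = mapE ψ n (mapE φ n x) := by
  simp [mapE]

theorem mapE_add {h : HasExt.{w} C} {L : C} {F G : C} (φ ψ : F ⟶ G) (n : ℕ) (x : E h L F n) :
    mapE (φ + ψ) n x = mapE φ n x + mapE ψ n x := by
  simp [mapE, Abelian.Ext.mk₀_add]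

theorem mapE_zero {h : HasExt.{w} C} {L : C} {F G : C} (n : ℕ) (x : E h L F n) :
    mapE (0 : F ⟶ G) n x = 0 := by
  simp [mapE]

variable {S : ShortComplex C} (hS : S.ShortExact) {h : HasExt.{w} C} {L : C}

/-- The connecting homomorphism. -/
def δE (n : ℕ) : E h L S.X₃ n →+ E h L S.X₁ (n + 1) :=
  hS.extClass.postcomp L rfl

include hS in
theorem E_exact₂ (n : ℕ) (x : E h L S.X₂ n) :
    mapE S.g n x = 0 ↔ ∃ y, mapE S.f n y = x := by
  constructor
  · intro hx
    exact Abelian.Ext.covariant_sequence_exact₂ _ hS x hx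
  · rintro ⟨y, rfl⟩
    simp [mapE]

theorem E_exact₃ (n : ℕ) (x : E h L S.X₃ n) :
    δE hS n x = 0 ↔ ∃ y, mapE S.g n y = x := by
  constructor
  · intro hx
    exact Abelian.Ext.covariant_sequence_exact₃ _ hS x rfl hx
  · rintro ⟨y, rfl⟩
    change Abelian.Ext.comp (Abelian.Ext.comp y (Abelian.Ext.mk₀ S.g) (add_zero n))
      hS.extClass rfl = 0
    rw [Abelian.Ext.comp_assoc _ _ _ _ (zero_add 1) (by omega), hS.comp_extClass,
      Abelian.Ext.comp_zero]

theorem E_exact₁ (n : ℕ) (x : E h L S.X₁ (n + 1)) :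
    mapE S.f (n + 1) x = 0 ↔ ∃ y, δE hS n y = x := by
  constructor
  · intro hx
    exact Abelian.Ext.covariant_sequence_exact₁ _ hS x hx rfl
  · rintro ⟨y, rfl⟩
    change Abelian.Ext.comp (Abelian.Ext.comp y hS.extClass rfl)
      (Abelian.Ext.mk₀ S.f) (add_zero _) = 0
    rw [Abelian.Ext.comp_assoc _ _ _ _ (add_zero 1) (by omega), hS.extClass_comp,
      Abelian.Ext.comp_zero]

include hS in
theorem mapE_f_zero_injective : Function.Injective (mapE (h := h) (L := L) S.f 0) :=
  haveI : Mono S.f := hS.mono_f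
  Abelian.Ext.postcomp_mk₀_injective_of_mono _ S.f

theorem δE_naturality {T : ShortComplex C} (hT : T.ShortExact)
    (f : S ⟶ T) (n : ℕ) (x : E h L S.X₃ n) :
    δE hT n (mapE f.τ₃ n x) = mapE f.τ₁ (n + 1) (δE hS n x) := by
  change Abelian.Ext.comp (Abelian.Ext.comp x (Abelian.Ext.mk₀ f.τ₃) (add_zero n))
    hT.extClass rfl = Abelian.Ext.comp (Abelian.Ext.comp x
      hS.extClass rfl) (Abelian.Ext.mk₀ f.τ₁) (add_zero _)
  rw [Abelian.Ext.comp_assoc _ _ _ _ (zero_add 1) (by omega),
    Abelian.Ext.comp_assoc _ _ _ _ (add_zero 1) (by omega), hS.extClass_naturality hT f]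

end Ext

/-- The underlying abelian sheaf functor on `X.Modules`. -/
abbrev toAbF (X : Scheme.{u}) :
    X.Modules ⥤ Sheaf (Opens.grothendieckTopology X) AddCommGrpCat.{u} :=
  SheafOfModules.toSheaf X.ringCatSheaf

variable {X : Scheme.{u}}

instance : PreservesFiniteLimits (toAbF X) :=
  inferInstanceAs (PreservesFiniteLimits (SheafOfModules.toSheaf X.ringCatSheaf))

section colim

variable {C : Type u} [Category.{u} C] {J : GrothendieckTopology C} (R : Sheaf J RingCat.{u})
  [HasSheafify J AddCommGrpCat.{u}] [J.WEqualsLocallyBijective AddCommGrpCat.{u}]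

/-- the functor `toSheaf` preserves all small colimits. -/
theorem toSheaf_preservesColimitsOfSize :
    PreservesColimitsOfSize.{u, u} (SheafOfModules.toSheaf.{u} R) where
  preservesColimitsOfShape {K _} :=
    { preservesColimit {F} := by
        let adj := PresheafOfModules.sheafificationAdjunction.{u} (𝟙 R.obj)
        let G := PresheafOfModules.sheafification.{u} (𝟙 R.obj)
        let U := SheafOfModules.forget.{u} R ⋙ PresheafOfModules.restrictScalars (𝟙 R.obj)
        let e : F ≅ (F ⋙ U) ⋙ G := Functor.isoWhiskerLeft F (asIso adj.counit).symm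
        suffices h : PreservesColimit ((F ⋙ U) ⋙ G) (SheafOfModules.toSheaf.{u} R) from
          preservesColimit_of_iso_diagram _ e.symm
        have hc := colimit.isColimit (F ⋙ U)
        have hG : IsColimit (G.mapCocone (colimit.cocone (F ⋙ U))) := isColimitOfPreserves G hc
        refine preservesColimit_of_preserves_colimit_cocone hG ?_
        exact isColimitOfPreserves
          (PresheafOfModules.toPresheaf R.obj ⋙ presheafToSheaf J AddCommGrpCat.{u}) hc }

end colim

instance : PreservesColimitsOfSize.{u, u} (toAbF X) := toSheaf_preservesColimitsOfSize _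

instance : PreservesFiniteColimits (toAbF X) := inferInstance

/-- `smulAb` is natural in the module. -/
@[reassoc]
theorem smulAb_naturality {M N : X.Modules} (φ : M ⟶ N) (r : Coh.Γtop X) :
    Coh.smulAb M r ≫ (toAbF X).map φ = (toAbF X).map φ ≫ Coh.smulAb N r := by
  ext U m
  change (φ.val.app U).hom (@HSMul.hSMul (X.ringCatSheaf.obj.obj U) (M.val.obj U) (M.val.obj U) _
      (Coh.resTop X U r) m) = @HSMul.hSMul (X.ringCatSheaf.obj.obj U) (N.val.obj U) (N.val.obj U) _
      (Coh.resTop X U r) ((φ.val.app U).hom m)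
  exact (φ.val.app U).hom.map_smul _ _

end

end Groth.Agent.CohqB.HLin
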