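import Groth.Agent.CohqB.HomPost
import Groth.Agent.Sga2.LefBasic
import Mathlib.LinearAlgebra.Dual.Lemmas

/-!
# Biduality for finite locally free modules

* `ev M N : M ⟶ homSheaf (homSheaf M N) N` : evaluation.
* `isIso_ev` : `ev M O_X` is an isomorphism if `M` is finite locally free.
-/

set_option autoImplicit false

universe u

open CategoryTheory AlgebraicGeometry Opposite TopologicalSpace

namespace Groth.Agent.CohqB.HomDual

open Groth.Agent.CohqB.HomSheaf Groth.Agent.CohqB.HomPost

variable {X : Scheme.{u}} {M N : X.Modules}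

/-- Evaluation at a section. -/
noncomputable def evFun (M N : X.Modules) (U : X.Opens) (m : Γ(M, U)) : Γ(homSheaf (homSheaf M N) N, U) :=
  mkSec (fun V hV =>
    { toFun := fun φ => comp φ V le_rfl (M.presheaf.map (homOfLE hV).op m)
      map_add' := fun φ ψ => by rw [comp_add, LinearMap.add_apply]
      map_smul' := fun r φ => by rw [comp_self_smul]; rfl })
    (fun V W hV h φ => by
      change comp ((homSheaf M N).presheaf.map (homOfLE h).op φ) W le_rfl (M.presheaf.map (homOfLE (h.trans hV)).op m) =
        N.presheaf.map (homOfLE h).op (comp φ V le_rfl (M.presheaf.map (homOfLE hV).op m))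
      rw [← comp_map φ le_rfl h, comp_res, res_res])

theorem comp_evFun (U : X.Opens) (m : Γ(M, U)) (V : X.Opens) (hV : V ≤ U) (φ : Γ(homSheaf M N, V)) :
    comp (evFun M N U m) V hV φ = comp φ V le_rfl (M.presheaf.map (homOfLE hV).op m) := rfl

theorem evFun_add (U : X.Opens) (m m' : Γ(M, U)) : evFun M N U (m + m') = evFun M N U m + evFun M N U m' :=
  sec_ext fun V hV φ => by
    rw [comp_evFun, comp_add, LinearMap.add_apply, map_add, map_add]; rfl

theorem evFun_smul (U : X.Opens) (r : Γ(X, U)) (m : Γ(M, U)) : evFun M N U (r • m) = r • evFun M N U m :=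
  sec_ext fun V hV φ => by
    rw [comp_evFun, comp_smul, LinearMap.smul_apply, comp_evFun, Scheme.Modules.map_smul, map_smul]

theorem evFun_res {U W : X.Opens} (h : W ≤ U) (m : Γ(M, U)) :
    evFun M N W (M.presheaf.map (homOfLE h).op m) =
      (homSheaf (homSheaf M N) N).presheaf.map (homOfLE h).op (evFun M N U m) :=
  sec_ext fun V hV φ => by
    rw [comp_evFun, comp_res, comp_evFun, res_res]

/-- The evaluation map `M ⟶ Hom(Hom(M, N), N)`. -/
noncomputable def ev (M N : X.Modules) : M ⟶ homSheaf (homSheaf M N) N :=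
  ⟨PresheafOfModules.homMk
    { app := fun U => AddCommGrpCat.ofHom (AddMonoidHom.mk' (evFun M N U.unop) (evFun_add U.unop))
      naturality := fun U V f => by
        ext m
        exact evFun_res f.unop.le m }
    (fun U r s => evFun_smul U.unop r s)⟩

theorem ev_app (M N : X.Modules) (U : X.Opens) (m : Γ(M, U)) : (ev M N).app U m = evFun M N U m := rfl

theorem isIso_ev (hM : FlatMod.IsFinLocFree M) : IsIso (ev M (Coh.structureModule X)) := by
  have hMq := Ega4dA.FrameQC.isQCoh_of_isFinLocFree hM
  have hO : FlatMod.IsFinLocFree (Coh.structureModule X) := Sga2.LefBasic.isFinLocFree_structureModule X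
  have hOq := Ega4dA.FrameQC.isQCoh_of_isFinLocFree hO
  have hD := isFinLocFree_homSheaf hM hO
  have hDq := Ega4dA.FrameQC.isQCoh_of_isFinLocFree hD
  have hDD := isFinLocFree_homSheaf hD hO
  have : Coh.IsQCoh M := hMq
  have hDDq := Ega4dA.FrameQC.isQCoh_of_isFinLocFree hDD
  have : Coh.IsQCoh (homSheaf (homSheaf M (Coh.structureModule X)) (Coh.structureModule X)) := hDDq
  refine CohqB.AffIso.isIso_of_affine_cover _ fun x => ?_
  obtain ⟨V, hV, hx, -⟩ := exists_isAffineOpen_mem_and_subset (x := x) (U := ⊤) trivial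
  refine ⟨V, hx, hV, ?_⟩
  obtain ⟨h1, h2⟩ := projective_sections hM hV
  let a := affineEquiv (N := Coh.structureModule X) hMq hV
  have hb : Function.Bijective (Module.Dual.eval Γ(X, V) Γ(M, V)) := Module.bijective_dual_eval Γ(X, V) Γ(M, V)
  -- the linear map on `Hom(M(V), O(V))` attached to a section of the bidual
  have h3 : ∀ (m : Γ(M, V)) (s : Γ(homSheaf (homSheaf M (Coh.structureModule X)) (Coh.structureModule X), V)),
      (ev M (Coh.structureModule X)).app V m = s ↔
      ∀ g : Γ(M, V) →ₗ[Γ(X, V)] Γ(Coh.structureModule X, V), g m = comp s V le_rfl (a.symm g) := by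
    intro m s
    constructor
    · rintro rfl g
      rw [ev_app, comp_evFun, res_self, comp_affineEquiv_symm]
    · intro h
      refine comp_injective hDq hV fun φ => ?_
      rw [ev_app, comp_evFun, res_self]
      have h4 := h (a φ)
      rw [LinearEquiv.symm_apply_apply] at h4
      exact h4
  constructor
  · intro m m' hmm'
    apply hb.1
    ext g
    have h4 := (h3 m _).1 hmm' g
    have h5 := (h3 m' _).1 rfl g
    exact h4.trans h5.symm
  · intro s
    let d : Module.Dual Γ(X, V) (Module.Dual Γ(X, V) Γ(M, V)) := (comp s V le_rfl).comp a.symm.toLinearMap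
    obtain ⟨m, hm⟩ := hb.2 d
    refine ⟨m, (h3 m s).2 fun g => ?_⟩
    exact LinearMap.congr_fun hm g

end Groth.Agent.CohqB.HomDual
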