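import Groth.Agent.CohqB.HomSheafQCoh
import Groth.Agent.Desc.FinLocFreeSections
import Groth.Agent.Ega4dA.FrameQC
import Groth.Agent.FormalB.ModPowAff2

/-!
# Functoriality of the internal Hom in the second variable, and quotients by powers of an ideal

* `post φ : homSheaf M N ⟶ homSheaf M P` : post-composition with `φ : N ⟶ P`.
* `isFinLocFree_homSheaf` : `homSheaf M N` is finite locally free if `M`, `N` are.
* `isModPow_post` : if `M` is finite locally free, `N` quasi-coherent and `p : N ⟶ P` is the quotient by `J N`, then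
  `post p` is the quotient of `homSheaf M N` by `J`.
-/

set_option autoImplicit false

universe u

open CategoryTheory AlgebraicGeometry Opposite TopologicalSpace

namespace Groth.Agent.CohqB.HomPost

open Groth.Agent.CohqB.HomSheaf
open Groth.Agent.FormalB

/-! ### Algebra -/

/-- If `P` is finite projective and the image of `g : P → N` is contained in `J N`, then `g ∈ J Hom(P, N)`. -/
theorem mem_smul_top_of_forall {R P N : Type*} [CommRing R] [AddCommGroup P] [Module R P]
    [AddCommGroup N] [Module R N] [Module.Finite R P] [Module.Projective R P] (J : Ideal R) (g : P →ₗ[R] N)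
    (hg : ∀ x, g x ∈ J • (⊤ : Submodule R N)) : g ∈ J • (⊤ : Submodule R (P →ₗ[R] N)) := by
  obtain ⟨n, f, hf⟩ := Module.Finite.exists_fin' R P
  obtain ⟨s, hs⟩ := Module.projective_lifting_property f LinearMap.id hf
  let L : Fin n → (N →ₗ[R] (P →ₗ[R] N)) := fun i =>
    (LinearMap.lcomp R N ((LinearMap.proj i).comp s)).comp (LinearMap.ringLmapEquivSelf R R N).symm.toLinearMap
  have hL : ∀ i y x, L i y x = s x i • y := fun i y x => rfl
  have h1 : g = ∑ i, L i (g (f (Pi.single i 1))) := by
    ext x
    rw [LinearMap.sum_apply]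
    simp only [hL]
    have h2 : x = f (s x) := (LinearMap.congr_fun hs x).symm
    conv_lhs => rw [h2]
    have h3 : s x = ∑ i, s x i • (Pi.single i (1 : R) : Fin n → R) := by
      ext j
      simp [Pi.single_apply]
    conv_lhs => rw [h3]
    rw [map_sum, map_sum]
    refine Finset.sum_congr rfl fun i _ => ?_
    rw [map_smul, map_smul]
  rw [h1]
  refine Submodule.sum_mem _ fun i _ => ?_
  have h4 : L i (g (f (Pi.single i 1))) ∈ (J • (⊤ : Submodule R N)).map (L i) :=
    Submodule.mem_map_of_mem (hg _)
  rw [Submodule.map_smul''] at h4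
  exact Submodule.smul_mono le_rfl le_top h4

theorem forall_mem_of_mem_smul_top {R P N : Type*} [CommRing R] [AddCommGroup P] [Module R P]
    [AddCommGroup N] [Module R N] (J : Ideal R) (g : P →ₗ[R] N)
    (hg : g ∈ J • (⊤ : Submodule R (P →ₗ[R] N))) (x : P) : g x ∈ J • (⊤ : Submodule R N) := by
  have h4 : LinearMap.applyₗ x g ∈ (J • (⊤ : Submodule R (P →ₗ[R] N))).map (LinearMap.applyₗ (M₂ := N) x) :=
    Submodule.mem_map_of_mem hg
  rw [Submodule.map_smul''] at h4
  exact Submodule.smul_mono le_rfl le_top h4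

theorem finite_projective_hom (R P N : Type*) [CommRing R] [AddCommGroup P] [Module R P]
    [AddCommGroup N] [Module R N] [Module.Finite R P] [Module.Projective R P] [Module.Finite R N]
    [Module.Projective R N] : Module.Finite R (P →ₗ[R] N) ∧ Module.Projective R (P →ₗ[R] N) := by
  obtain ⟨n, t, ht⟩ := Module.Finite.exists_fin' R P
  obtain ⟨s, hs⟩ := Module.projective_lifting_property t LinearMap.id ht
  let e : (Fin n → N) ≃ₗ[R] ((Fin n → R) →ₗ[R] N) := (Pi.basisFun R (Fin n)).constr R
  have h1 : Module.Finite R ((Fin n → R) →ₗ[R] N) := Module.Finite.equiv e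
  have h0 : Module.Projective R (Fin n → N) :=
    Module.Projective.of_equiv (DFinsupp.linearEquivFunOnFintype (R := R) (ι := Fin n) (M := fun _ => N))
  have h2 : Module.Projective R ((Fin n → R) →ₗ[R] N) := Module.Projective.of_equiv e
  have h3 : (LinearMap.lcomp R N s).comp (LinearMap.lcomp R N t) = LinearMap.id := by
    ext g x
    change g ((t.comp s) x) = g x
    rw [hs]; rfl
  refine ⟨Module.Finite.of_surjective (LinearMap.lcomp R N s) fun g => ⟨LinearMap.lcomp R N t g, ?_⟩,
    Module.Projective.of_split _ _ h3⟩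
  exact LinearMap.congr_fun h3 g

variable {X : Scheme.{u}} {M N P Q : X.Modules}

/-! ### Post-composition -/

/-- Post-composition on sections. -/
noncomputable def postFun (φ : N ⟶ P) (U : X.Opens) (s : Γ(homSheaf M N, U)) : Γ(homSheaf M P, U) :=
  mkSec (fun V hV =>
    { toFun := fun m => φ.app V (comp s V hV m)
      map_add' := fun m m' => by rw [map_add, map_add]
      map_smul' := fun r m => by rw [map_smul]; exact φ.app_smul r _ })
    (fun V W hV h m => by
      change φ.app W (comp s W (h.trans hV) (M.presheaf.map (homOfLE h).op m)) = _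
      rw [comp_map s hV h m]
      exact congr($(φ.mapPresheaf.naturality (homOfLE h).op) (comp s V hV m)))

theorem comp_postFun (φ : N ⟶ P) (U : X.Opens) (s : Γ(homSheaf M N, U)) (V : X.Opens) (hV : V ≤ U) (m : Γ(M, V)) :
    comp (postFun φ U s) V hV m = φ.app V (comp s V hV m) := rfl

theorem postFun_zero (φ : N ⟶ P) (U : X.Opens) : postFun φ U (0 : Γ(homSheaf M N, U)) = 0 :=
  sec_ext fun V hV m => by
    rw [comp_postFun, comp_zero, comp_zero, LinearMap.zero_apply, LinearMap.zero_apply, map_zero]

theorem postFun_add (φ : N ⟶ P) (U : X.Opens) (s t : Γ(homSheaf M N, U)) :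
    postFun φ U (s + t) = postFun φ U s + postFun φ U t :=
  sec_ext fun V hV m => by
    rw [comp_postFun, comp_add, comp_add, LinearMap.add_apply, LinearMap.add_apply, map_add]; rfl

theorem postFun_smul (φ : N ⟶ P) (U : X.Opens) (r : Γ(X, U)) (s : Γ(homSheaf M N, U)) :
    postFun φ U (r • s) = r • postFun φ U s :=
  sec_ext fun V hV m => by
    rw [comp_postFun, comp_smul, comp_smul, LinearMap.smul_apply, LinearMap.smul_apply, comp_postFun]
    exact φ.app_smul _ _

/-- Post-composition with `φ : N ⟶ P` as a map of internal Homs. -/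
noncomputable def post (M : X.Modules) (φ : N ⟶ P) : homSheaf M N ⟶ homSheaf M P :=
  ⟨PresheafOfModules.homMk
    { app := fun U => AddCommGrpCat.ofHom
        { toFun := postFun φ U.unop
          map_zero' := postFun_zero φ U.unop
          map_add' := postFun_add φ U.unop }
      naturality := fun U V f => rfl }
    (fun U r s => postFun_smul φ U.unop r s)⟩

theorem comp_post (φ : N ⟶ P) (U : X.Opens) (s : Γ(homSheaf M N, U)) (V : X.Opens) (hV : V ≤ U) (m : Γ(M, V)) :
    comp ((post M φ).app U s) V hV m = φ.app V (comp s V hV m) := rfl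

theorem topEquiv_post (φ : N ⟶ P) (s : Γ(homSheaf M N, ⊤)) :
    topEquiv M P ((post M φ).app ⊤ s) = topEquiv M N s ≫ φ := by
  ext V m; rfl

@[reassoc (attr := simp)]
theorem post_comp (φ : N ⟶ P) (ψ : P ⟶ Q) : post M φ ≫ post M ψ = post M (φ ≫ ψ) := by
  ext U s; rfl

@[simp]
theorem post_id : post M (𝟙 N) = 𝟙 _ := by
  ext U s; rfl

/-! ### Finite locally free modules -/

theorem projective_sections (hM : FlatMod.IsFinLocFree M) {V : X.Opens} (hV : IsAffineOpen V) :
    Module.FinitePresentation Γ(X, V) Γ(M, V) ∧ Module.Projective Γ(X, V) Γ(M, V) := by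
  have hq := Ega4dA.FrameQC.isQCoh_of_isFinLocFree hM
  obtain ⟨h1, h2⟩ := (Desc.FinLocFreeSections.isFinLocFree_iff_of_cover hq (fun _ => True) (fun x => by
    obtain ⟨V, hV, hx, -⟩ := exists_isAffineOpen_mem_and_subset (x := x) (U := ⊤) trivial
    exact ⟨V, trivial, hV, hx⟩)).1 hM V trivial hV
  exact ⟨h1, Module.Flat.projective_of_finitePresentation⟩

theorem isQCoh_homSheaf_of_isFinLocFree (hM : FlatMod.IsFinLocFree M) (hN : Coh.IsQCoh N) :
    Coh.IsQCoh (homSheaf M N) :=
  isQCoh_homSheaf (Ega4dA.FrameQC.isQCoh_of_isFinLocFree hM) hN fun _ hU => (projective_sections hM hU).1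

theorem isFinLocFree_homSheaf (hM : FlatMod.IsFinLocFree M) (hN : FlatMod.IsFinLocFree N) :
    FlatMod.IsFinLocFree (homSheaf M N) := by
  have hq := isQCoh_homSheaf_of_isFinLocFree hM (Ega4dA.FrameQC.isQCoh_of_isFinLocFree hN)
  refine (Desc.FinLocFreeSections.isFinLocFree_iff_of_cover hq (fun _ => True) (fun x => by
    obtain ⟨V, hV, hx, -⟩ := exists_isAffineOpen_mem_and_subset (x := x) (U := ⊤) trivial
    exact ⟨V, trivial, hV, hx⟩)).2 fun V _ hV => ?_
  obtain ⟨h1, h2⟩ := projective_sections hM hV
  obtain ⟨h3, h4⟩ := projective_sections hN hV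
  let e := affineEquiv (N := N) (Ega4dA.FrameQC.isQCoh_of_isFinLocFree hM) hV
  obtain ⟨h5, h6⟩ := finite_projective_hom Γ(X, V) Γ(M, V) Γ(N, V)
  have h7 : Module.Finite Γ(X, V) Γ(homSheaf M N, V) := Module.Finite.equiv e.symm
  have h8 : Module.Projective Γ(X, V) Γ(homSheaf M N, V) := Module.Projective.of_equiv e.symm
  exact ⟨Module.finitePresentation_of_projective _ _, inferInstance⟩

/-! ### Quotients by ideals of the base ring -/

section Over

variable {A : Type u} [CommRing A] [X.Over (Spec (CommRingCat.of A))]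

theorem isModPow_post (hM : FlatMod.IsFinLocFree M) (hN : Coh.IsQCoh N) {J : Ideal A} {p : N ⟶ P}
    (hp : ModPow.IsModPow J p) : ModPow.IsModPow J (post M p) := by
  have hMq := Ega4dA.FrameQC.isQCoh_of_isFinLocFree hM
  refine ModPowAff2.isModPow_of_affine_cover (isQCoh_homSheaf_of_isFinLocFree hM hN)
    (isQCoh_homSheaf_of_isFinLocFree hM (ModPowAff.IsModPow.isQCoh hN hp)) _ fun x => ?_
  obtain ⟨V, hV, hx, -⟩ := exists_isAffineOpen_mem_and_subset (x := x) (U := ⊤) trivial
  obtain ⟨h1, h2⟩ := projective_sections hM hV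
  let pl : Γ(N, V) →ₗ[Γ(X, V)] Γ(P, V) :=
    { toFun := p.app V, map_add' := map_add _, map_smul' := fun r x => p.app_smul r x }
  have hs : Function.Surjective pl := ModPowAff.IsModPow.app_surjective hN hp hV
  refine ⟨V, hx, hV, ?_, ?_⟩
  · intro s
    obtain ⟨g, hg⟩ := Module.projective_lifting_property pl (affineEquiv hMq hV s) hs
    refine ⟨(affineEquiv hMq hV).symm g, comp_injective hMq hV fun m => ?_⟩
    rw [comp_post, comp_affineEquiv_symm]
    exact LinearMap.congr_fun hg m
  · intro s
    constructor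
    · intro h0
      have h3 : ∀ m : Γ(M, V), comp s V le_rfl m ∈ J.map (ModPowAff.toΓ A X V) • (⊤ : Submodule Γ(X, V) Γ(N, V)) := by
        intro m
        rw [← ModPowAff.IsModPow.app_eq_zero_iff hN hp hV, ← comp_post, h0]
        rfl
      have h4 := mem_smul_top_of_forall _ _ h3
      have h5 : (affineEquiv hMq hV).symm (comp s V le_rfl) ∈
          (J.map (ModPowAff.toΓ A X V) • (⊤ : Submodule Γ(X, V) (Γ(M, V) →ₗ[Γ(X, V)] Γ(N, V)))).map
            (affineEquiv hMq hV).symm.toLinearMap := Submodule.mem_map_of_mem h4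
      rw [Submodule.map_smul''] at h5
      have h6 : (affineEquiv hMq hV).symm (comp s V le_rfl) = s := (affineEquiv hMq hV).symm_apply_apply s
      rw [h6] at h5
      exact Submodule.smul_mono le_rfl le_top h5
    · intro h0
      refine comp_injective hMq hV fun m => ?_
      rw [comp_post]
      have h5 : affineEquiv hMq hV s ∈
          (J.map (ModPowAff.toΓ A X V) • (⊤ : Submodule Γ(X, V) Γ(homSheaf M N, V))).map
            (affineEquiv hMq hV).toLinearMap := Submodule.mem_map_of_mem h0
      rw [Submodule.map_smul''] at h5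
      have h6 := forall_mem_of_mem_smul_top _ _ (Submodule.smul_mono le_rfl le_top h5) m
      exact (ModPowAff.IsModPow.app_eq_zero_iff hN hp hV _).2 h6

end Over

end Groth.Agent.CohqB.HomPost
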