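import Groth.Agent.FormalB.ModPow
import Groth.Agent.CurvesB.HZero

/-!
# The comparison map `H^0(X, M) → lim_n H^0(X, M/I^(n+1)M)` in terms of sections

* `SecComplete I M`: every compatible family of global sections of the `M/I^(n+1)M` comes from a unique global section
  of `M`.
* `bijective_toHHlim_zero_iff` : `Formal.toHHlim I M 0` is bijective iff `SecComplete I M`.
* `secComplete_iff_of_isModPow` : the same with any other system of quotients `q n : M ⟶ G n`.
-/

set_option autoImplicit false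

universe u

open CategoryTheory AlgebraicGeometry Opposite TopologicalSpace

namespace Groth.Agent.CohqB.LimZero

open Groth.Agent.FormalB Groth.Agent.CurvesB.HZero

variable {A : Type u} [CommRing A] {X : Scheme.{u}} [X.Over (Spec (CommRingCat.of A))]

/-- Every compatible family of global sections of the `M/I^(n+1)M` comes from a unique global section of `M`. -/
def SecComplete (I : Ideal A) (M : X.Modules) : Prop :=
  ∀ y : ∀ n : ℕ, Γ(Formal.modPow I (n + 1) M, ⊤),
    (∀ n, (Formal.modPowTrans I (n + 1) M).app ⊤ (y (n + 1)) = y n) →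
    ∃! s : Γ(M, ⊤), ∀ n, (Formal.modPowπ I (n + 1) M).app ⊤ s = y n

theorem bijective_toHHlim_zero_iff (I : Ideal A) (M : X.Modules) :
    Function.Bijective (Formal.toHHlim I M 0) ↔ SecComplete I M := by
  have key : ∀ (x : Coh.HH X M 0) (n : ℕ), equivAdd _ ((Formal.toHHlim I M 0 x).1 n) =
      (Formal.modPowπ I (n + 1) M).app ⊤ (equivAdd M x) := fun x n => equivAdd_map _ x
  constructor
  · intro h y hy
    let z : Formal.HHlim I M 0 := ⟨fun n => (equivAdd _).symm (y n), fun n => by
      apply (equivAdd (Formal.modPow I (n + 1) M)).injective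
      rw [AddEquiv.apply_symm_apply]
      refine (equivAdd_map (Formal.modPowTrans I (n + 1) M) _).trans ?_
      rw [AddEquiv.apply_symm_apply, hy]⟩
    obtain ⟨x, hx⟩ := h.2 z
    refine ⟨equivAdd M x, fun n => ?_, ?_⟩
    · change (Formal.modPowπ I (n + 1) M).app ⊤ (equivAdd M x) = y n
      rw [← key, hx]
      exact AddEquiv.apply_symm_apply _ _
    · intro s hs
      obtain ⟨x', rfl⟩ := (equivAdd M).surjective s
      congr 1
      apply h.1
      rw [hx]
      apply Subtype.ext
      funext n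
      apply (equivAdd (Formal.modPow I (n + 1) M)).injective
      rw [key, hs n]
      exact (AddEquiv.apply_symm_apply _ _).symm
  · intro h
    constructor
    · intro x x' hxx'
      apply (equivAdd M).injective
      obtain ⟨s, -, hs⟩ := h (fun n => equivAdd _ ((Formal.toHHlim I M 0 x).1 n)) (fun n => by
        refine (equivAdd_map (Formal.modPowTrans I (n + 1) M) _).symm.trans ?_
        exact congrArg _ ((Formal.toHHlim I M 0 x).2 n))
      rw [hs (equivAdd M x) fun n => (key x n).symm, hs (equivAdd M x') fun n => by rw [← key, hxx']]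
    · intro z
      obtain ⟨s, hs, -⟩ := h (fun n => equivAdd _ (z.1 n)) (fun n => by
        refine (equivAdd_map (Formal.modPowTrans I (n + 1) M) _).symm.trans ?_
        exact congrArg _ (z.2 n))
      refine ⟨(equivAdd M).symm s, Subtype.ext (funext fun n => ?_)⟩
      apply (equivAdd (Formal.modPow I (n + 1) M)).injective
      rw [key, AddEquiv.apply_symm_apply]
      exact hs n

theorem secComplete_iff_of_isModPow {I : Ideal A} {M : X.Modules} (G : ℕ → X.Modules) (q : ∀ n, M ⟶ G n)
    (hq : ∀ n, ModPow.IsModPow (I ^ (n + 1)) (q n)) (t : ∀ n, G (n + 1) ⟶ G n)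
    (ht : ∀ n, q (n + 1) ≫ t n = q n) :
    SecComplete I M ↔ ∀ y : ∀ n : ℕ, Γ(G n, ⊤), (∀ n, (t n).app ⊤ (y (n + 1)) = y n) →
      ∃! s : Γ(M, ⊤), ∀ n, (q n).app ⊤ s = y n := by
  choose e he he' using fun n => (ModPow.isModPow_modPowπ I (n + 1) M).exists_iso (hq n)
  have h1 : ∀ (n : ℕ) (s : Γ(M, ⊤)), (e n).hom.app ⊤ ((Formal.modPowπ I (n + 1) M).app ⊤ s) = (q n).app ⊤ s := by
    intro n s
    rw [← he n]; rfl
  have h2 : ∀ (n : ℕ) (s : Γ(M, ⊤)), (e n).inv.app ⊤ ((q n).app ⊤ s) = (Formal.modPowπ I (n + 1) M).app ⊤ s := by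
    intro n s
    rw [← he' n]; rfl
  have h3 : ∀ (n : ℕ) (s : Γ(Formal.modPow I (n + 1) M, ⊤)), (e n).inv.app ⊤ ((e n).hom.app ⊤ s) = s := by
    intro n s
    have : ((e n).hom ≫ (e n).inv).app ⊤ s = s := by rw [Iso.hom_inv_id]; rfl
    exact this
  have h4 : ∀ (n : ℕ) (s : Γ(G n, ⊤)), (e n).hom.app ⊤ ((e n).inv.app ⊤ s) = s := by
    intro n s
    have : ((e n).inv ≫ (e n).hom).app ⊤ s = s := by rw [Iso.inv_hom_id]; rfl
    exact this
  have h5 : ∀ n, (e (n + 1)).hom ≫ t n = Formal.modPowTrans I (n + 1) M ≫ (e n).hom := by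
    intro n
    have : Epi (Formal.modPowπ I (n + 1 + 1) M) := inferInstance
    rw [← cancel_epi (Formal.modPowπ I (n + 1 + 1) M), ← Category.assoc, he, ht, ← Category.assoc,
      Formal.modPowπ_trans, he]
  have h5' : ∀ n, (e (n + 1)).inv ≫ Formal.modPowTrans I (n + 1) M = t n ≫ (e n).inv := by
    intro n
    rw [Iso.inv_comp_eq, ← Category.assoc, h5, Category.assoc, Iso.hom_inv_id, Category.comp_id]
  constructor
  · intro h y hy
    obtain ⟨s, hs, hs'⟩ := h (fun n => (e n).inv.app ⊤ (y n)) fun n => by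
      have : ((e (n + 1)).inv ≫ Formal.modPowTrans I (n + 1) M).app ⊤ (y (n + 1)) =
          (t n ≫ (e n).inv).app ⊤ (y (n + 1)) := by rw [h5']
      refine this.trans ?_
      change (e n).inv.app ⊤ ((t n).app ⊤ (y (n + 1))) = _
      rw [hy]
    refine ⟨s, fun n => ?_, fun s' hs'' => hs' s' fun n => ?_⟩
    · change (q n).app ⊤ s = y n
      rw [← h1, hs n, h4]
    · change (Formal.modPowπ I (n + 1) M).app ⊤ s' = (e n).inv.app ⊤ (y n)
      rw [← hs'' n, h2]
  · intro h y hy
    obtain ⟨s, hs, hs'⟩ := h (fun n => (e n).hom.app ⊤ (y n)) fun n => by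
      have : ((e (n + 1)).hom ≫ t n).app ⊤ (y (n + 1)) =
          (Formal.modPowTrans I (n + 1) M ≫ (e n).hom).app ⊤ (y (n + 1)) := by rw [h5]
      refine this.trans ?_
      change (e n).hom.app ⊤ ((Formal.modPowTrans I (n + 1) M).app ⊤ (y (n + 1))) = _
      rw [hy]
    refine ⟨s, fun n => ?_, fun s' hs'' => hs' s' fun n => ?_⟩
    · change (Formal.modPowπ I (n + 1) M).app ⊤ s = y n
      rw [← h2, hs n, h3]
    · change (q n).app ⊤ s' = (e n).hom.app ⊤ (y n)
      rw [← hs'' n, h1]

theorem SecComplete.of_iso {I : Ideal A} {M N : X.Modules} (h : SecComplete I M) (e : M ≅ N) : SecComplete I N := by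
  have h1 := (secComplete_iff_of_isModPow (I := I) (M := M) (fun n => Formal.modPow I (n + 1) N)
    (fun n => e.hom ≫ Formal.modPowπ I (n + 1) N)
    (fun n => (ModPow.isModPow_modPowπ I (n + 1) N).iso_comp e.hom) (fun n => Formal.modPowTrans I (n + 1) N)
    (fun n => by rw [Category.assoc, Formal.modPowπ_trans])).1 h
  intro y hy
  obtain ⟨s, hs, hs'⟩ := h1 y hy
  have hinv : ∀ t : Γ(N, ⊤), e.hom.app ⊤ (e.inv.app ⊤ t) = t := by
    intro t
    have : (e.inv ≫ e.hom).app ⊤ t = t := by rw [Iso.inv_hom_id]; rfl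
    exact this
  refine ⟨e.hom.app ⊤ s, fun n => hs n, fun t ht => ?_⟩
  have := hs' (e.inv.app ⊤ t) fun n => by
    change (Formal.modPowπ I (n + 1) N).app ⊤ (e.hom.app ⊤ (e.inv.app ⊤ t)) = y n
    rw [hinv, ht n]
  rw [← this, hinv]

end Groth.Agent.CohqB.LimZero
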