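import Groth.Agent.Ega2.GlobGenCrit
import Groth.Agent.CohqB.QC4
import Mathlib.Algebra.Category.ModuleCat.Sheaf.LocallyFree
import Mathlib.AlgebraicGeometry.QuasiAffine

/-!
# Quasi-coherent modules on quasi-affine schemes are globally generated

* `isQCoh_free` : free modules of arbitrary rank are quasi-coherent.
* `isGloballyGenerated_of_isQuasiAffine`
* `exists_presentation` : a quasi-coherent module on a quasi-affine scheme has a global presentation by free modules.
-/

set_option autoImplicit false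

universe u

open CategoryTheory CategoryTheory.Limits AlgebraicGeometry Opposite TopologicalSpace

namespace Groth.Agent.CohqB.QAffGen

variable {X : Scheme.{u}} {M : X.Modules}

set_option backward.isDefEq.respectTransparency false in
theorem isQCoh_free (X : Scheme.{u}) (κ : Type u) : Coh.IsQCoh (SheafOfModules.free κ : X.Modules) := by
  have h : SheafOfModules.IsLocallyFree (R := X.ringCatSheaf) (SheafOfModules.free κ) := inferInstance
  have h2 : SheafOfModules.IsQuasicoherent (R := X.ringCatSheaf) (SheafOfModules.free κ) := inferInstance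
  exact h2

theorem isGloballyGenerated_of_isQuasiAffine [X.IsQuasiAffine] (hM : Coh.IsQCoh M) :
    Curv2.IsGloballyGenerated M := by
  have hqs : QuasiSeparatedSpace X := inferInstance
  have hcov : ∀ x : X, ∃ r : Γ(X, ⊤), IsAffineOpen (X.basicOpen r) ∧ x ∈ X.basicOpen r := by
    intro x
    obtain ⟨_, ⟨_, ⟨r, hr, rfl⟩, rfl⟩, hxr, -⟩ := (Scheme.IsQuasiAffine.isBasis_basicOpen
      X).exists_subset_of_mem_open (Set.mem_univ x) isOpen_univ
    exact ⟨r, hr, hxr⟩
  choose r hr hxr using hcov
  refine Ega2.GlobGenCrit.isGloballyGenerated_of_span hM (fun x => X.basicOpen (r x)) hr ?_ fun x => ?_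
  · rw [eq_top_iff]
    intro x _
    exact Opens.mem_iSup.mpr ⟨x, hxr x⟩
  · rw [eq_top_iff]
    intro s _
    obtain ⟨n, t, ht⟩ := (Ega1.QCohLoc.isLocAt_of_qcqs hM (V := ⊤) isCompact_univ
      (isQuasiSeparated_univ (α := X)) (r x)).surj s
    have hu : IsUnit (Ega1.QCohLoc.resO (X.basicOpen_le (r x)) (r x) ^ n) :=
      (X.toRingedSpace.isUnit_res_basicOpen (r x)).pow n
    obtain ⟨v, hv⟩ := hu
    have h1 : s = (↑(v⁻¹) : Γ(X, X.basicOpen (r x))) • Ega1.QCohLoc.res M (X.basicOpen_le (r x)) t := by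
      rw [ht, ← hv, ← mul_smul, Units.inv_mul, one_smul]
    rw [h1]
    exact Submodule.smul_mem _ _ (Submodule.subset_span ⟨t, rfl⟩)

/-- The free module on an arbitrary index type. -/
noncomputable def fr (X : Scheme.{u}) (κ : Type u) : X.Modules := ∐ fun _ : κ => Coh.structureModule X

theorem isQCoh_fr (X : Scheme.{u}) (κ : Type u) : Coh.IsQCoh (fr X κ) := isQCoh_free X κ

theorem exists_epi_fr [X.IsQuasiAffine] (hM : Coh.IsQCoh M) : ∃ (κ : Type u) (g : fr X κ ⟶ M), Epi g :=
  isGloballyGenerated_of_isQuasiAffine hM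

/-- A quasi-coherent module on a quasi-affine scheme has a global presentation by free modules. -/
theorem exists_presentation [X.IsQuasiAffine] (hM : Coh.IsQCoh M) :
    ∃ (κ κ' : Type u) (g : fr X κ ⟶ M) (r : fr X κ' ⟶ fr X κ),
      Epi g ∧ r ≫ g = 0 ∧ ∀ (Z : X.Modules) (s : fr X κ ⟶ Z), r ≫ s = 0 → ∃ s' : M ⟶ Z, g ≫ s' = s := by
  obtain ⟨κ, g, hg⟩ := exists_epi_fr hM
  have hK : Coh.IsQCoh (kernel g) := QC4.isQuasicoherent_kernel g (isQCoh_fr X κ) hM
  obtain ⟨κ', r', hr'⟩ := exists_epi_fr hK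
  refine ⟨κ, κ', g, r' ≫ kernel.ι g, hg, by rw [Category.assoc, kernel.condition, comp_zero], ?_⟩
  intro Z s hs
  have h1 : kernel.ι g ≫ s = 0 := by
    rw [← cancel_epi r', ← Category.assoc, hs, comp_zero]
  exact ⟨Abelian.epiDesc g s h1, Abelian.comp_epiDesc g s h1⟩

end Groth.Agent.CohqB.QAffGen
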