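import Groth.Agent.CohqB.HomDual
import Groth.Agent.CohqB.QAffGen
import Groth.Agent.CohqB.LimZero

/-!
# `SecComplete` for finite locally free modules on quasi-affine schemes
-/

set_option autoImplicit false

universe u

open CategoryTheory CategoryTheory.Limits AlgebraicGeometry Opposite TopologicalSpace

namespace Groth.Agent.CohqB.LimQAff

open Groth.Agent.CohqB.HomSheaf Groth.Agent.CohqB.HomPost Groth.Agent.CohqB.LimZero Groth.Agent.CohqB.QAffGen
open Groth.Agent.Sga2.LefBasic

variable {A : Type u} [CommRing A] {X : Scheme.{u}} [X.Over (Spec (CommRingCat.of A))]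

/-- The universal property of `SecComplete I M` for maps from free modules. -/
theorem existsUnique_hom_fr {I : Ideal A} {M : X.Modules} (h : SecComplete I M) (κ : Type u)
    (y : ∀ n : ℕ, fr X κ ⟶ Formal.modPow I (n + 1) M) (hy : ∀ n, y (n + 1) ≫ Formal.modPowTrans I (n + 1) M = y n) :
    ∃! s : fr X κ ⟶ M, ∀ n, s ≫ Formal.modPowπ I (n + 1) M = y n := by
  let c : κ → (Coh.structureModule X ⟶ fr X κ) := fun k => Sigma.ι (fun _ : κ => Coh.structureModule X) k
  have h1 : ∀ k : κ, ∃! s : Coh.structureModule X ⟶ M, ∀ n, s ≫ Formal.modPowπ I (n + 1) M = c k ≫ y n := by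
    intro k
    obtain ⟨t, ht, ht'⟩ := h (fun n => (c k ≫ y n).app ⊤ (oneSec X ⊤)) fun n => by
      have : ((c k ≫ y (n + 1)) ≫ Formal.modPowTrans I (n + 1) M).app ⊤ (oneSec X ⊤) =
          (c k ≫ y n).app ⊤ (oneSec X ⊤) := by rw [Category.assoc, hy]
      exact this
    obtain ⟨s, hs⟩ := exists_hom_unit t
    refine ⟨s, fun n => hom_unit_ext ?_, fun s' hs' => hom_unit_ext ?_⟩
    · rw [← ht n, ← hs]; rfl
    · rw [hs]
      apply ht'
      intro n
      rw [← hs' n]; rfl
  choose s hs hs' using h1
  refine ⟨Sigma.desc s, fun n => ?_, fun s' hs'' => ?_⟩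
  · apply Sigma.hom_ext
    intro k
    refine Eq.trans ?_ (hs k n)
    exact (Category.assoc _ _ _).symm.trans
      (congrArg (fun z => z ≫ Formal.modPowπ I (n + 1) M) (Sigma.ι_desc s k))
  · apply Sigma.hom_ext
    intro k
    rw [Sigma.ι_desc]
    apply hs' k
    intro n
    change (c k ≫ s') ≫ _ = _
    rw [Category.assoc, hs'' n]

/-- Maps from a quasi-coherent module on a quasi-affine scheme to a module with `SecComplete`. -/
theorem existsUnique_hom [X.IsQuasiAffine] {I : Ideal A} {F M : X.Modules} (hF : Coh.IsQCoh F)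
    (h : SecComplete I M) (y : ∀ n : ℕ, F ⟶ Formal.modPow I (n + 1) M)
    (hy : ∀ n, y (n + 1) ≫ Formal.modPowTrans I (n + 1) M = y n) :
    ∃! s : F ⟶ M, ∀ n, s ≫ Formal.modPowπ I (n + 1) M = y n := by
  obtain ⟨κ, κ', g, r, hg, hrg, hfac⟩ := exists_presentation hF
  obtain ⟨s, hs, hs'⟩ := existsUnique_hom_fr h κ (fun n => g ≫ y n) fun n => by rw [Category.assoc, hy]
  have h0 : r ≫ s = 0 := by
    obtain ⟨z, -, hz⟩ := existsUnique_hom_fr h κ' (fun n => 0) fun n => by rw [zero_comp]
    rw [hz (r ≫ s) fun n => by rw [Category.assoc, hs n, ← Category.assoc, hrg, zero_comp],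
      hz 0 fun n => by rw [zero_comp]]
  obtain ⟨s', hss'⟩ := hfac _ s h0
  refine ⟨s', fun n => ?_, fun t ht => ?_⟩
  · rw [← cancel_epi g, ← Category.assoc, hss']
    exact hs n
  · rw [← cancel_epi g, hss']
    apply hs'
    intro n
    rw [Category.assoc, ht n]

/-- On a quasi-affine scheme, `SecComplete` for `O_X` implies `SecComplete` for finite locally free modules. -/
theorem secComplete_of_isFinLocFree [X.IsQuasiAffine] {I : Ideal A} (h : SecComplete I (Coh.structureModule X))
    {E : X.Modules} (hE : FlatMod.IsFinLocFree E) : SecComplete I E := by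
  have hO : FlatMod.IsFinLocFree (Coh.structureModule X) := isFinLocFree_structureModule X
  have hOq := Ega4dA.FrameQC.isQCoh_of_isFinLocFree hO
  have hD := isFinLocFree_homSheaf hE hO
  have hDq := Ega4dA.FrameQC.isQCoh_of_isFinLocFree hD
  have hiso := HomDual.isIso_ev hE
  refine SecComplete.of_iso ?_ (asIso (HomDual.ev E (Coh.structureModule X))).symm
  refine (secComplete_iff_of_isModPow
    (fun n => homSheaf (homSheaf E (Coh.structureModule X)) (Formal.modPow I (n + 1) (Coh.structureModule X)))
    (fun n => post _ (Formal.modPowπ I (n + 1) (Coh.structureModule X)))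
    (fun n => isModPow_post hD hOq (Groth.Agent.FormalB.ModPow.isModPow_modPowπ I (n + 1) (Coh.structureModule X)))
    (fun n => post _ (Formal.modPowTrans I (n + 1) (Coh.structureModule X)))
    (fun n => by rw [post_comp, Formal.modPowπ_trans])).2 fun y hy => ?_
  obtain ⟨s, hs, hs'⟩ := existsUnique_hom hDq h (fun n => topEquiv _ _ (y n)) fun n => by
    rw [← topEquiv_post, hy]
  refine ⟨(topEquiv _ _).symm s, fun n => ?_, fun t ht => ?_⟩
  · apply (topEquiv _ _).injective
    rw [topEquiv_post, AddEquiv.apply_symm_apply]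
    exact hs n
  · apply (topEquiv _ _).injective
    rw [AddEquiv.apply_symm_apply]
    apply hs'
    intro n
    rw [← topEquiv_post, ht n]

end Groth.Agent.CohqB.LimQAff
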