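import Groth.Prelude.Def_Coh
import Groth.Prelude.Def_Formal
import Groth.Agent.CycB.StalkExact
import Mathlib.Algebra.Homology.DerivedCategory.Ext.ExactSequences

/-!
# Functoriality and long exact sequence of `Coh.HH`

* `toAbF X : X.Modules ⥤ Sheaf _ Ab` exact additive faithful, `hmap φ n : HH X M n →+ HH X N n`;
* `exists_of_hmap_eq_zero`, `exists_of_hδ_eq_zero`, `exists_of_hmap_f_eq_zero`: exactness of the
  long exact cohomology sequence of a short exact sequence of modules.
-/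

set_option autoImplicit false
universe u

open CategoryTheory CategoryTheory.Limits AlgebraicGeometry Opposite TopologicalSpace

namespace Groth.Agent.CohqB.LocBaseHH

section Sheaf

variable {T : TopCat.{u}} {S : ShortComplex (Sheaf (Opens.grothendieckTopology T) AddCommGrpCat.{u})}

theorem H_exact₂ (hS : S.ShortExact) (n : ℕ) (x : Sheaf.H.{u} S.X₂ n)
    (hx : Sheaf.H.map S.g n x = 0) : ∃ y : Sheaf.H.{u} S.X₁ n, Sheaf.H.map S.f n y = x :=
  Abelian.Ext.covariant_sequence_exact₂ _ hS x hx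

/-- The connecting map. -/
noncomputable def Hδ (hS : S.ShortExact) (n : ℕ) : Sheaf.H.{u} S.X₃ n →+ Sheaf.H.{u} S.X₁ (n + 1) :=
  hS.extClass.postcomp _ rfl

theorem H_exact₃ (hS : S.ShortExact) (n : ℕ) (x : Sheaf.H.{u} S.X₃ n)
    (hx : Hδ hS n x = 0) : ∃ y : Sheaf.H.{u} S.X₂ n, Sheaf.H.map S.g n y = x :=
  Abelian.Ext.covariant_sequence_exact₃ _ hS x rfl hx

theorem H_exact₁ (hS : S.ShortExact) (n : ℕ) (x : Sheaf.H.{u} S.X₁ (n + 1))
    (hx : Sheaf.H.map S.f (n + 1) x = 0) : ∃ y : Sheaf.H.{u} S.X₃ n, Hδ hS n y = x :=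
  Abelian.Ext.covariant_sequence_exact₁ _ hS x hx rfl

end Sheaf

variable {X : Scheme.{u}}

variable (X) in
/-- The underlying abelian sheaf, as a functor on `X.Modules`. -/
noncomputable def toAbF : X.Modules ⥤ Sheaf (Opens.grothendieckTopology X) AddCommGrpCat.{u} :=
  SheafOfModules.toSheaf X.ringCatSheaf

theorem toAbF_obj (M : X.Modules) : (toAbF X).obj M = Coh.toAb M := rfl

instance : (toAbF X).Faithful := inferInstanceAs (SheafOfModules.toSheaf X.ringCatSheaf).Faithful

instance : (toAbF X).Additive where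
  map_add := rfl

instance : PreservesFiniteLimits (toAbF X) :=
  inferInstanceAs (PreservesFiniteLimits (SheafOfModules.toSheaf X.ringCatSheaf))

instance : PreservesFiniteColimits (toAbF X) :=
  Groth.Agent.CycB.StalkExact.toSheaf_preservesFiniteColimits X

/-- The map on cohomology induced by a map of modules. -/
noncomputable def hmap {M N : X.Modules} (φ : M ⟶ N) (n : ℕ) : Coh.HH X M n →+ Coh.HH X N n :=
  Sheaf.H.map (F := Coh.toAb M) (G := Coh.toAb N) ((toAbF X).map φ) n

theorem hmap_comp {M N P : X.Modules} (φ : M ⟶ N) (ψ : N ⟶ P) (n : ℕ) (x : Coh.HH X M n) :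
    hmap (φ ≫ ψ) n x = hmap ψ n (hmap φ n x) :=
  Sheaf.H.map_comp_apply (F := Coh.toAb M) (G := Coh.toAb N) (G' := Coh.toAb P) ((toAbF X).map φ)
    ((toAbF X).map ψ) x

theorem hmap_id {M : X.Modules} (n : ℕ) (x : Coh.HH X M n) : hmap (𝟙 M) n x = x :=
  Sheaf.H.map_id_apply (F := Coh.toAb M) x

theorem hmap_add {M N : X.Modules} (φ ψ : M ⟶ N) (n : ℕ) (x : Coh.HH X M n) :
    hmap (φ + ψ) n x = hmap φ n x + hmap ψ n x :=
  Sheaf.H.map_add_apply (F := Coh.toAb M) (G := Coh.toAb N) ((toAbF X).map φ) ((toAbF X).map ψ) x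

theorem hmap_zero {M N : X.Modules} (n : ℕ) (x : Coh.HH X M n) :
    hmap (0 : M ⟶ N) n x = 0 := by
  have := hmap_add (0 : M ⟶ N) 0 n x
  rw [add_zero] at this
  simpa using this

theorem hmap_sum {M N : X.Modules} {ι : Type*} (s : Finset ι) (φ : ι → (M ⟶ N)) (n : ℕ)
    (x : Coh.HH X M n) : hmap (∑ i ∈ s, φ i) n x = ∑ i ∈ s, hmap (φ i) n x := by
  classical
  induction s using Finset.induction_on with
  | empty => simp [hmap_zero]
  | insert a s ha ih => rw [Finset.sum_insert ha, Finset.sum_insert ha, hmap_add, ih]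

section Exact

theorem toAb_shortExact {S : ShortComplex X.Modules} (hS : S.ShortExact) :
    (S.map (toAbF X)).ShortExact :=
  ShortComplex.ShortExact.map_of_exact hS (toAbF X)

theorem exists_of_hmap_eq_zero {S : ShortComplex X.Modules} (hS : S.ShortExact) (n : ℕ)
    (x : Coh.HH X S.X₂ n) (hx : hmap S.g n x = 0) : ∃ y : Coh.HH X S.X₁ n, hmap S.f n y = x :=
  H_exact₂ (toAb_shortExact hS) n x hx

/-- The connecting map. -/
noncomputable def hδ {S : ShortComplex X.Modules} (hS : S.ShortExact) (n : ℕ) :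
    Coh.HH X S.X₃ n →+ Coh.HH X S.X₁ (n + 1) :=
  Hδ (toAb_shortExact hS) n

theorem exists_of_hδ_eq_zero {S : ShortComplex X.Modules} (hS : S.ShortExact) (n : ℕ)
    (x : Coh.HH X S.X₃ n) (hx : hδ hS n x = 0) : ∃ y : Coh.HH X S.X₂ n, hmap S.g n y = x :=
  H_exact₃ (toAb_shortExact hS) n x hx

theorem exists_of_hmap_f_eq_zero {S : ShortComplex X.Modules} (hS : S.ShortExact) (n : ℕ)
    (x : Coh.HH X S.X₁ (n + 1)) (hx : hmap S.f (n + 1) x = 0) :
    ∃ y : Coh.HH X S.X₃ n, hδ hS n y = x :=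
  H_exact₁ (toAb_shortExact hS) n x hx

theorem hmap_surjective_of_next_subsingleton {S : ShortComplex X.Modules} (hS : S.ShortExact)
    (n : ℕ) (h : Subsingleton (Coh.HH X S.X₁ (n + 1))) :
    Function.Surjective (hmap S.g n) := fun x =>
  exists_of_hδ_eq_zero hS n x (Subsingleton.elim _ _)

theorem hmap_surjective_of_right_subsingleton {S : ShortComplex X.Modules} (hS : S.ShortExact)
    (n : ℕ) (h : Subsingleton (Coh.HH X S.X₃ n)) :
    Function.Surjective (hmap S.f n) := fun x =>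
  exists_of_hmap_eq_zero hS n x (Subsingleton.elim _ _)

theorem subsingleton_middle {S : ShortComplex X.Modules} (hS : S.ShortExact) (n : ℕ)
    (h₁ : Subsingleton (Coh.HH X S.X₁ n)) (h₃ : Subsingleton (Coh.HH X S.X₃ n)) :
    Subsingleton (Coh.HH X S.X₂ n) := by
  refine subsingleton_of_forall_eq 0 fun x => ?_
  obtain ⟨y, rfl⟩ := exists_of_hmap_eq_zero hS n x (Subsingleton.elim _ _)
  rw [Subsingleton.elim y 0, map_zero]

theorem subsingleton_of_iso {M N : X.Modules} (e : M ≅ N) (n : ℕ)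
    (h : Subsingleton (Coh.HH X M n)) : Subsingleton (Coh.HH X N n) := by
  refine subsingleton_of_forall_eq 0 fun x => ?_
  have : hmap e.hom n (hmap e.inv n x) = x := by rw [← hmap_comp, e.inv_hom_id, hmap_id]
  rw [← this, Subsingleton.elim (hmap e.inv n x) 0, map_zero]

end Exact
end Groth.Agent.CohqB.LocBaseHH
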