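import Groth.Agent.CohtopB.RPushExt
import Groth.Prelude.Def_CohTop
import Groth.Prelude.Def_Coh
import Mathlib.Topology.Sheaves.Stalks

/-!
# Vanishing of stalks of higher direct images

`isZero_stalk_RpushAb`: the stalk at `y` of `R^p f_* M` (abelian version) vanishes if every class in
`H^p(f⁻¹ V, M)`, `y ∈ V`, dies on `f⁻¹ W` for a smaller neighbourhood `W`.
-/

set_option autoImplicit false
universe u

open CategoryTheory Limits Opposite TopologicalSpace Abelian AlgebraicGeometry

namespace Groth.Agent.CohqB.RpushStalk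

/-- A sheaf isomorphic to the sheafification of a presheaf all of whose sections die near `y` has
zero stalk at `y`. -/
theorem subsingleton_stalk_sheafify {Y : TopCat.{u}} (P : (Opens Y)ᵒᵖ ⥤ AddCommGrpCat.{u}) (y : Y)
    (h : ∀ (V : Opens Y) (_ : y ∈ V) (s : P.obj (op V)), ∃ (W : Opens Y) (hW : W ≤ V), y ∈ W ∧
      P.map (homOfLE hW).op s = 0) :
    Subsingleton (CohTop.stalk ((presheafToSheaf (Opens.grothendieckTopology Y)
      AddCommGrpCat.{u}).obj P) y) := by
  set J := Opens.grothendieckTopology Y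
  refine subsingleton_of_forall_eq 0 fun s => ?_
  obtain ⟨U, hyU, s, rfl⟩ := TopCat.Presheaf.exists_germ_eq (C := AddCommGrpCat.{u}) (X := Y)
    ((presheafToSheaf J AddCommGrpCat.{u}).obj P).obj s
  obtain ⟨V, i, ⟨t, ht⟩, hyV⟩ := Presheaf.imageSieve_mem J (toSheafify J P) (U := op U) s y hyU
  obtain ⟨W, hW, hyW, h0⟩ := h V hyV t
  have h1 := TopCat.Presheaf.germ_res_apply (C := AddCommGrpCat.{u}) (X := Y)
    ((presheafToSheaf J AddCommGrpCat.{u}).obj P).obj (homOfLE (hW.trans (leOfHom i))) y hyW s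
  refine h1.symm.trans ?_
  have h2 : ((presheafToSheaf J AddCommGrpCat.{u}).obj P).obj.map
      (homOfLE (hW.trans (leOfHom i))).op s = 0 := by
    have e : (homOfLE (hW.trans (leOfHom i))).op = i.op ≫ (homOfLE hW).op := rfl
    rw [e, Functor.map_comp]
    have h3 : (toSheafify J P).app (op W) (P.map (homOfLE hW).op t) =
      ((presheafToSheaf J AddCommGrpCat.{u}).obj P).obj.map (homOfLE hW).op
        ((toSheafify J P).app (op V) t) :=
      NatTrans.naturality_apply (toSheafify J P) (homOfLE hW).op t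
    rw [h0, map_zero] at h3
    refine Eq.trans ?_ h3.symm
    exact (congrArg (fun t => ((presheafToSheaf J AddCommGrpCat.{u}).obj P).obj.map
      (homOfLE hW).op t) ht).symm
  rw [h2]
  exact map_zero _

theorem isZero_stalk_of_iso {Y : TopCat.{u}} {F G : CohTop.Ab Y} (e : F ≅ G) (y : Y)
    (h : Subsingleton (CohTop.stalk G y)) : IsZero (CohTop.stalk F y) := by
  have h1 : IsZero (CohTop.stalk G y) := AddCommGrpCat.isZero_of_subsingleton _
  refine h1.of_iso ?_
  exact (sheafToPresheaf _ _ ⋙ TopCat.Presheaf.stalkFunctor AddCommGrpCat.{u} y).mapIso e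

theorem isZero_stalk_Rpush {X Y : TopCat.{u}} (f : X ⟶ Y) (F : CohTop.Ab X) (p : ℕ) (y : Y)
    (h : ∀ (V : Opens Y) (_ : y ∈ V) (ξ : CohTop.HU F p ((Opens.map f).obj V)),
      ∃ (W : Opens Y) (hW : W ≤ V), y ∈ W ∧
        CohTop.res F p ((Opens.map f).monotone hW) ξ = 0) :
    IsZero (CohTop.stalk ((CohTop.Rpush f p).obj F) y) := by
  have e : (CohTop.Rpush f p).obj F ≅ (presheafToSheaf (Opens.grothendieckTopology Y)
      AddCommGrpCat.{u}).obj ((Opens.map f).op ⋙ F.cohomologyPresheaf p) :=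
    haveI : ((Opens.map f).sheafPushforwardContinuous AddCommGrpCat.{u}
      (Opens.grothendieckTopology Y) (Opens.grothendieckTopology X)).Additive :=
      inferInstanceAs (CohTop.push f).Additive
    (Groth.Agent.CohtopB.RPushExt.siteIso (Opens.grothendieckTopology X)
      (Opens.grothendieckTopology Y) (Opens.map f) p).app F
  exact isZero_stalk_of_iso e y (subsingleton_stalk_sheafify _ y h)

theorem isZero_stalk_RpushAb {X Y : AlgebraicGeometry.Scheme.{u}} (f : X ⟶ Y) (M : X.Modules)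
    (p : ℕ) (y : Y)
    (h : ∀ (V : Y.Opens) (_ : y ∈ V) (ξ : CohTop.HU (X := X.toTopCat) (Coh.toAb M) p (f ⁻¹ᵁ V)),
      ∃ (W : Y.Opens) (hW : W ≤ V), y ∈ W ∧
        CohTop.res (X := X.toTopCat) (Coh.toAb M) p ((Opens.map f.base).monotone hW) ξ = 0) :
    IsZero (TopCat.Presheaf.stalk ((Coh.RpushAb f p).obj (Coh.toAb M)).obj y) :=
  isZero_stalk_Rpush (X := X.toTopCat) (Y := Y.toTopCat) f.base (Coh.toAb M) p y h

end Groth.Agent.CohqB.RpushStalk
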