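import Groth.Agent.CohqA.HOpen
import Groth.Prelude.Def_CohTop
import Groth.Prelude.Def_Coh

/-!
# Classes killed by a global function vanish where it is invertible

`res_eq_zero`: if `g • x = 0` in `H^p(Z, N)` then `x` restricts to `0` in `H^p(D(g), N)`.
-/

set_option autoImplicit false
universe u

open CategoryTheory Limits Opposite TopologicalSpace Abelian AlgebraicGeometry

namespace Groth.Agent.CohqB.TorsRes

open Groth.Agent.CohqA.HOpen Groth.Agent.CohtopA.FreeAb

variable {Z : Scheme.{u}} (N : Z.Modules) (g : Coh.Γtop Z)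

theorem isUnit_resTop {U : Z.Opens} (h : U ≤ Z.basicOpen (show Γ(Z, ⊤) from g)) :
    IsUnit (Coh.resTop Z (op U) g) := by
  have h1 := (Z.toRingedSpace.isUnit_res_basicOpen (show Γ(Z, ⊤) from g)).map
    (Z.presheaf.map (homOfLE h).op).hom
  have h2 : (Z.presheaf.map (homOfLE h).op).hom
      (Z.presheaf.map (homOfLE (Z.basicOpen_le (show Γ(Z, ⊤) from g))).op
        (show Γ(Z, ⊤) from g)) = Z.presheaf.map (homOfLE (le_top : U ≤ ⊤)).op
          (show Γ(Z, ⊤) from g) := by
    rw [← CommRingCat.comp_apply, ← Functor.map_comp]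
    rfl
  have h3 : IsUnit ((Z.presheaf.map (homOfLE (le_top : U ≤ ⊤)).op).hom
          (show Γ(Z, ⊤) from g)) := by
    rw [← h2]
    exact h1
  exact h3

theorem isIso_res_smulAb :
    IsIso ((resFunctor (Z.basicOpen (show Γ(Z, ⊤) from g)).ι.isOpenEmbedding).map
      (Coh.smulAb N g)) := by
  rw [← isIso_iff_of_reflects_iso _ (sheafToPresheaf _ _)]
  rw [NatTrans.isIso_iff_isIso_app]
  intro U
  rw [ConcreteCategory.isIso_iff_bijective]
  let V : Z.Opens := (Z.basicOpen (show Γ(Z, ⊤) from g)).ι ''ᵁ U.unop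
  have hV : V ≤ Z.basicOpen (show Γ(Z, ⊤) from g) := by
    have := Scheme.Hom.image_le_opensRange (Z.basicOpen (show Γ(Z, ⊤) from g)).ι U.unop
    simpa using this
  obtain ⟨u, hu⟩ := isUnit_resTop g hV
  have key : Function.Bijective (fun m : N.val.obj (op V) =>
      @HSMul.hSMul (Z.ringCatSheaf.obj.obj (op V)) (N.val.obj (op V)) (N.val.obj (op V)) _
        (Coh.resTop Z (op V) g) m) := by
    rw [← hu]
    exact MulAction.bijective u
  exact key

section Sheaf

variable {X Y : TopCat.{u}} {f : X ⟶ Y} (h : Topology.IsOpenEmbedding f)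

/-- If an endomorphism of `F` kills `x` and is an isomorphism on an open, then `x` restricts to zero
there. -/
theorem ext_res_eq_zero {F : CohTop.Ab Y} (ψ : F ⟶ F) (hψ : IsIso ((resFunctor h).map ψ)) (p : ℕ)
    {W : Opens Y} (x : CohTop.HU F p W) (hx : CohTop.HUmap ψ p W x = 0) (V : Opens X)
    (hV : h.functor.obj V ≤ W) : CohTop.res F p hV x = 0 := by
  let x' : Ext.{u} (freeAb (Opens.grothendieckTopology Y) W) F p := x
  let y : Ext.{u} (freeAb (Opens.grothendieckTopology Y) (h.functor.obj V)) F p :=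
    (Ext.mk₀ (freeAbMap (Opens.grothendieckTopology Y) (homOfLE hV))).comp x' (zero_add p)
  have hx' : x'.comp (Ext.mk₀ ψ) (add_zero p) = 0 := hx
  have hy : y.comp (Ext.mk₀ ψ) (add_zero p) = 0 := by
    change ((Ext.mk₀ _).comp x' (zero_add p)).comp (Ext.mk₀ ψ) (add_zero p) = 0
    rw [Ext.comp_assoc _ _ _ (zero_add p) (add_zero p) (by omega), hx', Ext.comp_zero]
  have h1 := compareOpen_map h V ψ p y
  rw [hy, map_zero] at h1
  have h2 : compareOpen h V F p y = 0 := by
    have h3 := congrArg (fun t => Ext.comp t (Ext.mk₀ (inv ((resFunctor h).map ψ)))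
      (add_zero p)) h1
    simp only [Ext.zero_comp] at h3
    rw [Ext.comp_assoc _ _ _ (add_zero p) (add_zero 0) (by omega), Ext.mk₀_comp_mk₀,
      IsIso.hom_inv_id, Ext.comp_mk₀_id] at h3
    exact h3.symm
  have h4 : y = 0 := by
    apply (compareOpen h V F p).injective
    rw [h2, map_zero]
  exact h4

end Sheaf

/-- A class killed by the global function `g` restricts to zero on `D(g)`. -/
theorem res_eq_zero (p : ℕ) (x : Coh.HH Z N p) (hx : Sheaf.H.map (Coh.smulAb N g) p x = 0) :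
    CohTop.res (X := Z.toTopCat) (Coh.toAb N) p
      (le_top : (Z.basicOpen (show Γ(Z, ⊤) from g)) ≤ ⊤) (HHTopEquiv N p x) = 0 := by
  have h1 : CohTop.HUmap (X := Z.toTopCat) (Coh.smulAb N g) p ⊤ (HHTopEquiv N p x) = 0 := by
    have h2 := Groth.Agent.CohtopA.HTop.HAddEquiv_map (Opens.grothendieckTopology Z)
      (isTerminalTop : IsTerminal (⊤ : Opens Z)) p (Coh.smulAb N g) x
    rw [hx, map_zero] at h2
    exact h2.symm
  have h3 := ext_res_eq_zero (X := (Z.basicOpen (show Γ(Z, ⊤) from g)).toScheme.toTopCat)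
    (Y := Z.toTopCat)
    (Z.basicOpen (show Γ(Z, ⊤) from g)).ι.isOpenEmbedding (Coh.smulAb N g)
    (isIso_res_smulAb N g) p (W := ⊤) (HHTopEquiv N p x) h1 ⊤ le_top
  have h4 : (Z.basicOpen (show Γ(Z, ⊤) from g)).ι.isOpenEmbedding.functor.obj ⊤ =
      Z.basicOpen (show Γ(Z, ⊤) from g) := by
    ext z
    constructor
    · rintro ⟨y, -, rfl⟩
      exact y.2
    · intro hz
      exact ⟨⟨z, hz⟩, trivial, rfl⟩
  have h5 : ∀ (D : Z.Opens) (_ : (Z.basicOpen (show Γ(Z, ⊤) from g)).ι.isOpenEmbedding.functor.obj ⊤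
      = D), CohTop.res (X := Z.toTopCat) (Coh.toAb N) p (le_top : D ≤ ⊤)
        (HHTopEquiv N p x) = 0 := by
    intro D hD
    subst hD
    exact h3
  exact h5 _ h4

end Groth.Agent.CohqB.TorsRes
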