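import Groth.Agent.S0034
import Groth.Agent.CohqB.TorsRes
import Groth.Agent.CohqB.RpushStalk
import Groth.Agent.CohqB.LocBaseHH
import Groth.Agent.Fdesc.QCohStalk
import Groth.Agent.CohtopA.NoethVanish
import Mathlib.AlgebraicGeometry.Stalk
import Mathlib.RingTheory.Flat.Localization
import Mathlib.AlgebraicGeometry.Morphisms.Affine

/-!
# Reduction of vanishing of stalks of higher direct images to the local base

`isZero_stalk_of_local`: `f : X ⟶ Y` qcqs, `M` quasi-coherent, `y : Y`.  If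
`H^p(X ×_Y Spec O_{Y,y}, M') = 0` then the stalk of `R^p f_* M` at `y` vanishes.
-/

set_option autoImplicit false
universe u

open CategoryTheory Limits Opposite TopologicalSpace Abelian AlgebraicGeometry TensorProduct

namespace Groth.Agent.CohqB.LocBaseRed

open Groth.Agent.CohqA.HOpen Groth.Agent.CohtopA.FreeAb

section Loc

/-- In a localized module `x ⊗ 1 = 0` means that `x` is killed by an element of the multiplicative
set. -/
theorem exists_smul_eq_zero {A B H : Type*} [CommRing A] [CommRing B] [Algebra A B]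
    [AddCommGroup H] [Module A H] (p : Ideal A) [p.IsPrime] [IsLocalization.AtPrime B p]
    (h : Subsingleton (TensorProduct A B H)) (x : H) : ∃ s : A, s ∉ p ∧ s • x = 0 := by
  have h1 : IsLocalizedModule p.primeCompl (TensorProduct.mk A B H 1) :=
    (isLocalizedModule_iff_isBaseChange p.primeCompl B _).mpr (TensorProduct.isBaseChange A H B)
  have h2 : TensorProduct.mk A B H 1 x = 0 := Subsingleton.elim _ _
  obtain ⟨s, hs⟩ := (IsLocalizedModule.eq_zero_iff p.primeCompl (TensorProduct.mk A B H 1)).mp h2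
  exact ⟨s.1, s.2, hs⟩

end Loc

variable {X Y : Scheme.{u}} (f : X ⟶ Y)

/-- The structure map `f⁻¹ U ⟶ Spec Γ(Y, U)`. -/
noncomputable def toSpec {U : Y.Opens} (hU : IsAffineOpen U) :
    (f ⁻¹ᵁ U).toScheme ⟶ Spec (CommRingCat.of Γ(Y, U)) :=
  (f ∣_ U) ≫ hU.isoSpec.hom

theorem isPullback_local {U : Y.Opens} (hU : IsAffineOpen U) (y : Y) (hy : y ∈ U)
    {X' : Scheme.{u}} (g' : X' ⟶ X) (f' : X' ⟶ Spec (Y.presheaf.stalk y))
    (H : IsPullback g' f' f (Y.fromSpecStalk y)) :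
    ∃ g₁ : X' ⟶ (f ⁻¹ᵁ U).toScheme, g₁ ≫ (f ⁻¹ᵁ U).ι = g' ∧
      IsPullback g₁ f' (toSpec f hU) (Spec.map (Y.presheaf.germ U y hy)) := by
  have h1 : Spec.map (Y.presheaf.germ U y hy) ≫ hU.isoSpec.inv ≫ U.ι = Y.fromSpecStalk y := by
    rw [IsAffineOpen.isoSpec_inv_ι, ← hU.fromSpecStalk_eq_fromSpecStalk hy]
    rfl
  have h2 := (isPullback_morphismRestrict f U).flip
  have h3 : g' ≫ f = (f' ≫ Spec.map (Y.presheaf.germ U y hy) ≫ hU.isoSpec.inv) ≫ U.ι := by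
    rw [Category.assoc, Category.assoc, h1, H.w]
  let g₁ : X' ⟶ (f ⁻¹ᵁ U).toScheme := h2.lift g' _ h3
  have h4 : g₁ ≫ (f ⁻¹ᵁ U).ι = g' := h2.lift_fst _ _ _
  have h5 : g₁ ≫ (f ∣_ U) = f' ≫ Spec.map (Y.presheaf.germ U y hy) ≫ hU.isoSpec.inv :=
    h2.lift_snd _ _ _
  refine ⟨g₁, h4, ?_⟩
  have h6 : IsPullback g₁ f' (f ∣_ U) (Spec.map (Y.presheaf.germ U y hy) ≫ hU.isoSpec.inv) := by
    refine IsPullback.of_right ?_ h5 h2
    rw [h4, Category.assoc, h1]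
    exact H
  refine h6.of_iso (Iso.refl _) (Iso.refl _) (Iso.refl _) hU.isoSpec ?_ ?_ ?_ ?_
  · simp
  · simp
  · simp [toSpec]
  · simp

theorem toGlobal_basicOpen {U : Y.Opens} (hU : IsAffineOpen U) (s : Γ(Y, U)) :
    (f ⁻¹ᵁ U).ι ''ᵁ ((f ⁻¹ᵁ U).toScheme.basicOpen
      (show Γ((f ⁻¹ᵁ U).toScheme, ⊤) from Coh.toGlobal (toSpec f hU) s)) =
        f ⁻¹ᵁ (Y.basicOpen s) := by
  have h1 : (show Γ((f ⁻¹ᵁ U).toScheme, ⊤) from Coh.toGlobal (toSpec f hU) s) =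
      (f ∣_ U).appTop (U.topIso.inv s) := by
    have h2 : (Scheme.ΓSpecIso Γ(Y, U)).inv ≫ (toSpec f hU).appTop =
        U.topIso.inv ≫ (f ∣_ U).appTop := by
      rw [toSpec, Scheme.Hom.comp_appTop, IsAffineOpen.isoSpec_hom_appTop]
      simp
    exact congr($(h2) s)
  rw [h1, ← Scheme.preimage_basicOpen_top, image_morphismRestrict_preimage,
    Scheme.Opens.ι_image_basicOpen_topIso_inv]

/-- Restriction of classes: bridge between opens of `X` and of an open subscheme. -/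
theorem res_eq_zero_of_open (V : X.Opens) (M : X.Modules) (p : ℕ)
    (η : CohTop.HU (X := X.toTopCat) (Coh.toAb M) p (V.ι ''ᵁ ⊤)) (D : V.toScheme.Opens)
    (h : CohTop.res (X := V.toScheme.toTopCat) (Coh.toAb (M.restrict V.ι)) p (le_top : D ≤ ⊤)
      (HUEquiv V.ι M ⊤ p η) = 0) :
    CohTop.res (X := X.toTopCat) (Coh.toAb M) p
      (V.ι.image_mono le_top : V.ι ''ᵁ D ≤ V.ι ''ᵁ ⊤) η = 0 := by
  have h1 := compareOpen_res (X := V.toScheme.toTopCat) (Y := X.toTopCat) V.ι.isOpenEmbedding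
    (homOfLE (le_top : D ≤ ⊤)) (Coh.toAb M) p η
  apply (HUEquiv V.ι M D p).injective
  rw [map_zero]
  exact h1.trans h

/-- The module over `f⁻¹ U` pulled back to `X'` is the module on `X` pulled back to `X'`. -/
theorem nonempty_pullback_iso (V : X.Opens) (M : X.Modules) {X' : Scheme.{u}} (g₁ : X' ⟶ V.toScheme)
    (g' : X' ⟶ X) (h : g₁ ≫ V.ι = g') :
    Nonempty ((Scheme.Modules.pullback g₁).obj (M.restrict V.ι) ≅
      (Scheme.Modules.pullback g').obj M) := by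
  subst h
  exact ⟨(Scheme.Modules.pullback g₁).mapIso
    ((Scheme.Modules.restrictFunctorIsoPullback V.ι).app M) ≪≫
      (Scheme.Modules.pullbackComp g₁ V.ι).app M⟩

/-- The key local statement. -/
theorem exists_res_eq_zero [QuasiCompact f] [QuasiSeparated f] (y : Y) (M : X.Modules)
    (hM : Coh.IsQCoh M) (p : ℕ) {X' : Scheme.{u}} (g' : X' ⟶ X)
    (f' : X' ⟶ Spec (Y.presheaf.stalk y)) (H : IsPullback g' f' f (Y.fromSpecStalk y))
    (h0 : Subsingleton (Coh.HH X' ((Scheme.Modules.pullback g').obj M) p))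
    (V : Y.Opens) (hy : y ∈ V) (ξ : CohTop.HU (X := X.toTopCat) (Coh.toAb M) p (f ⁻¹ᵁ V)) :
    ∃ (W : Y.Opens) (hW : W ≤ V), y ∈ W ∧
        CohTop.res (X := X.toTopCat) (Coh.toAb M) p ((Opens.map f.base).monotone hW) ξ = 0 := by
  obtain ⟨_, ⟨U, hU, rfl⟩, hyU, hUV⟩ :=
    Y.isBasis_affineOpens.exists_subset_of_mem_open hy V.isOpen
  have hU : IsAffineOpen U := hU
  have hUV : U ≤ V := hUV
  obtain ⟨g₁, hg₁, hpb⟩ := isPullback_local f hU y hyU g' f' H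
  let N : (f ⁻¹ᵁ U).toScheme.Modules := M.restrict (f ⁻¹ᵁ U).ι
  let _ : Algebra Γ(Y, U) (Y.presheaf.stalk y) := (Y.presheaf.germ U y hyU).hom.toAlgebra
  let _ : (f ⁻¹ᵁ U).toScheme.Over (Spec (CommRingCat.of Γ(Y, U))) := ⟨toSpec f hU⟩
  let _ : X'.Over (Spec (CommRingCat.of (Y.presheaf.stalk y))) := ⟨f'⟩
  have hloc : IsLocalization.AtPrime (Y.presheaf.stalk y) (hU.primeIdealOf ⟨y, hyU⟩).asIdeal :=
    hU.isLocalization_stalk ⟨y, hyU⟩
  have hflat : Module.Flat Γ(Y, U) (Y.presheaf.stalk y) :=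
    IsLocalization.flat _ (hU.primeIdealOf ⟨y, hyU⟩).asIdeal.primeCompl
  have hcomp : CompactSpace (f ⁻¹ᵁ U).toScheme :=
    isCompact_iff_compactSpace.mp (f.isCompact_preimage hU.isCompact)
  have hqs : QuasiSeparatedSpace (f ⁻¹ᵁ U).toScheme := by
    have : QuasiSeparated (toSpec f hU) := by
      unfold toSpec
      infer_instance
    exact quasiSeparatedSpace_of_quasiSeparated (toSpec f hU)
  have hN : Coh.IsQCoh N := Groth.Agent.Fdesc.QCohStalk.restrict_isQCoh M hM (f ⁻¹ᵁ U).ι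
  obtain ⟨e⟩ := Groth.Agent.S0034.result Γ(Y, U) (Y.presheaf.stalk y) (f ⁻¹ᵁ U).toScheme X' g₁
    hpb N p
  obtain ⟨e'⟩ := nonempty_pullback_iso (f ⁻¹ᵁ U) M g₁ g' hg₁
  have h1 : Subsingleton (Coh.HH X' ((Scheme.Modules.pullback g₁).obj N) p) :=
    LocBaseHH.subsingleton_of_iso e'.symm p h0
  have h2 : Subsingleton (TensorProduct Γ(Y, U) (Y.presheaf.stalk y) (Coh.HH (f ⁻¹ᵁ U).toScheme N p)) :=
    e.toEquiv.subsingleton
  -- the class over `f⁻¹ U`
  have hle : (f ⁻¹ᵁ U).ι ''ᵁ ⊤ ≤ f ⁻¹ᵁ V := by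
    have h3 : (f ⁻¹ᵁ U).ι ''ᵁ ⊤ ≤ f ⁻¹ᵁ U := by simp
    exact h3.trans ((Opens.map f.base).monotone hUV)
  let η := CohTop.res (X := X.toTopCat) (Coh.toAb M) p hle ξ
  let x : Coh.HH (f ⁻¹ᵁ U).toScheme N p := (HHTopEquiv N p).symm (HUEquiv (f ⁻¹ᵁ U).ι M ⊤ p η)
  obtain ⟨s, hs, hsx⟩ := exists_smul_eq_zero (hU.primeIdealOf ⟨y, hyU⟩).asIdeal h2 x
  have h4 := TorsRes.res_eq_zero N (Coh.toGlobal (toSpec f hU) s) p x hsx
  have h5 : HHTopEquiv N p x = HUEquiv (f ⁻¹ᵁ U).ι M ⊤ p η := AddEquiv.apply_symm_apply _ _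
  rw [h5] at h4
  have h6 := res_eq_zero_of_open (f ⁻¹ᵁ U) M p η _ h4
  have h7 : Y.basicOpen s ≤ V := (Y.basicOpen_le s).trans hUV
  refine ⟨Y.basicOpen s, h7, ?_, ?_⟩
  · rw [Scheme.mem_basicOpen _ _ _ hyU]
    exact IsLocalization.map_units (Y.presheaf.stalk y) (⟨s, hs⟩ :
      (hU.primeIdealOf ⟨y, hyU⟩).asIdeal.primeCompl)
  · have h8 : ∀ (D : X.Opens) (hD : D ≤ (f ⁻¹ᵁ U).ι ''ᵁ ⊤) (E : X.Opens) (hE : E ≤ f ⁻¹ᵁ V)
        (_ : D = E), CohTop.res (X := X.toTopCat) (Coh.toAb M) p hD η = 0 →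
        CohTop.res (X := X.toTopCat) (Coh.toAb M) p hE ξ = 0 := by
      intro D hD E hE hDE h
      subst hDE
      rw [← h]
      exact (Groth.Agent.CohtopA.NoethVanish.res_res (X := X.toTopCat) (Coh.toAb M) p hle hD
        ξ).symm
    exact h8 _ _ _ _ (toGlobal_basicOpen f hU s) h6

/-- Reduction of the vanishing of the stalk of `R^p f_* M` at `y` to the local scheme at `y`. -/
theorem isZero_stalk_of_local [QuasiCompact f] [QuasiSeparated f] (y : Y) (M : X.Modules)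
    (hM : Coh.IsQCoh M) (p : ℕ) {X' : Scheme.{u}} (g' : X' ⟶ X)
    (f' : X' ⟶ Spec (Y.presheaf.stalk y)) (H : IsPullback g' f' f (Y.fromSpecStalk y))
    (h0 : Subsingleton (Coh.HH X' ((Scheme.Modules.pullback g').obj M) p)) :
    IsZero (TopCat.Presheaf.stalk ((Coh.RpushAb f p).obj (Coh.toAb M)).obj y) :=
  RpushStalk.isZero_stalk_RpushAb f M p y
    (fun V hy ξ => exists_res_eq_zero f y M hM p g' f' H h0 V hy ξ)

end Groth.Agent.CohqB.LocBaseRed
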