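import Groth.Agent.CohqB.LocBaseHH
import Mathlib.RingTheory.Nakayama

/-!
# Vanishing over a Noetherian local base by descending induction and Nakayama

`engine`: let `A` be a local ring, `X` over `Spec A`, `T n` a family of exact functors on
`X.Modules` compatible with the action of `A`, `C` a class of modules stable under finite sums,
kernels and cokernels whose twists have finite cohomology.  If the cohomology of the twists of
modules killed by the maximal ideal eventually vanishes in degrees `> e`, then it does so for all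
modules of the class.
-/

set_option autoImplicit false
universe u

open CategoryTheory CategoryTheory.Limits AlgebraicGeometry Opposite TopologicalSpace
open Groth.Agent.CohqB.LocBaseHH

namespace Groth.Agent.CohqB.LocBaseEngine

attribute [local instance] Abelian.hasFiniteBiproducts

variable {X : Scheme.{u}} {A : Type u} [CommRing A] [X.Over (Spec (CommRingCat.of A))]

theorem hmap_smulMod (M : X.Modules) (a : A) (n : ℕ) (x : Coh.HH X M n) :
    hmap (Formal.smulMod A M a) n x = a • x := rfl

theorem smulMod_app (M : X.Modules) (a : A) (U : X.Opens) (x : Γ(M, U)) :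
    (Formal.smulMod A M a).app U x =
      (show Γ(X, U) from Coh.resTop X (op U) (Coh.toGlobal (X ↘ Spec (CommRingCat.of A)) a)) • x :=
  rfl

theorem smulMod_naturality {M N : X.Modules} (φ : M ⟶ N) (a : A) :
    Formal.smulMod A M a ≫ φ = φ ≫ Formal.smulMod A N a := by
  ext U x
  rw [Scheme.Modules.Hom.comp_app, Scheme.Modules.Hom.comp_app]
  change φ.app U ((Formal.smulMod A M a).app U x) = (Formal.smulMod A N a).app U (φ.app U x)
  rw [smulMod_app, smulMod_app, Scheme.Modules.Hom.app_smul]

theorem smulMod_mul (M : X.Modules) (a b : A) :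
    Formal.smulMod A M (a * b) = Formal.smulMod A M a ≫ Formal.smulMod A M b := by
  apply (toAbF X).map_injective
  rw [mul_comm, (toAbF X).map_comp]
  change Coh.smulAb M (Coh.toGlobal _ (b * a)) = Coh.smulAb M _ ≫ Coh.smulAb M _
  rw [map_mul, Coh.smulAb_mul]

theorem smulMod_add (M : X.Modules) (a b : A) :
    Formal.smulMod A M (a + b) = Formal.smulMod A M a + Formal.smulMod A M b := by
  apply (toAbF X).map_injective
  rw [(toAbF X).map_add]
  change Coh.smulAb M (Coh.toGlobal _ (a + b)) = Coh.smulAb M _ + Coh.smulAb M _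
  rw [map_add, Coh.smulAb_add]

theorem smulMod_zero (M : X.Modules) : Formal.smulMod A M (0 : A) = 0 := by
  have := smulMod_add M (0 : A) 0
  rw [add_zero] at this
  simpa using this

/-- Multiplication by the generators `a i`, as a map `M^r ⟶ M`. -/
noncomputable def genMap {r : ℕ} (a : Fin r → A) (M : X.Modules) : (⨁ fun _ : Fin r => M) ⟶ M :=
  biproduct.desc fun i => Formal.smulMod A M (a i)

theorem killedBy_cokernel_genMap {r : ℕ} (a : Fin r → A) (M : X.Modules) :
    Formal.KilledBy (Ideal.span (Set.range a)) (cokernel (genMap a M)) := by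
  intro b hb
  refine Submodule.span_induction (p := fun b _ => Formal.smulMod A (cokernel (genMap a M)) b = 0)
    ?_ ?_ ?_ ?_ hb
  · rintro _ ⟨i, rfl⟩
    rw [← cancel_epi (cokernel.π (genMap a M)), ← smulMod_naturality, comp_zero]
    have : Formal.smulMod A M (a i) = biproduct.ι (fun _ : Fin r => M) i ≫ genMap a M := by
      simp [genMap]
    rw [this, Category.assoc, cokernel.condition, comp_zero]
  · exact smulMod_zero _
  · intro x y _ _ hx hy
    rw [smulMod_add, hx, hy, add_zero]
  · intro c x _ hx
    rw [smul_eq_mul, smulMod_mul, hx, comp_zero]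

theorem hmap_genMap {r : ℕ} (a : Fin r → A) (M : X.Modules) (n : ℕ)
    (T : X.Modules ⥤ X.Modules) [T.Additive]
    (hT : ∀ (N : X.Modules) (b : A), T.map (Formal.smulMod A N b) = Formal.smulMod A (T.obj N) b)
    (x : Coh.HH X (T.obj (⨁ fun _ : Fin r => M)) n) :
    hmap (T.map (genMap a M)) n x =
      ∑ i, a i • hmap (T.map (biproduct.π (fun _ : Fin r => M) i)) n x := by
  have h : genMap a M = ∑ i, biproduct.π (fun _ : Fin r => M) i ≫ Formal.smulMod A M (a i) := by
    apply biproduct.hom_ext'
    intro j
    rw [Preadditive.comp_sum]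
    simp only [← Category.assoc, biproduct.ι_π]
    rw [Finset.sum_eq_single j]
    · simp [genMap]
    · intro b _ hb
      rw [dif_neg (Ne.symm hb), zero_comp]
    · simp
  rw [h, T.map_sum, hmap_sum]
  refine Finset.sum_congr rfl fun i _ => ?_
  rw [T.map_comp, hT, hmap_comp, hmap_smulMod]

/-- The class of modules and family of twists the engine works with. -/
structure Setup (A : Type u) [CommRing A] (X : Scheme.{u}) [X.Over (Spec (CommRingCat.of A))] where
  /-- the class of modules -/
  C : X.Modules → Prop
  biprod : ∀ (r : ℕ) (M : X.Modules), C M → C (⨁ fun _ : Fin r => M)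
  ker : ∀ {M N : X.Modules} (φ : M ⟶ N), C M → C N → C (kernel φ)
  coker : ∀ {M N : X.Modules} (φ : M ⟶ N), C M → C N → C (cokernel φ)
  /-- the twists -/
  T : ℕ → X.Modules ⥤ X.Modules
  additive : ∀ n, (T n).Additive
  lim : ∀ n, PreservesFiniteLimits (T n)
  colim : ∀ n, PreservesFiniteColimits (T n)
  smul : ∀ n (N : X.Modules) (b : A),
    (T n).map (Formal.smulMod A N b) = Formal.smulMod A ((T n).obj N) b
  finite : ∀ n M, C M → ∀ p, Module.Finite A (Coh.HH X ((T n).obj M) p)

/-- Eventual vanishing of `H^p` of the twists of `M`. -/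
def Setup.Ev {A : Type u} [CommRing A] {X : Scheme.{u}} [X.Over (Spec (CommRingCat.of A))]
    (S : Setup A X) (p : ℕ) (M : X.Modules) : Prop :=
  ∃ n₀ : ℕ, ∀ n, n₀ ≤ n → Subsingleton (Coh.HH X ((S.T n).obj M) p)

section KerIm

universe v' u'

variable {C : Type u'} [Category.{v'} C] [Abelian C]

/-- The short complex `ker φ → M → im φ`. -/
noncomputable def kerIm {M N : C} (φ : M ⟶ N) : ShortComplex C :=
  ShortComplex.mk (kernel.ι φ) (factorThruImage φ) (by
    rw [← cancel_mono (image.ι φ), Category.assoc, image.fac, kernel.condition, zero_comp])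

/-- The short complex `im φ → N → coker φ`. -/
noncomputable def imCoker {M N : C} (φ : M ⟶ N) : ShortComplex C :=
  ShortComplex.mk (image.ι φ) (cokernel.π φ) (by
    rw [← cancel_epi (factorThruImage φ), image.fac_assoc, cokernel.condition, comp_zero])

theorem kerIm_shortExact {M N : C} (φ : M ⟶ N) : (kerIm φ).ShortExact := by
  refine { exact := ?_, mono_f := by dsimp [kerIm]; infer_instance,
           epi_g := by dsimp [kerIm]; infer_instance }
  refine ShortComplex.exact_of_f_is_kernel _ ?_
  refine KernelFork.IsLimit.ofι _ _ (fun {W} (g : W ⟶ M) hg => kernel.lift φ g ?_) ?_ ?_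
  · have hg' : g ≫ factorThruImage φ = 0 := hg
    rw [← image.fac φ, ← Category.assoc, hg', zero_comp]
  · intro W g hg
    exact kernel.lift_ι _ _ _
  · intro W g hg m hm
    exact (cancel_mono (kernel.ι φ)).mp ((show _ = g from hm).trans (kernel.lift_ι φ g _).symm)

theorem imCoker_shortExact {M N : C} (φ : M ⟶ N) : (imCoker φ).ShortExact := by
  refine { exact := ?_, mono_f := by dsimp [imCoker]; infer_instance,
           epi_g := by dsimp [imCoker]; infer_instance }
  refine ShortComplex.exact_of_g_is_cokernel _ ?_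
  refine CokernelCofork.IsColimit.ofπ _ _ (fun {W} (g : N ⟶ W) hg => cokernel.desc φ g ?_) ?_ ?_
  · have hg' : image.ι φ ≫ g = 0 := hg
    rw [← image.fac φ, Category.assoc, hg', comp_zero]
  · intro W g hg
    exact cokernel.π_desc _ _ _
  · intro W g hg m hm
    exact (cancel_epi (cokernel.π φ)).mp ((show _ = g from hm).trans (cokernel.π_desc φ g _).symm)

end KerIm

theorem step {A : Type u} [CommRing A] [IsNoetherianRing A] (I : Ideal A)
    (hI : I ≤ Ideal.jacobson ⊥) {X : Scheme.{u}}
    [X.Over (Spec (CommRingCat.of A))] (S : Setup A X) (p : ℕ)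
    (hnext : ∀ M, S.C M → S.Ev (p + 1) M)
    (hm : ∀ M, S.C M → Formal.KilledBy I M → S.Ev p M)
    (M : X.Modules) (hM : S.C M) : S.Ev p M := by
  obtain ⟨s, hs⟩ := (isNoetherianRing_iff_ideal_fg A).mp inferInstance I
  let r := s.card
  let a : Fin r → A := fun i => (s.equivFin.symm i : A)
  have ha : Set.range a = (s : Set A) := by
    ext x
    constructor
    · rintro ⟨i, rfl⟩
      exact (s.equivFin.symm i).2
    · intro hx
      exact ⟨s.equivFin ⟨x, hx⟩, by simp [a]⟩
  have hspan : Ideal.span (Set.range a) = I := by rw [ha]; exact hs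
  have haM : ∀ i, a i ∈ I := fun i => by
    rw [← hspan]; exact Ideal.subset_span ⟨i, rfl⟩
  have hbi : S.C (⨁ fun _ : Fin r => M) := S.biprod r M hM
  obtain ⟨n₁, hn₁⟩ := hnext _ (S.ker (genMap a M) hbi hM)
  obtain ⟨n₂, hn₂⟩ := hm _ (S.coker (genMap a M) hbi hM) (by
    have := killedBy_cokernel_genMap a M
    rwa [hspan] at this)
  refine ⟨max n₁ n₂, fun n hn => ?_⟩
  have := S.additive n
  have := S.lim n
  have := S.colim n
  have hT₁ := ShortComplex.ShortExact.map_of_exact (kerIm_shortExact (genMap a M)) (S.T n)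
  have hT₂ := ShortComplex.ShortExact.map_of_exact (imCoker_shortExact (genMap a M)) (S.T n)
  have h1 : Function.Surjective (hmap ((S.T n).map (factorThruImage (genMap a M))) p) :=
    hmap_surjective_of_next_subsingleton hT₁ p (hn₁ n (le_trans (le_max_left _ _) hn))
  have h2 : Function.Surjective (hmap ((S.T n).map (image.ι (genMap a M))) p) :=
    hmap_surjective_of_right_subsingleton hT₂ p (hn₂ n (le_trans (le_max_right _ _) hn))
  have hfin := S.finite n M hM p
  suffices h : (⊤ : Submodule A (Coh.HH X ((S.T n).obj M) p)) = ⊥ by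
    exact (Submodule.subsingleton_iff A).mp (subsingleton_of_bot_eq_top h.symm)
  apply Submodule.eq_bot_of_le_smul_of_le_jacobson_bot I ⊤ hfin.fg_top _ hI
  intro x _
  obtain ⟨y, rfl⟩ := h2 x
  obtain ⟨z, rfl⟩ := h1 y
  rw [← hmap_comp, ← (S.T n).map_comp, image.fac, hmap_genMap a M p (S.T n) (S.smul n)]
  exact Submodule.sum_mem _ fun i _ => Submodule.smul_mem_smul (haM i) trivial

/-- Descending induction engine. -/
theorem engine {A : Type u} [CommRing A] [IsNoetherianRing A] (I : Ideal A)
    (hI : I ≤ Ideal.jacobson ⊥) {X : Scheme.{u}}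
    [X.Over (Spec (CommRingCat.of A))] (S : Setup A X) (e : ℕ)
    (hD : ∃ D : ℕ, ∀ p, D ≤ p → ∀ M, S.C M → S.Ev p M)
    (hm : ∀ M, S.C M → Formal.KilledBy I M → ∀ p, e < p → S.Ev p M)
    (M : X.Modules) (hM : S.C M) (p : ℕ) (hp : e < p) : S.Ev p M := by
  obtain ⟨D, hD⟩ := hD
  suffices h : ∀ k p : ℕ, e < p → D ≤ p + k → ∀ M, S.C M → S.Ev p M from
    h D p hp (by omega) M hM
  intro k
  induction k with
  | zero => intro p _ hDp M hM; exact hD p hDp M hM
  | succ k ih =>
    intro p hp hDp M hM
    exact step I hI S p (fun N hN => ih (p + 1) (by omega) (by omega) N hN)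
      (fun N hN hk => hm N hN hk p hp) M hM

end Groth.Agent.CohqB.LocBaseEngine
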