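import Groth.Agent.CohqB.ProjLift2
import Groth.Agent.Ega2.AmpleSec
import Groth.Agent.Flat2H.FamOpen

/-!
# Sections of large powers of an ample module giving a closed immersion in projective space
-/

set_option autoImplicit false
universe u
open CategoryTheory CategoryTheory.Limits AlgebraicGeometry TopologicalSpace Opposite

namespace Groth.Agent.CohqB.ProjLift

open CurvesC.ProjSpaceBasic CurvesC.ProjMap
open Groth.Agent.Fdesc.LocGen (isInvertible_iff res sec)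

variable {X : Scheme.{u}}

theorem exists_embedding_sections {A : Type u} [CommRing A] (f : X ⟶ Spec (CommRingCat.of A))
    [LocallyOfFiniteType f] {L : X.Modules} (hL : CohB1.IsAmple L) :
    ∃ n₀ : ℕ, ∀ d, n₀ ≤ d → ∃ (n : ℕ) (s : Fin (n + 1) → (Coh.structureModule X ⟶ CohB1.tensorPow L d))
      (I : Set (Fin (n + 1))), (⨆ i : I, CohB1.genLocus _ (s i) = ⊤) ∧
      (∀ i ∈ I, IsAffineOpen (CohB1.genLocus _ (s i))) ∧
      ∀ i ∈ I, Function.Surjective (locHom f (CohB1.tensorPow L d) s i) := by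
  classical
  have hinv := hL.1
  have hcpt : CompactSpace X := hL.2.1
  have hqs := Groth.Agent.Flat2H.FamOpen.quasiSeparatedSpace_of_isAmple hL
  have hV : IsAffineOpen (⊤ : (Spec (CommRingCat.of A)).Opens) := isAffineOpen_top _
  have h1 : ∀ x : X, ∃ (U : X.Opens) (C : Finset Γ(X, U)),
      x ∈ U ∧ IsAffineOpen U ∧ (∀ y : Γ(X, U), ∀ B : Subring Γ(X, U), (∀ r : A, struct f U r ∈ B) →
        (∀ c ∈ C, c ∈ B) → y ∈ B) ∧
      ∃ n₀ : ℕ, ∀ n, n₀ ≤ n → ∃ v : Coh.structureModule X ⟶ CohB1.tensorPow L n,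
      CohB1.genLocus _ v = U ∧ ∀ c ∈ C, ∃ w : Coh.structureModule X ⟶ CohB1.tensorPow L n,
        sec w U = c • sec v U := by
    intro x
    obtain ⟨W, e, hxW, he⟩ := (isInvertible_iff L).mp hinv x
    obtain ⟨d, t, hxt, htW, haff⟩ := Groth.Agent.Ega2.AmpleSec.exists_affine_genLocus_nhd hL W x hxW
    have hft := f.finiteType_appLE hV haff (le_top : CohB1.genLocus _ t ≤ f ⁻¹ᵁ ⊤)
    let := (f.appLE ⊤ _ (le_top : CohB1.genLocus _ t ≤ f ⁻¹ᵁ ⊤)).hom.toAlgebra
    obtain ⟨C, hC⟩ := hft.out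
    refine ⟨CohB1.genLocus _ t, C, hxt, haff, ?_, ?_⟩
    · intro y B hB hCB
      have hy : y ∈ Algebra.adjoin Γ(Spec (CommRingCat.of A), ⊤) (C : Set Γ(X, CohB1.genLocus _ t)) :=
        hC ▸ Algebra.mem_top
      induction hy using Algebra.adjoin_induction with
      | mem c hc => exact hCB c hc
      | algebraMap r =>
        obtain ⟨a, rfl⟩ := (ConcreteCategory.bijective_of_isIso
          (Scheme.ΓSpecIso (CommRingCat.of A)).inv).2 r
        exact hB a
      | add a b _ _ ha hb => exact B.add_mem ha hb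
      | mul a b _ _ ha hb => exact B.mul_mem ha hb
    · exact Groth.Agent.Ega2.AmpleSec.exists_sections hinv (Nat.succ_pos d) t (res L htW e)
        (he.res htW) C C.finite_toSet
  choose U C hxU hU hC n₀ hn₀ using h1
  obtain ⟨t, ht⟩ := isCompact_univ.elim_finite_subcover (fun x : X ↦ (U x : Set X)) (fun x ↦ (U x).2)
    (fun x _ ↦ Set.mem_iUnion.mpr ⟨x, hxU x⟩)
  refine ⟨t.sup n₀, fun d hd => ?_⟩
  choose v hv w hw using fun y : t ↦ hn₀ y.1 d ((Finset.le_sup (f := n₀) y.2).trans hd)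
  let J := Option (Σ y : t, Option (C y.1))
  let σ : J → (Coh.structureModule X ⟶ CohB1.tensorPow L d) := fun z ↦
    match z with
    | none => 0
    | some ⟨y, none⟩ => v y
    | some ⟨y, some c⟩ => w y c.1 c.2
  obtain ⟨N, ⟨e⟩⟩ := Finite.exists_equiv_fin J
  have hN : N ≠ 0 := by
    rintro rfl
    exact (e none).elim0
  obtain ⟨n, rfl⟩ := Nat.exists_eq_succ_of_ne_zero hN
  let s : Fin (n + 1) → (Coh.structureModule X ⟶ CohB1.tensorPow L d) := fun l ↦ σ (e.symm l)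
  let j : t → Fin (n + 1) := fun y ↦ e (some ⟨y, none⟩)
  have hsj : ∀ y, s (j y) = v y := fun y ↦ by simp only [s, j, Equiv.symm_apply_apply, σ]
  have hl : ∀ y, CohB1.genLocus _ (s (j y)) = U y.1 := fun y ↦ by rw [hsj, hv]
  refine ⟨n, s, Set.range j, ?_, ?_, ?_⟩
  · rw [eq_top_iff]
    intro x _
    obtain ⟨y, hy, hxy⟩ := Set.mem_iUnion₂.mp (ht (Set.mem_univ x))
    refine Opens.mem_iSup.2 ⟨⟨j ⟨y, hy⟩, ⟨y, hy⟩, rfl⟩, ?_⟩
    rw [hl]
    exact hxy
  · rintro _ ⟨y, rfl⟩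
    rw [hl]
    exact hU y.1
  · rintro _ ⟨y, rfl⟩ z
    have key : ∀ T : X.Opens, T = U y.1 → ∀ z : Γ(X, T), ∀ B : Subring Γ(X, T), (∀ r : A, struct f T r ∈ B) →
        (∀ c : Γ(X, T), (∃ l, sec (s l) T = c • sec (s (j y)) T) → c ∈ B) → z ∈ B := by
      rintro T rfl z B hB hCB
      refine hC y.1 z B hB fun c hc => hCB c ⟨e (some ⟨y, some ⟨c, hc⟩⟩), ?_⟩
      rw [hsj]
      simp only [s, Equiv.symm_apply_apply, σ]
      exact hw y c hc
    refine key _ (hl y) z (locHom f (CohB1.tensorPow L d) s (j y)).range (fun r => ?_) ?_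
    · exact ⟨MvPolynomial.C r, locHom_C f _ s (j y) r⟩
    · rintro c ⟨l, hc⟩
      refine ⟨MvPolynomial.X l, ?_⟩
      rw [locHom_X]
      exact rat_eq _ s hc.symm

end Groth.Agent.CohqB.ProjLift
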