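import Groth.Agent.CurvesC.ProjClosed
import Groth.Agent.Fdesc.LocGenPullback

/-!
# Morphisms to projective space: uniqueness and lifting

* `isMapOf_of`: a morphism `φ` to `P^n_R` with the right structure morphism, preimages of the standard opens and
  ratios of coordinates is the morphism given by the sections.
-/

set_option autoImplicit false
universe u
open CategoryTheory CategoryTheory.Limits AlgebraicGeometry TopologicalSpace Opposite

namespace Groth.Agent.CohqB.ProjLift

open CurvesC.Gen CurvesC.ProjSpaceBasic CurvesC.ToProj CurvesC.PullIso CurvesC.ProjMap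
open HomogeneousLocalization

section Basic

variable (n : ℕ) (R : Type u) [CommRing R]

/-- `R → R[X_0, …, X_n]_{(X_i)}`. -/
noncomputable def cst (i : Fin (n + 1)) : R →+* Away (CohB1.polyGrading n R) (MvPolynomial.X i) :=
  (HomogeneousLocalization.fromZeroRingHom (CohB1.polyGrading n R)
    (Submonoid.powers (MvPolynomial.X i))).comp (algebraMap R (CohB1.polyGrading n R 0))

/-- The fraction `X_j / X_i`. -/
noncomputable def fr (i j : Fin (n + 1)) : Away (CohB1.polyGrading n R) (MvPolynomial.X i) :=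
  HomogeneousLocalization.Away.mk _ (X_mem n R i) 1 (MvPolynomial.X j) (by rw [one_smul]; exact X_mem n R j)

theorem mk_eq_eval₂ (i : Fin (n + 1)) (m : ℕ) (a : MvPolynomial (Fin (n + 1)) R)
    (ha : a ∈ CohB1.polyGrading n R (m • 1)) :
    Away.mk (CohB1.polyGrading n R) (X_mem n R i) m a ha = MvPolynomial.eval₂ (cst n R i) (fr n R i) a := by
  apply HomogeneousLocalization.val_injective
  let x : MvPolynomial (Fin (n + 1)) R := MvPolynomial.X i
  let A := Localization.Away x
  let F : Away (CohB1.polyGrading n R) x →+* A := algebraMap _ _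
  have hF : ∀ z, F z = z.val := fun z => HomogeneousLocalization.algebraMap_apply z
  rw [← hF (MvPolynomial.eval₂ (cst n R i) (fr n R i) a), MvPolynomial.hom_eval₂, Away.val_mk]
  have hcst : F.comp (cst n R i) = (algebraMap (MvPolynomial (Fin (n + 1)) R) A).comp MvPolynomial.C := by
    ext r
    rw [RingHom.comp_apply, hF]
    change (HomogeneousLocalization.mk _).val = _
    rw [HomogeneousLocalization.val_mk]
    exact Localization.mk_one_eq_algebraMap _
  let v : A := IsLocalization.mk' A 1 (⟨x, 1, pow_one x⟩ : Submonoid.powers x)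
  have hfr : (fun j => F (fr n R i j)) =
      fun j => v * (algebraMap (MvPolynomial (Fin (n + 1)) R) A (MvPolynomial.X j)) := by
    funext j
    rw [hF, fr, Away.val_mk, Localization.mk_eq_mk', mul_comm]
    rw [← IsLocalization.mk'_one (M := Submonoid.powers x) A (MvPolynomial.X j), ← IsLocalization.mk'_mul, mul_one, one_mul]
    congr 1
    exact Subtype.ext (pow_one x)
  have hm : (a : MvPolynomial (Fin (n + 1)) R).IsHomogeneous m := by
    have h2 := (MvPolynomial.mem_homogeneousSubmodule _ _).1 ha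
    rwa [smul_eq_mul, mul_one] at h2
  rw [hcst, hfr, eval₂_smul _ _ _ hm]
  have h3 : MvPolynomial.eval₂ ((algebraMap (MvPolynomial (Fin (n + 1)) R) A).comp MvPolynomial.C)
      (fun j => algebraMap (MvPolynomial (Fin (n + 1)) R) A (MvPolynomial.X j)) a = algebraMap _ A a := by
    have := MvPolynomial.hom_eval₂ a MvPolynomial.C (algebraMap (MvPolynomial (Fin (n + 1)) R) A) MvPolynomial.X
    rw [MvPolynomial.eval₂_eta] at this
    exact this.symm
  rw [h3, Localization.mk_eq_mk']
  rw [IsLocalization.mk'_eq_iff_eq_mul]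
  have hv : v * algebraMap _ A x = 1 := by
    have := IsLocalization.mk'_spec A (1 : MvPolynomial (Fin (n + 1)) R) (⟨x, 1, pow_one x⟩ : Submonoid.powers x)
    rwa [map_one] at this
  change _ = v ^ m * _ * algebraMap _ A (x ^ m)
  rw [map_pow, mul_right_comm, ← mul_pow, hv, one_pow, one_mul]

/-- `D₊(X_i) → P^n` through `Spec` of the degree zero localization. -/
theorem basicOpen_ι (i : Fin (n + 1)) : (Proj.basicOpen (CohB1.polyGrading n R) (MvPolynomial.X i)).ι =
    (Proj.basicOpen (CohB1.polyGrading n R) (MvPolynomial.X i)).toSpecΓ ≫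
      Spec.map (Proj.awayToSection (CohB1.polyGrading n R) (MvPolynomial.X i)) ≫
      Proj.awayι (CohB1.polyGrading n R) (MvPolynomial.X i) (X_mem n R i) one_pos := by
  have h1 := Proj.basicOpenIsoSpec_inv_ι (CohB1.polyGrading n R) (MvPolynomial.X i) (X_mem n R i) one_pos
  rw [← h1]
  have h2 := Proj.basicOpenIsoSpec_hom (CohB1.polyGrading n R) (MvPolynomial.X i) (X_mem n R i) one_pos
  have h3 : (Proj.basicOpen (CohB1.polyGrading n R) (MvPolynomial.X i)).toSpecΓ ≫
      Spec.map (Proj.awayToSection (CohB1.polyGrading n R) (MvPolynomial.X i)) =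
    (Proj.basicOpenIsoSpec (CohB1.polyGrading n R) (MvPolynomial.X i) (X_mem n R i) one_pos).hom := h2.symm
  rw [← Category.assoc, h3, Iso.hom_inv_id_assoc]

theorem struct_eq' (i : Fin (n + 1)) : CommRingCat.ofHom (struct (X := Proj (CohB1.polyGrading n R))
      (CohB1.ProjSpace.toSpec n R) (Proj.basicOpen (CohB1.polyGrading n R) (MvPolynomial.X i))) =
    CommRingCat.ofHom (cst n R i) ≫ Proj.awayToSection (CohB1.polyGrading n R) (MvPolynomial.X i) := by
  refine specMap_injective (X := Proj (CohB1.polyGrading n R))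
    (U := Proj.basicOpen (CohB1.polyGrading n R) (MvPolynomial.X i)) (R := CommRingCat.of R) ?_
  have h := ι_comp_eq (X := Proj (CohB1.polyGrading n R)) (CohB1.ProjSpace.toSpec n R)
    (Proj.basicOpen (CohB1.polyGrading n R) (MvPolynomial.X i))
  refine h.symm.trans ?_
  rw [basicOpen_ι, Spec.map_comp]
  have h2 : CohB1.ProjSpace.toSpec n R = Proj.toSpecZero (CohB1.polyGrading n R) ≫
    Spec.map (CommRingCat.ofHom (algebraMap R (CohB1.polyGrading n R 0))) := rfl
  rw [h2]
  simp only [Category.assoc]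
  have h3 := Proj.awayι_toSpecZero (CohB1.polyGrading n R) (MvPolynomial.X i) (X_mem n R i) one_pos
  rw [reassoc_of% h3, ← Spec.map_comp]
  rfl

theorem struct_apply (i : Fin (n + 1)) (r : R) : struct (CohB1.ProjSpace.toSpec n R) (Dp n R i) r =
    (Proj.awayToSection (CohB1.polyGrading n R) (MvPolynomial.X i)).hom (cst n R i r) :=
  congr($(struct_eq' n R i).hom r)

theorem awayToSection_mk (i : Fin (n + 1)) (m : ℕ) (a : MvPolynomial (Fin (n + 1)) R)
    (ha : a ∈ CohB1.polyGrading n R (m • 1)) :
    (show Γ(CohB1.ProjSpace n R, Dp n R i) from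
      (Proj.awayToSection (CohB1.polyGrading n R) (MvPolynomial.X i)).hom
        (Away.mk (CohB1.polyGrading n R) (X_mem n R i) m a ha)) =
    MvPolynomial.eval₂ (struct (CohB1.ProjSpace.toSpec n R) (Dp n R i)) (ratio n R i) a := by
  rw [mk_eq_eval₂]
  refine (MvPolynomial.hom_eval₂ a (cst n R i)
    (Proj.awayToSection (CohB1.polyGrading n R) (MvPolynomial.X i)).hom (fr n R i)).trans ?_
  have h1 : (Proj.awayToSection (CohB1.polyGrading n R) (MvPolynomial.X i)).hom.comp (cst n R i) =
      struct (CohB1.ProjSpace.toSpec n R) (Dp n R i) := by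
    ext r
    exact (struct_apply n R i r).symm
  exact congrArg (fun c => MvPolynomial.eval₂ c (ratio n R i) a) h1

end Basic

variable {n : ℕ} {R : Type u} [CommRing R] {X : Scheme.{u}} {g : X ⟶ Spec (CommRingCat.of R)}
  {L : X.Modules} {s : Fin (n + 1) → (Coh.structureModule X ⟶ L)} {φ : X ⟶ CohB1.ProjSpace n R}

theorem appLE_eq {V : (CohB1.ProjSpace n R).Opens} {U : X.Opens} (h : U ≤ φ ⁻¹ᵁ V)
    (a : Γ(CohB1.ProjSpace n R, V)) : φ.appLE V U h a = X.presheaf.map (homOfLE h).op (φ.app V a) := rfl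

/-- Rigid description of the morphism given by sections, from ratios. -/
theorem isMapOf_of (hg : φ ≫ CohB1.ProjSpace.toSpec n R = g)
    (hpre : ∀ i, CohB1.genLocus L (s i) ≤ φ ⁻¹ᵁ Dp n R i)
    (hr : ∀ i j, X.presheaf.map (homOfLE (hpre i)).op (φ.app (Dp n R i) (ratio n R i j)) •
      sec (s i) (CohB1.genLocus L (s i)) = sec (s j) (CohB1.genLocus L (s i))) : IsMapOf g L s φ := by
  intro i
  have key : CommRingCat.ofHom (awayLift (CohB1.polyGrading n R) (locHom g L s i) (isUnit_locHom g L s i)) =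
      Proj.awayToSection (CohB1.polyGrading n R) (MvPolynomial.X i) ≫
        φ.appLE (Dp n R i) (CohB1.genLocus L (s i)) (hpre i) := by
    ext z
    obtain ⟨m, a, ha, rfl⟩ := Away.mk_surjective (CohB1.polyGrading n R) (X_mem n R i) z
    refine awayLift_mk_eq _ _ _ (X_mem n R i) m a ha ?_
    rw [locHom_X, rat_self, one_pow, one_mul]
    refine (congrArg (fun w : Γ(CohB1.ProjSpace n R, Dp n R i) =>
      φ.appLE (Dp n R i) (CohB1.genLocus L (s i)) (hpre i) w) (awayToSection_mk n R i m a ha)).trans ?_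
    refine (MvPolynomial.hom_eval₂ a _ (φ.appLE (Dp n R i) (CohB1.genLocus L (s i)) (hpre i)).hom _).trans ?_
    rw [locHom, MvPolynomial.coe_eval₂Hom]
    congr 1
    · ext r
      change φ.appLE (Dp n R i) (CohB1.genLocus L (s i)) (hpre i)
        (struct (CohB1.ProjSpace.toSpec n R) (Dp n R i) r) = _
      rw [appLE_eq, CurvesC.ProjClosed.app_struct, map_struct, hg]
    · funext j
      exact (rat_eq L s (hr i j)).symm
  rw [toProj, key, Spec.map_comp]
  have h1 : φ.resLE (Dp n R i) (CohB1.genLocus L (s i)) (hpre i) ≫ (Dp n R i).ι =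
      (CohB1.genLocus L (s i)).ι ≫ φ := Scheme.Hom.resLE_comp_ι _ _
  have h2 : (CohB1.genLocus L (s i)).toSpecΓ ≫
      Spec.map (φ.appLE (Dp n R i) (CohB1.genLocus L (s i)) (hpre i)) =
      φ.resLE (Dp n R i) (CohB1.genLocus L (s i)) (hpre i) ≫ (Dp n R i).toSpecΓ :=
    Scheme.Opens.toSpecΓ_SpecMap_appLE ..
  have h3 : (Dp n R i).ι = (Dp n R i).toSpecΓ ≫
      (Spec.map (Proj.awayToSection (CohB1.polyGrading n R) (MvPolynomial.X i)) ≫
      Proj.awayι (CohB1.polyGrading n R) (MvPolynomial.X i) (X_mem n R i) one_pos) := basicOpen_ι n R i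
  refine h1.symm.trans ?_
  refine (congrArg (fun t => φ.resLE (Dp n R i) (CohB1.genLocus L (s i)) (hpre i) ≫ t) h3).trans ?_
  refine (Category.assoc _ _ _).symm.trans ?_
  refine (congrArg (fun t => t ≫ (Spec.map (Proj.awayToSection (CohB1.polyGrading n R) (MvPolynomial.X i)) ≫
      Proj.awayι (CohB1.polyGrading n R) (MvPolynomial.X i) (X_mem n R i) one_pos)) h2.symm).trans ?_
  exact (Category.assoc _ _ _).trans (congrArg _ (Category.assoc _ _ _).symm)

/-- Uniqueness of the morphism given by sections. -/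
theorem IsMapOf.unique {φ φ' : X ⟶ CohB1.ProjSpace n R} (hs : ⨆ i, CohB1.genLocus L (s i) = ⊤)
    (h : IsMapOf g L s φ) (h' : IsMapOf g L s φ') : φ = φ' := by
  let 𝒰 := X.openCoverOfIsOpenCover (fun i => CohB1.genLocus L (s i)) hs
  apply 𝒰.hom_ext
  intro i
  exact (h i).trans (h' i).symm

end Groth.Agent.CohqB.ProjLift
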