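import Groth.Agent.CohqB.ProjLift
import Groth.Agent.Ega1.AmpFam

/-!
# Lifting morphisms to projective space along a tower of schemes

* `isMapOf_pull`: pulling back the morphism given by sections.
* `exists_lift`: one step.
* `exists_tower`: a morphism `h : Xs 0 ⟶ P^r_A` with `h^* O(1) ≅ N 0` extends to compatible morphisms
  `Xs n ⟶ P^r_A` if all global sections of the pullback of `N (n+1)` to `Xs n` lift.
-/

set_option autoImplicit false
universe u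
open CategoryTheory CategoryTheory.Limits AlgebraicGeometry TopologicalSpace Opposite

namespace Groth.Agent.CohqB.ProjLift

open CurvesC.ProjSpaceBasic CurvesC.ProjMap
open Fdesc.LocGen (pullHom pullSec sec_pullHom pullSec_smul pullTop homOf)

section Pull

variable {n : ℕ} {R : Type u} [CommRing R] {X X' : Scheme.{u}}

theorem genLocus_comp_iso {L L' : X.Modules} (e : L ≅ L') (s : Coh.structureModule X ⟶ L) :
    CohB1.genLocus L' (s ≫ e.hom) = CohB1.genLocus L s := by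
  unfold CohB1.genLocus
  congr 1
  ext U
  simp only [Set.mem_ofPred_eq, Functor.map_comp]
  exact ⟨fun h => IsIso.of_isIso_comp_right _ ((Scheme.Modules.restrictFunctor U.ι).map e.hom),
    fun h => inferInstance⟩

theorem isMapOf_pull (i : X ⟶ X') {g' : X' ⟶ Spec (CommRingCat.of R)} {N' : X'.Modules}
    (hN' : PicF.IsInvertible N') {t' : Fin (n + 1) → (Coh.structureModule X' ⟶ N')}
    {φ' : X' ⟶ CohB1.ProjSpace n R} (hs : ⨆ j, CohB1.genLocus N' (t' j) = ⊤) (h : IsMapOf g' N' t' φ')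
    {N : X.Modules} (ψ : (Scheme.Modules.pullback i).obj N' ≅ N) :
    IsMapOf (i ≫ g') N (fun j => pullHom i (t' j) ≫ ψ.hom) (i ≫ φ') := by
  have hpre : ∀ j, CohB1.genLocus N (pullHom i (t' j) ≫ ψ.hom) = (i ≫ φ') ⁻¹ᵁ Dp n R j := by
    intro j
    rw [genLocus_comp_iso, Ega1.AmpFam.genLocus_pullHom i hN', ← h.preimage_Dp hs j]
    rfl
  refine isMapOf_of (by rw [Category.assoc, h.comp_toSpec hs]) (fun j => (hpre j).le) ?_
  intro k j
  have h1 := app_ratio_smul h hs k j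
  have h2 : i.app (φ' ⁻¹ᵁ Dp n R k) (φ'.app (Dp n R k) (ratio n R k j)) •
      CurvesC.Gen.sec (pullHom i (t' k) ≫ ψ.hom) (i ⁻¹ᵁ (φ' ⁻¹ᵁ Dp n R k)) =
      CurvesC.Gen.sec (pullHom i (t' j) ≫ ψ.hom) (i ⁻¹ᵁ (φ' ⁻¹ᵁ Dp n R k)) := by
    have e : ∀ l, CurvesC.Gen.sec (pullHom i (t' l) ≫ ψ.hom) (i ⁻¹ᵁ (φ' ⁻¹ᵁ Dp n R k)) =
        ψ.hom.app (i ⁻¹ᵁ (φ' ⁻¹ᵁ Dp n R k)) (pullSec i (Fdesc.LocGen.sec (t' l) (φ' ⁻¹ᵁ Dp n R k))) := by
      intro l
      rw [← sec_pullHom]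
      rfl
    rw [e, e, ← Scheme.Modules.Hom.app_smul, ← pullSec_smul]
    exact congrArg (fun m => ψ.hom.app (i ⁻¹ᵁ (φ' ⁻¹ᵁ Dp n R k)) (pullSec i m)) h1
  have hle : CohB1.genLocus N (pullHom i (t' k) ≫ ψ.hom) ≤ i ⁻¹ᵁ (φ' ⁻¹ᵁ Dp n R k) := (hpre k).le
  have h3 := congrArg (N.presheaf.map (homOfLE hle).op) h2
  rw [CurvesC.Gen.map_smul_section, CurvesC.Gen.map_sec, CurvesC.Gen.map_sec] at h3
  exact h3

/-- Lifting generating sections along a surjective morphism. -/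
theorem exists_lift_sections (i : X ⟶ X') [Surjective i] {N' : X'.Modules} (hN' : PicF.IsInvertible N')
    {N : X.Modules} (ψ : (Scheme.Modules.pullback i).obj N' ≅ N)
    (hl : Function.Surjective (((Scheme.Modules.pullbackPushforwardAdjunction i).unit.app N').app ⊤))
    (s : Fin (n + 1) → (Coh.structureModule X ⟶ N)) (hs : ⨆ j, CohB1.genLocus N (s j) = ⊤) :
    ∃ t : Fin (n + 1) → (Coh.structureModule X' ⟶ N'), ⨆ j, CohB1.genLocus N' (t j) = ⊤ ∧
      ∀ j, pullHom i (t j) ≫ ψ.hom = s j := by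
  have h1 : ∀ j, ∃ t : Coh.structureModule X' ⟶ N', pullHom i t ≫ ψ.hom = s j := by
    intro j
    obtain ⟨m, hm⟩ := hl (Fdesc.LocGen.sec (s j ≫ ψ.inv) ⊤)
    refine ⟨homOf m, ?_⟩
    rw [← Iso.eq_comp_inv]
    apply Fdesc.LocGen.hom_ext_sec
    have h2 := sec_pullHom i (homOf m) ⊤
    rw [Fdesc.LocGen.sec_homOf, Fdesc.LocGen.res_refl] at h2
    exact h2.trans hm
  choose t ht using h1
  refine ⟨t, ?_, ht⟩
  have h3 : ∀ j, CohB1.genLocus N (s j) = i ⁻¹ᵁ CohB1.genLocus N' (t j) := fun j => by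
    rw [← ht j, genLocus_comp_iso, Ega1.AmpFam.genLocus_pullHom i hN']
  rw [eq_top_iff]
  intro x _
  obtain ⟨y, rfl⟩ := i.surjective x
  have hy : y ∈ ⨆ j, CohB1.genLocus N (s j) := hs ▸ trivial
  obtain ⟨j, hj⟩ := Opens.mem_iSup.mp hy
  rw [h3] at hj
  exact Opens.mem_iSup.mpr ⟨j, hj⟩

end Pull

/-- Morphisms to `P^r_A` from a tower of schemes with invertible modules whose sections lift. -/
theorem exists_tower {A : Type u} [CommRing A] (Xs : ℕ → Scheme.{u}) (i : ∀ n, Xs n ⟶ Xs (n + 1))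
    (g : ∀ n, Xs n ⟶ Spec (CommRingCat.of A)) (hg : ∀ n, i n ≫ g (n + 1) = g n)
    (hi : ∀ n, Surjective (i n)) (N : ∀ n, (Xs n).Modules) (hN : ∀ n, PicF.IsInvertible (N n))
    (ψ : ∀ n, (Scheme.Modules.pullback (i n)).obj (N (n + 1)) ≅ N n)
    (hl : ∀ n, Function.Surjective
      (((Scheme.Modules.pullbackPushforwardAdjunction (i n)).unit.app (N (n + 1))).app ⊤))
    {r : ℕ} (s : Fin (r + 1) → (Coh.structureModule (Xs 0) ⟶ N 0))
    (hs : ⨆ j, CohB1.genLocus (N 0) (s j) = ⊤) :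
    ∃ h : ∀ n, Xs n ⟶ CohB1.ProjSpace r A, (∀ n, h n ≫ CohB1.ProjSpace.toSpec r A = g n) ∧
      (∀ n, i n ≫ h (n + 1) = h n) ∧
      (∀ n, Nonempty ((Scheme.Modules.pullback (h n)).obj (Twist.twistProjSpace r A 1) ≅ N n)) ∧
      IsMapOf (g 0) (N 0) s (h 0) := by
  let S : ℕ → Type _ := fun n => {s : Fin (r + 1) → (Coh.structureModule (Xs n) ⟶ N n) //
    ⨆ j, CohB1.genLocus (N n) (s j) = ⊤}
  have step : ∀ n (s : S n), ∃ t : S (n + 1), ∀ j, pullHom (i n) (t.1 j) ≫ (ψ n).hom = s.1 j := by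
    intro n s
    have := hi n
    obtain ⟨t, ht, h⟩ := exists_lift_sections (i n) (hN (n + 1)) (ψ n) (hl n) s.1 s.2
    exact ⟨⟨t, ht⟩, h⟩
  choose f hf using step
  let σ : ∀ n, S n := fun n => Nat.rec (motive := S) ⟨s, hs⟩ (fun n s => f n s) n
  have hσ : ∀ n j, pullHom (i n) ((σ (n + 1)).1 j) ≫ (ψ n).hom = (σ n).1 j := fun n => hf n (σ n)
  choose h hmap using fun n => exists_isMapOf (g n) (N n) (σ n).1 (σ n).2
  refine ⟨h, fun n => (hmap n).comp_toSpec (σ n).2, fun n => ?_, fun n => ?_, hmap 0⟩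
  · have h1 := isMapOf_pull (i n) (hN (n + 1)) (σ (n + 1)).2 (hmap (n + 1)) (ψ n)
    have h2 : (fun j => pullHom (i n) ((σ (n + 1)).1 j) ≫ (ψ n).hom) = (σ n).1 := funext (hσ n)
    rw [h2, hg n] at h1
    exact IsMapOf.unique (σ n).2 h1 (hmap n)
  · obtain ⟨e, -⟩ := ((hmap n).data (σ n).2).exists_iso
    exact ⟨e⟩

end Groth.Agent.CohqB.ProjLift
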