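import Groth.Agent.Ega3B.PullTensor
import Groth.Agent.VarietyB.ProjForm
import Groth.Agent.VarietyB.TensStalk
import Groth.Agent.Fdesc.PullbackStalk
import Groth.Agent.Ega2.QCohLocal

/-!
# Pullback commutes with tensoring by a module with local bases

`isIso_delta_left`: `f^*(E ⊗ F) ⟶ f^*E ⊗ f^*F` is an isomorphism for `E` with local bases and any
`F`.  `nonempty_pull_twist`: `f^*(M ⊗ L^n) ≅ f^*M ⊗ (f^*L)^n` for `L` invertible.
-/

set_option autoImplicit false
universe u

open CategoryTheory CategoryTheory.Limits AlgebraicGeometry Opposite TopologicalSpace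
open AlgebraicGeometry.Scheme.Modules
open Groth.Agent.VarietyB.TensLoc Groth.Agent.VarietyB.ExactLoc Groth.Agent.VarietyB.TensCoh
open Groth.Agent.VarietyB.PullLoc Groth.Agent.CycB.StalkExact Groth.Agent.VarietyB.TensStalk
open Groth.Agent.VarietyB.ProjForm
open Groth.Agent.Fdesc.LocGen (pullSec pullSec_smul res_pullSec pullSec_add)

namespace Groth.Agent.CohqB.PullTwist471

variable {X Y : Scheme.{u}}

section Stalk

open Groth.Agent.Fdesc.PullbackStalk

variable (f : X ⟶ Y) {E : Y.Modules} (F : Y.Modules)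

theorem delta_tcomb {U : Y.Opens} {n : ℕ} (e : Fin n → Γ(E, U)) {V : Y.Opens} (h : V ≤ U)
    (g : Fin n → Γ(F, V)) :
    (Groth.Agent.Ega3B.PullTensor.delta f E F).app (f ⁻¹ᵁ V) (pullSec f (tcomb e F h g)) =
      tcomb (fun i => pullSec f (e i)) ((Scheme.Modules.pullback f).obj F) (f.preimage_mono h)
        (fun i => pullSec f (g i)) := by
  rw [tcomb_apply, tcomb_apply]
  let T : Γ(CohB1.tensorMod E F, V) →+ Γ(CohB1.tensorMod ((Scheme.Modules.pullback f).obj E)
      ((Scheme.Modules.pullback f).obj F), f ⁻¹ᵁ V) :=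
    { toFun := fun t => (Groth.Agent.Ega3B.PullTensor.delta f E F).app (f ⁻¹ᵁ V) (pullSec f t)
      map_zero' := by
        rw [show pullSec f (0 : Γ(CohB1.tensorMod E F, V)) = 0 from
          map_zero (((Scheme.Modules.pullbackPushforwardAdjunction f).unit.app _).app V).hom]
        exact map_zero _
      map_add' := fun a b => by rw [pullSec_add]; exact map_add _ _ _ }
  refine (map_sum T _ _).trans (Finset.sum_congr rfl fun i _ => ?_)
  refine (Groth.Agent.Ega3B.PullTensor.delta_pullSec f E F (res E h (e i)) (g i)).trans ?_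
  exact congrArg (fun a => tmul a (pullSec f (g i))) (res_pullSec f h (e i)).symm

variable {F} {U : Y.Opens} {n : ℕ} {e : Fin n → Γ(E, U)} (he : IsBasis E U e) {x : X}
  (hx : f.base x ∈ U)

/-- Coordinates on the stalk of `f^*(E ⊗ F)`. -/
noncomputable def rho (F : Y.Modules) :
    ((Scheme.Modules.pullback f).obj (CohB1.tensorMod E F)).presheaf.stalk x
      →ₗ[X.presheaf.stalk x] (Fin n → ((Scheme.Modules.pullback f).obj F).presheaf.stalk x) :=
  LinearMap.pi fun i => lift f ((canAdd f F x).comp
    ((LinearMap.proj i).comp (stalkEquiv he F hx).toLinearMap).toAddMonoidHom) (fun r t => by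
      change canAdd f F x (((LinearMap.proj i).comp (stalkEquiv he F hx).toLinearMap) (r • t)) = _
      rw [LinearMap.map_smul, canAdd_smul]
      rfl)

theorem rho_canAdd (F : Y.Modules) (t : (CohB1.tensorMod E F).presheaf.stalk (f.base x)) (i : Fin n) :
    rho f he hx F (canAdd f _ x t) i = canAdd f F x (stalkEquiv he F hx t i) :=
  lift_canAdd f _ _ t

/-- The inverse of `rho`. -/
noncomputable def sig (F : Y.Modules) :
    (Fin n → ((Scheme.Modules.pullback f).obj F).presheaf.stalk x) →ₗ[X.presheaf.stalk x]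
      ((Scheme.Modules.pullback f).obj (CohB1.tensorMod E F)).presheaf.stalk x :=
  ∑ i, (lift f ((canAdd f (CohB1.tensorMod E F) x).comp
    ((stalkEquiv he F hx).symm.toLinearMap.comp (LinearMap.single _ _ i)).toAddMonoidHom)
      (fun r t => by
        change canAdd f _ x (((stalkEquiv he F hx).symm.toLinearMap.comp
          (LinearMap.single _ _ i)) (r • t)) = _
        rw [LinearMap.map_smul, canAdd_smul]
        rfl)).comp (LinearMap.proj i)

theorem sig_canAdd (F : Y.Modules) (t : Fin n → F.presheaf.stalk (f.base x)) :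
    sig f he hx F (fun i => canAdd f F x (t i)) = canAdd f _ x ((stalkEquiv he F hx).symm t) := by
  rw [sig, LinearMap.sum_apply]
  have h1 : ∀ i, (lift f ((canAdd f (CohB1.tensorMod E F) x).comp
    ((stalkEquiv he F hx).symm.toLinearMap.comp (LinearMap.single _ _ i)).toAddMonoidHom)
      (fun r t => by
        change canAdd f _ x (((stalkEquiv he F hx).symm.toLinearMap.comp
          (LinearMap.single _ _ i)) (r • t)) = _
        rw [LinearMap.map_smul, canAdd_smul]
        rfl)) (canAdd f F x (t i)) =
      canAdd f _ x ((stalkEquiv he F hx).symm (Pi.single i (t i))) := fun i => lift_canAdd f _ _ _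
  refine (Finset.sum_congr rfl fun i _ => h1 i).trans ?_
  rw [← map_sum, ← map_sum, Finset.univ_sum_single]

theorem sig_rho (F : Y.Modules) : (sig f he hx F).comp (rho f he hx F) = LinearMap.id := by
  refine lift_unique f _ _ fun t => ?_
  have h1 : rho f he hx F (canAdd f _ x t) = fun i => canAdd f F x (stalkEquiv he F hx t i) := by
    funext i
    exact rho_canAdd f he hx F t i
  rw [LinearMap.comp_apply, h1, sig_canAdd, LinearEquiv.symm_apply_apply]
  rfl

theorem rho_sig (F : Y.Modules) : (rho f he hx F).comp (sig f he hx F) = LinearMap.id := by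
  classical
  refine LinearMap.pi_ext' fun i => ?_
  refine lift_unique f _ _ fun t => ?_
  have h1 : (LinearMap.single (X.presheaf.stalk x)
      (fun _ : Fin n => ((Scheme.Modules.pullback f).obj F).presheaf.stalk x) i) (canAdd f F x t) =
      fun j => canAdd f F x (Pi.single (M := fun _ => F.presheaf.stalk (f.base x)) i t j) := by
    funext j
    by_cases hj : j = i
    · subst hj
      simp
    · simp [Pi.single_eq_of_ne hj]
  rw [LinearMap.comp_apply, LinearMap.comp_apply, LinearMap.comp_apply, h1, sig_canAdd]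
  funext j
  rw [rho_canAdd, LinearEquiv.apply_symm_apply]
  rfl

theorem rho_bijective (F : Y.Modules) : Function.Bijective (rho f he hx F) :=
  ⟨Function.LeftInverse.injective (g := sig f he hx F)
      (fun t => LinearMap.congr_fun (sig_rho f he hx F) t),
    Function.RightInverse.surjective (g := sig f he hx F)
      (fun t => LinearMap.congr_fun (rho_sig f he hx F) t)⟩

theorem stalkEquiv_comp_delta (F : Y.Modules) :
    (stalkEquiv (isBasis_pullSec f he) ((Scheme.Modules.pullback f).obj F)
      (x := x) hx).toLinearMap.comp (stalkLin (Groth.Agent.Ega3B.PullTensor.delta f E F) x) =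
      rho f he hx F := by
  refine lift_unique f _ _ fun t => ?_
  obtain ⟨V, hxV, h, g, rfl⟩ := exists_rep he F hx t
  rw [LinearMap.comp_apply]
  have h1 : canAdd f (CohB1.tensorMod E F) x
      ((CohB1.tensorMod E F).presheaf.germ V (f.base x) hxV (tcomb e F h g)) =
      ((Scheme.Modules.pullback f).obj (CohB1.tensorMod E F)).presheaf.germ (f ⁻¹ᵁ V) x hxV
        (pullSec f (tcomb e F h g)) := canAdd_germ f _ x V hxV _
  have h2 : stalkLin (Groth.Agent.Ega3B.PullTensor.delta f E F) x
      (((Scheme.Modules.pullback f).obj (CohB1.tensorMod E F)).presheaf.germ (f ⁻¹ᵁ V) x hxV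
        (pullSec f (tcomb e F h g))) =
      (CohB1.tensorMod ((Scheme.Modules.pullback f).obj E)
        ((Scheme.Modules.pullback f).obj F)).presheaf.germ (f ⁻¹ᵁ V) x hxV
        (tcomb (fun i => pullSec f (e i)) ((Scheme.Modules.pullback f).obj F)
          (f.preimage_mono h) (fun i => pullSec f (g i))) := by
    rw [stalkLin_germ, delta_tcomb]
  rw [h1, h2]
  refine (stalkEquiv_germ (isBasis_pullSec f he) ((Scheme.Modules.pullback f).obj F)
    (x := x) hx (V := f ⁻¹ᵁ V) hxV (f.preimage_mono h) (fun i => pullSec f (g i))).trans ?_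
  rw [← h1]
  funext i
  rw [rho_canAdd, stalkEquiv_germ]
  exact (canAdd_germ f F x V hxV (g i)).symm

end Stalk

/-- `f^*(E ⊗ F) ⟶ f^*E ⊗ f^*F` is an isomorphism for `E` with local bases. -/
theorem isIso_delta_left (f : X ⟶ Y) {E : Y.Modules} (hE : HasBases E) (F : Y.Modules) :
    IsIso (Groth.Agent.Ega3B.PullTensor.delta f E F) := by
  have key : ∀ x : X, Function.Bijective
      (stalkLin (Groth.Agent.Ega3B.PullTensor.delta f E F) x) := by
    intro x
    obtain ⟨n, U, hx, e, he⟩ := hE (f x)
    have h1 := rho_bijective f he (x := x) hx F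
    rw [← stalkEquiv_comp_delta f he hx F] at h1
    exact (Function.Bijective.of_comp_iff' (LinearEquiv.bijective (stalkEquiv
      (isBasis_pullSec f he) ((Scheme.Modules.pullback f).obj F) (x := x) hx)) _).1 h1
  have h1 : Mono (Groth.Agent.Ega3B.PullTensor.delta f E F) :=
    mono_of_stalk _ fun x => (key x).1
  have h2 : Epi (Groth.Agent.Ega3B.PullTensor.delta f E F) :=
    epi_of_stalk _ fun x => (key x).2
  exact isIso_of_mono_of_epi _

/-- `f^*(E ⊗ F) ≅ f^*E ⊗ f^*F` for `E` with local bases. -/
noncomputable def pullTensorIsoLeft (f : X ⟶ Y) {E : Y.Modules} (hE : HasBases E) (F : Y.Modules) :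
    (Scheme.Modules.pullback f).obj (CohB1.tensorMod E F) ≅
      CohB1.tensorMod ((Scheme.Modules.pullback f).obj E) ((Scheme.Modules.pullback f).obj F) :=
  haveI := isIso_delta_left f hE F
  asIso (Groth.Agent.Ega3B.PullTensor.delta f E F)

/-- `f^*(F ⊗ E) ≅ f^*F ⊗ f^*E` for `E` with local bases. -/
noncomputable def pullTensorIsoRight (f : X ⟶ Y) {E : Y.Modules} (hE : HasBases E) (F : Y.Modules) :
    (Scheme.Modules.pullback f).obj (CohB1.tensorMod F E) ≅
      CohB1.tensorMod ((Scheme.Modules.pullback f).obj F) ((Scheme.Modules.pullback f).obj E) :=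
  (Scheme.Modules.pullback f).mapIso (Groth.Agent.Ega2.Tens.swap F E) ≪≫
    pullTensorIsoLeft f hE F ≪≫ Groth.Agent.Ega2.Tens.swap _ _

theorem hasBases_of_isInvertible {L : Y.Modules} (hL : PicF.IsInvertible L) : HasBases L :=
  HasBases.of_isFinLocFreeOfRank (Groth.Agent.Ega2.QCohLocal.isFinLocFreeOfRank_one_iff.2 hL)

/-- `f^*(M ⊗ L^n) ≅ f^*M ⊗ (f^*L)^n` for `L` invertible. -/
theorem nonempty_pull_twist (f : X ⟶ Y) (M : Y.Modules) {L : Y.Modules} (hL : PicF.IsInvertible L)
    (n : ℕ) :
    Nonempty ((Scheme.Modules.pullback f).obj (CohB1.tensorMod M (CohB1.tensorPow L n)) ≅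
      CohB1.tensorMod ((Scheme.Modules.pullback f).obj M)
        (CohB1.tensorPow ((Scheme.Modules.pullback f).obj L) n)) := by
  obtain ⟨e⟩ := Groth.Agent.Ega3B.PullTensor.nonempty_pullPowIso f hL n
  exact ⟨pullTensorIsoRight f (hasBases_of_isInvertible
    (Groth.Agent.Fdesc.LocGen.isInvertible_tensorPow hL n)) M ≪≫
      Groth.Agent.Ega2.Tens.mapTIso (Iso.refl _) e⟩

end Groth.Agent.CohqB.PullTwist471
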