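import Mathlib.AlgebraicGeometry.QuasiAffine
import Mathlib.AlgebraicGeometry.Noetherian
import Mathlib.RingTheory.Noetherian.Nilpotent
import Mathlib.AlgebraicGeometry.IdealSheaf.Functorial
import Groth.Agent.Flat2C.AffineThickening

/-!
Lifting powers of functions along square-zero thickenings; thickenings of quasi-affine schemes.
-/

set_option autoImplicit false
universe u

open CategoryTheory Limits AlgebraicGeometry TopologicalSpace Opposite

namespace Groth.Agent.CohqB.QAffThick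

/-- Restriction map of functions. -/
noncomputable abbrev res (X : Scheme.{u}) {U V : X.Opens} (h : V ≤ U) : Γ(X, U) →+* Γ(X, V) :=
  (X.presheaf.map (homOfLE h).op).hom

variable {X Z : Scheme.{u}}

theorem res_res {U V W : X.Opens} (h : V ≤ U) (h' : W ≤ V) (s : Γ(X, U)) :
    res X h' (res X h s) = res X (h'.trans h) s := by
  simp only [res, ← CommRingCat.comp_apply, ← Functor.map_comp]
  rfl

theorem res_self {U : X.Opens} (h : U ≤ U) (s : Γ(X, U)) : res X h s = s := by
  have : homOfLE h = 𝟙 U := rfl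
  simp only [res, this, op_id, CategoryTheory.Functor.map_id]
  rfl

theorem app_res (i : Z ⟶ X) {U V : X.Opens} (h : V ≤ U) (s : Γ(X, U)) :
    i.app V (res X h s) = res Z (show i ⁻¹ᵁ V ≤ i ⁻¹ᵁ U from fun _ hx ↦ h hx) (i.app U s) := by
  exact ConcreteCategory.congr_hom (i.naturality (homOfLE h).op) s

theorem eq_of_cover {ι : Type*} (U : ι → X.Opens) (V : X.Opens) (hV : V ≤ ⨆ i, U i)
    (hU : ∀ i, U i ≤ V) (a b : Γ(X, V)) (h : ∀ i, res X (hU i) a = res X (hU i) b) : a = b :=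
  TopCat.Sheaf.eq_of_locally_eq' X.sheaf U V (fun i ↦ homOfLE (hU i)) hV a b h

/-- kill by power -/
theorem exists_pow_mul_eq_zero {U W : X.Opens} (hU : IsCompact (U : Set X)) (t : Γ(X, U)) (hW : W = X.basicOpen t)
    (x : Γ(X, U)) (hVU : W ≤ U) (hx : res X hVU x = 0) : ∃ n : ℕ, ∀ m, n ≤ m → t ^ m * x = 0 := by
  subst hW
  obtain ⟨n, hn⟩ := exists_pow_mul_eq_zero_of_res_basicOpen_eq_zero_of_isCompact X hU x t hx
  refine ⟨n, fun m hm ↦ ?_⟩
  obtain ⟨k, rfl⟩ := Nat.exists_eq_add_of_le hm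
  rw [pow_add, mul_comm (t ^ n), mul_assoc, hn, mul_zero]

theorem exists_res_eq {U W : X.Opens} (hU : IsAffineOpen U) (t : Γ(X, U)) (hW : W = X.basicOpen t)
    (hWU : W ≤ U) (x : Γ(X, W)) : ∃ n : ℕ, ∀ m, n ≤ m → ∃ y : Γ(X, U), res X hWU y = (res X hWU t) ^ m * x := by
  subst hW
  obtain ⟨n, y, hy⟩ := exists_eq_pow_mul_of_isAffineOpen X U hU t x
  have hy' : res X hWU y = (res X hWU t) ^ n * x := hy
  refine ⟨n, fun m hm ↦ ?_⟩
  obtain ⟨k, rfl⟩ := Nat.exists_eq_add_of_le hm
  refine ⟨t ^ k * y, ?_⟩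
  rw [map_mul, map_pow, hy', add_comm, pow_add, mul_assoc]

/-- Key algebraic identity: `t₂^(M+1) = t₁^(M+1) + (M+1) t₁^M (t₂ - t₁)` when `(t₂-t₁)^2 = 0`. -/
theorem pow_succ_of_sq_zero {R : Type*} [CommRing R] (a b : R) (h : (b - a) * (b - a) = 0) (M : ℕ) :
    b ^ (M + 1) = a ^ (M + 1) + (M + 1 : ℕ) * (a ^ M * (b - a)) := by
  obtain ⟨d, rfl⟩ : ∃ d, b = a + d := ⟨b - a, by ring⟩
  have h' : d * d = 0 := by simpa using h
  induction M with
  | zero => simp
  | succ M ih =>
    rw [pow_succ, ih]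
    push_cast
    have e : a + d - a = d := by ring
    rw [e]
    have : (a ^ (M + 1) + (↑M + 1) * (a ^ M * d)) * (a + d) =
      a ^ (M + 1 + 1) + (↑M + 1 + 1) * (a ^ (M + 1) * d) + (↑M + 1) * a ^ M * (d * d) := by ring
    rw [this, h', mul_zero, add_zero]

variable (i : Z ⟶ X)

theorem glue_identity {R : Type*} [CommRing R] (a b C D : R) (m E : ℕ)
    (hab : (b - a) * (b - a) = 0) (hD : (b - a) * D = 0)
    (h : a ^ E * (C - D - a ^ m * (b - a)) = 0) :
    a ^ (m + E + 1) + (m + E + 1 : ℕ) * (a ^ E * C) = b ^ (m + E + 1) + (m + E + 1 : ℕ) * (b ^ E * D) := by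
  have h1 : b ^ E * D = a ^ E * D := by
    obtain ⟨q, hq⟩ := sub_dvd_pow_sub_pow b a E
    have : b ^ E * D - a ^ E * D = 0 := by
      rw [← sub_mul, hq, mul_assoc, mul_comm q D, ← mul_assoc, hD, zero_mul]
    exact sub_eq_zero.mp this
  rw [h1, pow_succ_of_sq_zero a b hab (m + E)]
  have h2 : a ^ E * C = a ^ E * D + a ^ (m + E) * (b - a) := by
    have : a ^ E * (C - D - a ^ m * (b - a)) = a ^ E * C - (a ^ E * D + a ^ (m + E) * (b - a)) := by
      ring
    rw [this] at h
    exact sub_eq_zero.mp h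
  rw [h2]
  ring

theorem exists_uniform {ι : Type*} [Finite ι] {P : ι → ℕ → Prop}
    (h : ∀ j, ∃ n, ∀ m, n ≤ m → P j m) : ∃ n, ∀ m, n ≤ m → ∀ j, P j m := by
  classical
  cases nonempty_fintype ι
  choose n hn using h
  exact ⟨Finset.univ.sup n, fun m hm j ↦ hn j m ((Finset.le_sup (Finset.mem_univ j)).trans hm)⟩

theorem lift_pow [IsClosedImmersion i] [CompactSpace X] [QuasiSeparatedSpace X]
    (H : ∀ (V : X.Opens) (a b : Γ(X, V)), i.app V a = 0 → i.app V b = 0 → a * b = 0)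
    (hinj : ∀ U V : X.Opens, i ⁻¹ᵁ U = i ⁻¹ᵁ V → U = V)
    (r : Γ(Z, ⊤)) (W : X.Opens) (hW : i ⁻¹ᵁ W = Z.basicOpen r) (t : Γ(X, W))
    (ht : i.app W t = res Z le_top r) :
    ∃ (n : ℕ) (f : Γ(X, ⊤)), i.app ⊤ f = r ^ (n + 1) := by
  classical
  -- finite affine cover
  obtain ⟨s, hs⟩ := IsOpenCover.exists_finite_of_compactSpace
    (u := fun U : X.affineOpens ↦ U.1) (iSup_affineOpens_eq_top X)
  let U : s → X.Opens := fun j ↦ j.1.1
  have hUaff : ∀ j, IsAffineOpen (U j) := fun j ↦ j.1.2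
  have hUtop : ⨆ j, U j = ⊤ := hs
  -- local lifts
  have h1 : ∀ j, ∃ tj : Γ(X, U j), i.app (U j) tj = res Z le_top r := fun j ↦
    i.app_surjective (U j) (hUaff j) _
  choose τ hτ using h1
  have hb : ∀ j, U j ⊓ W = X.basicOpen (τ j) := by
    intro j
    apply hinj
    rw [Scheme.preimage_basicOpen, hτ j, Scheme.basicOpen_res]
    rw [← hW]
    rfl
  let ε : ∀ j, Γ(X, U j ⊓ W) := fun j ↦ res X inf_le_right t - res X inf_le_left (τ j)
  have hε : ∀ j, i.app _ (ε j) = 0 := by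
    intro j
    rw [map_sub, app_res, app_res, ht, hτ, res_res, res_res, sub_self]
  have claimA : ∀ j, ∃ n, ∀ m, n ≤ m → ∃ c : Γ(X, U j), i.app _ c = 0 ∧
      res X inf_le_left c = (res X inf_le_left (τ j)) ^ m * ε j := by
    intro j
    obtain ⟨n, hn⟩ := exists_res_eq (hUaff j) (τ j) (hb j) inf_le_left (ε j)
    obtain ⟨c, hc⟩ := hn n le_rfl
    have hcomp : IsCompact ((i ⁻¹ᵁ (U j) : Z.Opens) : Set Z) := ((hUaff j).preimage i).isCompact
    have h0 : res Z (show i ⁻¹ᵁ (U j ⊓ W) ≤ i ⁻¹ᵁ (U j) from fun _ hx ↦ hx.1) (i.app (U j) c) = 0 := by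
      rw [← app_res i inf_le_left, hc, map_mul, hε, mul_zero]
    obtain ⟨k, hk⟩ := exists_pow_mul_eq_zero hcomp (i.app (U j) (τ j))
      (by rw [← Scheme.preimage_basicOpen, ← hb j]) _ _ h0
    refine ⟨n + k, fun m hm ↦ ?_⟩
    obtain ⟨l, rfl⟩ := Nat.exists_eq_add_of_le hm
    refine ⟨τ j ^ (k + l) * c, ?_, ?_⟩
    · rw [map_mul, map_pow]
      exact hk _ (by omega)
    · rw [map_mul, map_pow, hc]
      ring
  obtain ⟨m, hm⟩ := exists_uniform claimA
  have hm' := hm m le_rfl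
  choose c hc0 hc using hm'
  have claimB : ∀ jk : s × s, ∃ n, ∀ e, n ≤ e →
      (res X (inf_le_left : U jk.1 ⊓ U jk.2 ≤ U jk.1) (τ jk.1)) ^ e *
        (res X inf_le_left (c jk.1) - res X inf_le_right (c jk.2) -
          (res X inf_le_left (τ jk.1)) ^ m * (res X inf_le_right (τ jk.2) - res X inf_le_left (τ jk.1))) = 0 := by
    rintro ⟨j, k⟩
    dsimp only
    have hcomp : IsCompact ((U j ⊓ U k : X.Opens) : Set X) :=
      QuasiSeparatedSpace.inter_isCompact _ _ (U j).2 (hUaff j).isCompact (U k).2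
        (hUaff k).isCompact
    refine exists_pow_mul_eq_zero hcomp _ (W := U j ⊓ U k ⊓ W) ?_ _ inf_le_left ?_
    · rw [Scheme.basicOpen_res, ← hb j]
      ext x
      simp only [TopologicalSpace.Opens.coe_inf, Set.mem_inter_iff]
      tauto
    · have e1 : res X (inf_le_left : U j ⊓ U k ⊓ W ≤ _) (res X inf_le_left (c j)) =
          res X (show U j ⊓ U k ⊓ W ≤ U j ⊓ W from inf_le_inf inf_le_left le_rfl)
            (res X inf_le_left (c j)) := by rw [res_res, res_res]
      have e2 : res X (inf_le_left : U j ⊓ U k ⊓ W ≤ _) (res X inf_le_right (c k)) =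
          res X (show U j ⊓ U k ⊓ W ≤ U k ⊓ W from inf_le_inf inf_le_right le_rfl)
            (res X inf_le_left (c k)) := by rw [res_res, res_res]
      rw [map_sub, map_sub, e1, e2, hc, hc]
      simp only [map_mul, map_pow, map_sub, res_res, ε]
      set a := res X (show U j ⊓ U k ⊓ W ≤ U j from inf_le_left.trans inf_le_left) (τ j) with ha
      set b := res X (show U j ⊓ U k ⊓ W ≤ U k from inf_le_left.trans inf_le_right) (τ k) with hb'
      set T := res X (show U j ⊓ U k ⊓ W ≤ W from inf_le_right) t with hT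
      have hab : i.app _ (b - a) = 0 := by
        rw [map_sub, ha, hb', app_res, app_res, hτ, hτ, res_res, res_res, sub_self]
      have hTb : i.app _ (T - b) = 0 := by
        rw [map_sub, hT, hb', app_res, app_res, hτ, ht, res_res, res_res, sub_self]
      have h2 := H _ _ _ hab hTb
      have h3 : b ^ m * (T - b) = a ^ m * (T - b) := by
        obtain ⟨q, hq⟩ := sub_dvd_pow_sub_pow b a m
        have : b ^ m * (T - b) - a ^ m * (T - b) = 0 := by
          rw [← sub_mul, hq, mul_assoc, mul_comm q, ← mul_assoc, h2, zero_mul]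
        exact sub_eq_zero.mp this
      rw [h3]
      ring
  obtain ⟨E, hE⟩ := exists_uniform claimB
  have hE' := hE E le_rfl
  let f : ∀ j, Γ(X, U j) := fun j ↦ τ j ^ (m + E + 1) + (m + E + 1 : ℕ) * (τ j ^ E * c j)
  have claimC : ∀ j k, res X (inf_le_left : U j ⊓ U k ≤ U j) (f j) = res X inf_le_right (f k) := by
    intro j k
    simp only [f, map_add, map_mul, map_pow, map_natCast]
    refine glue_identity _ _ _ _ m E ?_ ?_ (hE' (j, k))
    · have : i.app _ (res X (inf_le_right : U j ⊓ U k ≤ U k) (τ k) - res X inf_le_left (τ j)) = 0 := by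
        rw [map_sub, app_res, app_res, hτ, hτ, res_res, res_res, sub_self]
      exact H _ _ _ this this
    · have : i.app _ (res X (inf_le_right : U j ⊓ U k ≤ U k) (τ k) - res X inf_le_left (τ j)) = 0 := by
        rw [map_sub, app_res, app_res, hτ, hτ, res_res, res_res, sub_self]
      refine H _ _ _ this ?_
      rw [app_res, hc0, map_zero]
  obtain ⟨F, hF, -⟩ := TopCat.Sheaf.existsUnique_gluing' X.sheaf U ⊤ (fun j ↦ homOfLE le_top)
    hUtop.ge f (fun j k ↦ claimC j k)
  refine ⟨m + E, F, ?_⟩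
  refine eq_of_cover (fun j ↦ i ⁻¹ᵁ (U j)) (i ⁻¹ᵁ ⊤) ?_ (fun j _ _ ↦ trivial) _ _ ?_
  · rw [← Scheme.Hom.preimage_iSup, hUtop]
  · intro j
    rw [← app_res i le_top]
    have : res X le_top F = f j := hF j
    rw [this]
    simp only [f, map_add, map_mul, map_pow, map_natCast, hτ, hc0, mul_zero, add_zero]
    exact (map_pow (res Z le_top) r _).symm

/-- One square-zero step: if `Z → X` is a surjective closed immersion with square-zero kernel
(section-wise) and `Z` is quasi-affine then so is `X`. -/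
theorem quasiAffine_step [IsClosedImmersion i] [Surjective i] [CompactSpace X]
    [QuasiSeparatedSpace X]
    (H : ∀ (V : X.Opens) (a b : Γ(X, V)), i.app V a = 0 → i.app V b = 0 → a * b = 0)
    [Z.IsQuasiAffine] : X.IsQuasiAffine := by
  have hinj : ∀ U V : X.Opens, i ⁻¹ᵁ U = i ⁻¹ᵁ V → U = V := fun U V h ↦
    Flat2C.AffineThickening.eq_of_preimage_eq i h
  refine Scheme.IsQuasiAffine.of_forall_exists_mem_basicOpen _ fun x ↦ ?_
  obtain ⟨z, rfl⟩ := i.surjective x
  obtain ⟨_, ⟨_, ⟨r, hr, rfl⟩, rfl⟩, hzr, -⟩ := (Scheme.IsQuasiAffine.isBasis_basicOpen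
    Z).exists_subset_of_mem_open (Set.mem_univ z) isOpen_univ
  -- the open `W` of `X`
  obtain ⟨W, hW⟩ : ∃ W : X.Opens, i ⁻¹ᵁ W = Z.basicOpen r := by
    obtain ⟨W, hW, hW'⟩ := i.isEmbedding.isOpen_iff.mp (Z.basicOpen r).2
    exact ⟨⟨W, hW⟩, TopologicalSpace.Opens.ext hW'⟩
  have hWaff : IsAffineOpen W := Flat2C.AffineThickening.isAffineOpen_of_preimage i (hW ▸ hr)
  obtain ⟨t, ht⟩ := i.app_surjective W hWaff (res Z le_top r)
  obtain ⟨n, f, hf⟩ := lift_pow i H hinj r W hW t ht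
  have : X.basicOpen f = W := by
    apply hinj
    rw [Scheme.preimage_basicOpen, hf, hW]
    exact Scheme.basicOpen_pow Z r (Nat.succ_pos n)
  refine ⟨f, ?_, ?_⟩
  · rw [this]; exact hWaff
  · rw [this]
    change z ∈ i ⁻¹ᵁ W
    rw [hW]
    exact hzr

/-- For `i : V(I) → V(I²)` the kernel has square zero. -/
theorem inclusion_sq (I : X.IdealSheafData) (h : I ^ 2 ≤ I) (V : ((I ^ 2).subscheme).Opens)
    (a b : Γ((I ^ 2).subscheme, V)) (ha : (Scheme.IdealSheafData.inclusion h).app V a = 0)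
    (hb : (Scheme.IdealSheafData.inclusion h).app V b = 0) : a * b = 0 := by
  let i := Scheme.IdealSheafData.inclusion h
  obtain ⟨V', hV', hVV⟩ := (I ^ 2).subschemeι.isEmbedding.isOpen_iff.mp V.2
  apply (I ^ 2).subscheme.IsSheaf.section_ext
  intro y hy
  have hyV : (I ^ 2).subschemeι y ∈ V' := by
    have : y ∈ (I ^ 2).subschemeι ⁻¹' V' := by rw [hVV]; exact hy
    exact this
  obtain ⟨_, ⟨W, hW, rfl⟩, hyW, hWV'⟩ :=
      X.isBasis_affineOpens.exists_subset_of_mem_open hyV hV'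
  have hle : (I ^ 2).subschemeι ⁻¹ᵁ W ≤ V := by
    intro z hz
    have : z ∈ (I ^ 2).subschemeι ⁻¹' V' := hWV' hz
    rw [hVV] at this
    exact this
  refine ⟨(I ^ 2).subschemeι ⁻¹ᵁ W, hle, hyW, ?_⟩
  have key : ∀ (c : Γ((I ^ 2).subscheme, V)), i.app V c = 0 →
      ∃ c' : Γ(X, W), c' ∈ I.ideal ⟨W, hW⟩ ∧ (I ^ 2).subschemeι.app W c' = res _ hle c := by
    intro c hc0
    obtain ⟨c', hc'⟩ := (I ^ 2).subschemeι_app_surjective ⟨W, hW⟩ (res _ hle c)
    refine ⟨c', ?_, hc'⟩
    rw [← I.ker_subschemeι_app ⟨W, hW⟩, RingHom.mem_ker]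
    have e : i ≫ (I ^ 2).subschemeι = I.subschemeι := Scheme.IdealSheafData.inclusion_subschemeι h
    have e2 := ConcreteCategory.congr_hom (Scheme.Hom.congr_app e.symm W) c'
    refine e2.trans ?_
    change (I.subscheme.presheaf.map _) (i.app _ ((I ^ 2).subschemeι.app W c')) = 0
    rw [hc', app_res i hle, hc0, map_zero, map_zero]
  obtain ⟨a', ha', haa⟩ := key a ha
  obtain ⟨b', hb', hbb⟩ := key b hb
  change res _ hle (a * b) = res _ hle 0
  rw [map_mul, ← haa, ← hbb, ← map_mul, map_zero]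
  change a' * b' ∈ RingHom.ker ((I ^ 2).subschemeι.app W).hom
  rw [(I ^ 2).ker_subschemeι_app ⟨W, hW⟩]
  have : (I ^ 2).ideal ⟨W, hW⟩ = (I.ideal ⟨W, hW⟩) ^ 2 := by simp
  rw [this, pow_two]
  exact Ideal.mul_mem_mul ha' hb'

theorem surjective_subschemeι_of_support (I : X.IdealSheafData) (hI : I.support = ⊤) :
    Surjective I.subschemeι := by
  refine ⟨fun x ↦ ?_⟩
  have : x ∈ Set.range I.subschemeι := by
    rw [Scheme.IdealSheafData.range_subschemeι, hI]
    trivial
  exact this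

theorem surjective_inclusion {I J : X.IdealSheafData} (h : I ≤ J) (hJ : J.support = ⊤) :
    Surjective (Scheme.IdealSheafData.inclusion h) := by
  refine ⟨fun y ↦ ?_⟩
  have := surjective_subschemeι_of_support J hJ
  obtain ⟨z, hz⟩ := J.subschemeι.surjective (I.subschemeι y)
  refine ⟨z, ?_⟩
  apply I.subschemeι.isEmbedding.injective
  rw [← hz, ← Scheme.Hom.comp_apply, Scheme.IdealSheafData.inclusion_subschemeι]

theorem exists_pow_eq_bot [IsNoetherian X] (J : X.IdealSheafData) (hJ : J.support = ⊤) :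
    ∃ n, J ^ n = ⊥ := by
  obtain ⟨s, hs⟩ := IsOpenCover.exists_finite_of_compactSpace
    (u := fun U : X.affineOpens ↦ U.1) (iSup_affineOpens_eq_top X)
  have h : ∀ j : s, ∃ n, ∀ m, n ≤ m → (J.ideal j.1) ^ m = ⊥ := by
    intro j
    have hnil : J.ideal j.1 ≤ nilradical Γ(X, j.1.1) := by
      intro a ha
      rw [mem_nilradical, Scheme.isNilpotent_iff_basicOpen_eq_bot_of_isCompact j.1.2.isCompact]
      rw [eq_bot_iff]
      intro x hx
      have hxJ : x ∈ J.support := by rw [hJ]; trivial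
      have hxU : x ∈ j.1.1 := X.basicOpen_le _ hx
      rw [Scheme.IdealSheafData.mem_support_iff_of_mem hxU] at hxJ
      exact absurd hx ((X.mem_zeroLocus_iff _ _).mp hxJ a ha)
    have : IsNoetherianRing Γ(X, j.1.1) := IsLocallyNoetherian.component_noetherian j.1
    obtain ⟨n, hn⟩ := IsNoetherianRing.isNilpotent_nilradical Γ(X, j.1.1)
    refine ⟨n, fun m hm ↦ ?_⟩
    exact eq_bot_iff.mpr ((Ideal.pow_right_mono hnil m).trans ((Ideal.pow_le_pow_right hm).trans hn.le))
  obtain ⟨n, hn⟩ := exists_uniform h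
  refine ⟨n, Scheme.IdealSheafData.ext_of_iSup_eq_top (fun j : s ↦ j.1) hs fun j ↦ ?_⟩
  exact hn n le_rfl j

theorem quasiAffine_of_thickening [IsNoetherian X] [IsClosedImmersion i] [Surjective i]
    [Z.IsQuasiAffine] : X.IsQuasiAffine := by
  have hsupp : i.ker.support = ⊤ := by
    rw [← top_le_iff]
    intro x _
    obtain ⟨z, rfl⟩ := i.surjective x
    exact i.range_subset_ker_support ⟨z, rfl⟩
  have key : ∀ k : ℕ, (i.ker ^ (2 ^ k)).subscheme.IsQuasiAffine := by
    intro k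
    induction k with
    | zero =>
      rw [pow_zero, pow_one]
      have : CompactSpace i.ker.subscheme :=
        QuasiCompact.compactSpace_of_compactSpace i.ker.subschemeι
      exact Scheme.IsQuasiAffine.of_isImmersion (inv i.toImage)
    | succ k ih =>
      rw [pow_succ, pow_mul]
      set I := i.ker ^ (2 ^ k) with hI
      have hIs : I.support = ⊤ := by
        rw [hI, Scheme.IdealSheafData.support_pow _ _ (by positivity), hsupp]
      have h : I ^ 2 ≤ I := fun U ↦ by
        simpa using Ideal.pow_le_self (I := I.ideal U) two_ne_zero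
      have : CompactSpace (I ^ 2).subscheme :=
        QuasiCompact.compactSpace_of_compactSpace (I ^ 2).subschemeι
      have : QuasiSeparatedSpace (I ^ 2).subscheme :=
        quasiSeparatedSpace_of_quasiSeparated (I ^ 2).subschemeι
      have : Surjective (Scheme.IdealSheafData.inclusion h) := surjective_inclusion h hIs
      exact quasiAffine_step (Scheme.IdealSheafData.inclusion h) (fun V a b ↦ inclusion_sq I h V a b)
  obtain ⟨n, hn⟩ := exists_pow_eq_bot i.ker hsupp
  have h2 : i.ker ^ (2 ^ n) = ⊥ := by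
    obtain ⟨m, hm⟩ := Nat.exists_eq_add_of_le (Nat.lt_two_pow_self (n := n)).le
    rw [hm, pow_add, hn]
    exact Scheme.IdealSheafData.bot_mul _
  have := key n
  rw [h2] at this
  exact Scheme.IsQuasiAffine.of_isImmersion (inv (⊥ : X.IdealSheafData).subschemeι)

end Groth.Agent.CohqB.QAffThick
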