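import Groth.Agent.VarietyB.HHPush
import Groth.Agent.FormalA.ClosedImm
import Groth.Agent.FormalA.PullbackQC
import Groth.Agent.VarietyB.ProjForm
import Groth.Agent.Ega3B.PullTensor
import Groth.Agent.Ega3B.CohTensor
import Groth.Agent.Ega2.QCohLocal
import Groth.Agent.Models.SpecFib
import Groth.Agent.CohqB.AmpFiber
import Groth.Agent.CohqB.LocBaseHH
import Groth.Prelude.Def_Formal

/-!
# Twists of modules killed by the maximal ideal

`X` over `Spec A`, `A` local, `i = ιk : X_k ⟶ X` the closed fibre.  A module `M` killed by the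
maximal ideal of `A` is `i_* i^* M`, and `H^p(X, M ⊗ L^n) = H^p(X_k, i^*M ⊗ (i^*L)^n)`.
-/

set_option autoImplicit false
universe u

open CategoryTheory CategoryTheory.Limits AlgebraicGeometry Opposite TopologicalSpace

namespace Groth.Agent.CohqB.SerLocFib

/-- Cohomology is invariant under isomorphism (vanishing form). -/
theorem subsingleton_HH_of_iso {X : Scheme.{u}} {M N : X.Modules} (e : M ≅ N) (p : ℕ)
    (h : Subsingleton (Coh.HH X N p)) : Subsingleton (Coh.HH X M p) := by
  refine ⟨fun a b => ?_⟩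
  have h1 : ∀ x : Coh.HH X M p, LocBaseHH.hmap e.inv p (LocBaseHH.hmap e.hom p x) = x := by
    intro x
    rw [← LocBaseHH.hmap_comp, e.hom_inv_id, LocBaseHH.hmap_id]
  rw [← h1 a, ← h1 b, Subsingleton.elim (LocBaseHH.hmap e.hom p a) (LocBaseHH.hmap e.hom p b)]

/-- Vanishing of the cohomology of a direct image along an affine morphism. -/
theorem subsingleton_HH_push {Z X : Scheme.{u}} (i : Z ⟶ X) [IsAffineHom i] {A : Type u}
    [CommRing A] (f : X ⟶ Spec (CommRingCat.of A)) (G : Z.Modules) (hG : Coh.IsQCoh G) (p : ℕ)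
    (h : Subsingleton (Coh.HH Z G p)) :
    Subsingleton (Coh.HH X ((Scheme.Modules.pushforward i).obj G) p) := by
  let _ : X.Over (Spec (CommRingCat.of A)) := ⟨f⟩
  let _ : Z.Over (Spec (CommRingCat.of A)) := ⟨i ≫ f⟩
  obtain ⟨e⟩ := VarietyB.HHPush.exists_linearEquiv i A rfl G hG p
  exact e.toEquiv.subsingleton_congr.mpr h

/-- Twists of a module supported on a closed subscheme. -/
theorem subsingleton_HH_of_killed {Z X : Scheme.{u}} (i : Z ⟶ X) [IsClosedImmersion i]
    {A : Type u} [CommRing A] (f : X ⟶ Spec (CommRingCat.of A)) {L : X.Modules}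
    (hL : PicF.IsInvertible L) {M : X.Modules} (hM : Coh.IsQCoh M)
    (hk : ClSub.KilledByIdeal i.ker M) (n p : ℕ)
    (h : Subsingleton (Coh.HH Z (CohB1.tensorMod ((Scheme.Modules.pullback i).obj M)
      (CohB1.tensorPow ((Scheme.Modules.pullback i).obj L) n)) p)) :
    Subsingleton (Coh.HH X (CohB1.tensorMod M (CohB1.tensorPow L n)) p) := by
  have hLn := Fdesc.LocGen.isInvertible_tensorPow hL n
  have hb : VarietyB.TensCoh.HasBases (CohB1.tensorPow L n) :=
    VarietyB.TensCoh.HasBases.of_isFinLocFreeOfRank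
      (Ega2.QCohLocal.isFinLocFreeOfRank_one_iff.mpr hLn)
  obtain ⟨e1⟩ := Ega3B.PullTensor.nonempty_pullPowIso i hL n
  have e : CohB1.tensorMod M (CohB1.tensorPow L n) ≅
      (Scheme.Modules.pushforward i).obj (CohB1.tensorMod ((Scheme.Modules.pullback i).obj M)
        (CohB1.tensorPow ((Scheme.Modules.pullback i).obj L) n)) :=
    Ega2.Tens.swap _ _ ≪≫ Ega2.Tens.mapTIso (Iso.refl _) (FormalA.ClosedImm.pushPullIso i hk).symm ≪≫
      VarietyB.ProjForm.projIso i hb _ ≪≫
      (Scheme.Modules.pushforward i).mapIso (Ega2.Tens.mapTIso e1 (Iso.refl _) ≪≫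
        Ega2.Tens.swap _ _)
  refine subsingleton_HH_of_iso e p (subsingleton_HH_push i f _ ?_ p h)
  exact Ega2.TensGen.isQCoh_tensor (FormalA.PullbackQC.isQCoh_pullback i M hM)
    (Fdesc.LocGen.isInvertible_tensorPow (Fdesc.LocGen.isInvertible_pullback i hL) n)

/-- Base change of `f` along a point with values in a field, compared with the fibre. -/
theorem isAmple_of_fiber {X Z : Scheme.{u}} (f : X ⟶ Z) {K : Type u} [Field K]
    (g : Spec (CommRingCat.of K) ⟶ Z) (z : Z) (hz : g (IsLocalRing.closedPoint K) = z)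
    (L : X.Modules) (hA : CohB1.IsAmple ((Scheme.Modules.pullback (f.fiberι z)).obj L)) :
    CohB1.IsAmple ((Scheme.Modules.pullback (Limits.pullback.fst f g)).obj L) := by
  subst hz
  have hg := Scheme.descResidueField_stalkClosedPointTo_fromSpecResidueField K Z g
  set t := Spec.map (Z.descResidueField (Scheme.stalkClosedPointTo g)) with ht
  let e : Limits.pullback f g ⟶ f.fiber (g (IsLocalRing.closedPoint K)) :=
    pullback.lift (pullback.fst f g) (pullback.snd f g ≫ t) (by
      rw [Category.assoc, hg]; exact pullback.condition)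
  have he1 : e ≫ f.fiberι _ = pullback.fst f g := pullback.lift_fst _ _ _
  have he2 : e ≫ f.fiberToSpecResidueField _ = pullback.snd f g ≫ t := pullback.lift_snd _ _ _
  have hsq : IsPullback e (pullback.snd f g) (f.fiberToSpecResidueField _) t := by
    have h2 : IsPullback (f.fiberι (g (IsLocalRing.closedPoint K)))
        (f.fiberToSpecResidueField _) f (Z.fromSpecResidueField _) :=
      IsPullback.of_hasPullback f (Z.fromSpecResidueField _)
    have h1 : IsPullback (e ≫ f.fiberι _) (pullback.snd f g) f (t ≫ Z.fromSpecResidueField _) := by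
      rw [he1, hg]
      exact IsPullback.of_hasPullback f g
    exact IsPullback.of_right h1 he2 h2
  have he : IsAffineHom e := MorphismProperty.of_isPullback hsq.flip
    (inferInstanceAs (IsAffineHom (Spec.map _)))
  rw [← AmpCocycle.isAmple_pullback_comp_iff e _ _ he1]
  exact AmpCocycle.isAmple_pullback e hA

/-- A module killed by the maximal ideal is killed by the ideal of the closed fibre. -/
theorem killedByIdeal_of_killedBy {A : Type u} [CommRing A] [IsLocalRing A] {X : Scheme.{u}}
    (f : X ⟶ Spec (CommRingCat.of A)) (M : X.Modules)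
    (hk : letI : X.Over (Spec (CommRingCat.of A)) := ⟨f⟩
      Formal.KilledBy (IsLocalRing.maximalIdeal A) M) :
    ClSub.KilledByIdeal (Models.SpecFib.ιk A X f).ker M := by
  let _ : X.Over (Spec (CommRingCat.of A)) := ⟨f⟩
  intro U a ha m
  rw [Scheme.Hom.ker_apply] at ha
  have h0 : a ∈ RingHom.ker ((Models.SpecFib.ιk A X f).app U.1).hom := ha
  rw [(Models.SpecFib.app_surj_ker f U.1 U.2).2] at h0
  refine Submodule.span_induction (p := fun a _ => a • m = 0) ?_ ?_ ?_ ?_ h0
  · rintro _ ⟨r, hr, rfl⟩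
    have h1 := hk r hr
    have h2 : (Formal.smulMod A M r).app U.1 m = 0 := by rw [h1]; rfl
    exact h2
  · exact zero_smul _ m
  · intro x y _ _ hx hy
    rw [add_smul, hx, hy, add_zero]
  · intro c x _ hx
    rw [smul_eq_mul, mul_smul, hx, smul_zero]

instance isClosedImmersion_ιk {A : Type u} [CommRing A] [IsLocalRing A] {X : Scheme.{u}}
    (f : X ⟶ Spec (CommRingCat.of A)) : IsClosedImmersion (Models.SpecFib.ιk A X f) := by
  have h : IsClosedImmersion (Spec.map (CommRingCat.ofHom
      (algebraMap A (IsLocalRing.ResidueField A)))) :=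
    IsClosedImmersion.spec_of_surjective _ IsLocalRing.residue_surjective
  infer_instance

/-- The closed fibre of `f` and the base change to the residue field, for ampleness. -/
theorem isAmple_ιk {A : Type u} [CommRing A] [IsLocalRing A] {X : Scheme.{u}}
    (f : X ⟶ Spec (CommRingCat.of A)) (L : X.Modules)
    (hy : CohB1.IsAmple ((Scheme.Modules.pullback
      (f.fiberι (IsLocalRing.closedPoint A))).obj L)) :
    CohB1.IsAmple ((Scheme.Modules.pullback (Models.SpecFib.ιk A X f)).obj L) :=
  haveI : IsLocalHom (algebraMap A (IsLocalRing.ResidueField A)) :=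
    inferInstanceAs (IsLocalHom (IsLocalRing.residue A))
  isAmple_of_fiber f _ _ (IsLocalRing.comap_closedPoint
    (algebraMap A (IsLocalRing.ResidueField A))) L hy

/-- Serre vanishing for coherent modules killed by the maximal ideal, from Serre vanishing on
the closed fibre. -/
theorem ev_of_killed {A : Type u} [CommRing A] [IsLocalRing A] {X : Scheme.{u}}
    (f : X ⟶ Spec (CommRingCat.of A)) {L : X.Modules} (hL : PicF.IsInvertible L)
    (hS : ∀ N : (Limits.pullback f (Spec.map (CommRingCat.ofHom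
        (algebraMap A (IsLocalRing.ResidueField A))))).Modules, Coh.IsCoh N →
      ∃ n₀ : ℕ, ∀ n : ℕ, n₀ ≤ n → ∀ p : ℕ, 0 < p → Subsingleton (Coh.HH _ (CohB1.tensorMod N
        (CohB1.tensorPow ((Scheme.Modules.pullback (Models.SpecFib.ιk A X f)).obj L) n)) p))
    (M : X.Modules) (hM : Coh.IsCoh M)
    (hk : letI : X.Over (Spec (CommRingCat.of A)) := ⟨f⟩
      Formal.KilledBy (IsLocalRing.maximalIdeal A) M) :
    ∃ n₀ : ℕ, ∀ n : ℕ, n₀ ≤ n → ∀ p : ℕ, 0 < p →
      Subsingleton (Coh.HH X (CohB1.tensorMod M (CohB1.tensorPow L n)) p) := by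
  obtain ⟨n₀, h⟩ := hS _ (FormalA.PullbackQC.isCoh_pullback (Models.SpecFib.ιk A X f) M hM)
  exact ⟨n₀, fun n hn p hp => subsingleton_HH_of_killed (Models.SpecFib.ιk A X f) f hL hM.1
    (killedByIdeal_of_killedBy f M hk) n p (h n hn p hp)⟩

end Groth.Agent.CohqB.SerLocFib
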