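import Groth.Agent.CohqB.LocBaseEngine
import Groth.Agent.CohqB.SerLocFib
import Groth.Agent.PerfB.TensInv
import Groth.Agent.PerfA.CohSerre
import Groth.Agent.CycB.CohProp
import Groth.Agent.S0016

/-!
# Serre vanishing over a Noetherian local base

`serre_local`: `A` Noetherian local, `f : X ⟶ Spec A` proper, `L` invertible on `X`, ample on the
closed fibre; then high twists of coherent modules have no higher cohomology.  The inputs
(finiteness of cohomology over `A`, Serre vanishing on the closed fibre) are hypotheses.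
-/

set_option autoImplicit false
universe u

open CategoryTheory CategoryTheory.Limits AlgebraicGeometry Opposite TopologicalSpace

namespace Groth.Agent.CohqB.SerLocal

attribute [local instance] Abelian.hasFiniteBiproducts

variable {A : Type u} [CommRing A] {X : Scheme.{u}} [X.Over (Spec (CommRingCat.of A))]

theorem tensorRightMod_map_smulMod (P N : X.Modules) (b : A) :
    (DCoh.tensorRightMod P).map (Formal.smulMod A N b) =
      Formal.smulMod A ((DCoh.tensorRightMod P).obj N) b := by
  refine Ega2.Tens.hom_ext (M := N) (N := P) (P := CohB1.tensorMod N P) _ _ fun U m n => ?_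
  refine (PerfB.TensExact.tensorRightMod_map_tmul P (Formal.smulMod A N b) U m n).trans ?_
  exact Ega2.Tens.smul_tmul (M := N) (N := P) _ m n

/-- Twisting by the powers of an invertible module. -/
noncomputable def setup [IsLocallyNoetherian X]
    (hfin : ∀ M : X.Modules, Coh.IsCoh M → ∀ p : ℕ, Module.Finite A (Coh.HH X M p))
    (L : X.Modules) (hL : PicF.IsInvertible L) : LocBaseEngine.Setup A X where
  C := Coh.IsCoh
  biprod _ _ h := PerfA.CohSerre.isCoh_of_iso (biproduct.isoCoproduct _).symm
    (CycB.CohProp.isCoh_finite_coproduct _ fun _ => h)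
  ker φ hM hN := PerfA.CohSerre.isCoh_kernel φ hM hN.1
  coker φ hM hN := PerfA.CohSerre.isCoh_cokernel φ hM.1 hN
  T n := DCoh.tensorRightMod (CohB1.tensorPow L n)
  additive _ := inferInstance
  lim n := PerfB.TensInv.preservesFiniteLimits_of_isInvertible
    (Fdesc.LocGen.isInvertible_tensorPow hL n)
  colim _ := inferInstance
  smul _ N b := tensorRightMod_map_smulMod _ N b
  finite n _ hM p := hfin _
    (Ega3B.CohTensor.isCoh_tensor hM (Fdesc.LocGen.isInvertible_tensorPow hL n)) p

omit [X.Over (Spec (CommRingCat.of A))] in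
/-- Serre vanishing over a Noetherian local base, from finiteness of cohomology over `A` and Serre
vanishing on the closed fibre. -/
theorem serre_local_of [IsLocalRing A] [IsNoetherianRing A] (f : X ⟶ Spec (CommRingCat.of A))
    [IsProper f]
    (hfin : letI : X.Over (Spec (CommRingCat.of A)) := ⟨f⟩
      ∀ M : X.Modules, Coh.IsCoh M → ∀ p : ℕ, Module.Finite A (Coh.HH X M p))
    (L : X.Modules) (hL : PicF.IsInvertible L)
    (hS : ∀ N : (Limits.pullback f (Spec.map (CommRingCat.ofHom
        (algebraMap A (IsLocalRing.ResidueField A))))).Modules, Coh.IsCoh N →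
      ∃ n₀ : ℕ, ∀ n : ℕ, n₀ ≤ n → ∀ p : ℕ, 0 < p → Subsingleton (Coh.HH _ (CohB1.tensorMod N
        (CohB1.tensorPow ((Scheme.Modules.pullback (Models.SpecFib.ιk A X f)).obj L) n)) p))
    (M : X.Modules) (hM : Coh.IsCoh M) :
    ∃ n₀ : ℕ, ∀ n : ℕ, n₀ ≤ n → ∀ p : ℕ, 0 < p →
      Subsingleton (Coh.HH X (CohB1.tensorMod M (CohB1.tensorPow L n)) p) := by
  let _ : X.Over (Spec (CommRingCat.of A)) := ⟨f⟩
  have : IsLocallyNoetherian X := LocallyOfFiniteType.isLocallyNoetherian f
  have : CompactSpace X := QuasiCompact.compactSpace_of_compactSpace f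
  have : QuasiSeparatedSpace X := inferInstance
  obtain ⟨d, hd⟩ := S0016.result X
  have hvan : ∀ N : X.Modules, Coh.IsCoh N → ∀ n p : ℕ, d ≤ p →
      Subsingleton (Coh.HH X (CohB1.tensorMod N (CohB1.tensorPow L n)) p) := fun N hN n p hp =>
    hd _ (Ega3B.CohTensor.isCoh_tensor hN (Fdesc.LocGen.isInvertible_tensorPow hL n)).1 p hp
  have key : ∀ p : ℕ, 0 < p → ∃ n₀ : ℕ, ∀ n : ℕ, n₀ ≤ n →
      Subsingleton (Coh.HH X (CohB1.tensorMod M (CohB1.tensorPow L n)) p) := fun p hp =>
    LocBaseEngine.engine (IsLocalRing.maximalIdeal A) (IsLocalRing.maximalIdeal_le_jacobson _)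
      (setup hfin L hL) 0 ⟨d, fun p hp N hN => ⟨0, fun n _ => hvan N hN n p hp⟩⟩
      (fun N hN hk p hp => by
        obtain ⟨n₀, h⟩ := SerLocFib.ev_of_killed f hL hS N hN hk
        exact ⟨n₀, fun n hn => h n hn p hp⟩) M hM p hp
  choose! g hg using key
  refine ⟨(Finset.range d).sup g, fun n hn p hp => ?_⟩
  by_cases h : p < d
  · exact hg p hp n (le_trans (Finset.le_sup (f := g) (Finset.mem_range.mpr h)) hn)
  · exact hvan M hM n p (not_lt.mp h)

end Groth.Agent.CohqB.SerLocal
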