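import Mathlib.LinearAlgebra.SymmetricAlgebra.Basic
import Mathlib.RingTheory.Localization.Away.Basic
import Mathlib.Tactic.Ring

/-!
# Semilinear functoriality of symmetric algebras, and localization
-/

set_option autoImplicit false
universe u v w

namespace Groth.Agent.CohqB.SymLoc

section desc

variable {R : Type u} {M : Type v} {B : Type w} [CommRing R] [AddCommGroup M] [Module R M]
  [CommRing B]

/-- Ring maps out of a symmetric algebra. -/
noncomputable def desc (σ : R →+* B) (g : M →+ B) (hg : ∀ r m, g (r • m) = σ r * g m) :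
    SymmetricAlgebra R M →+* B :=
  letI := σ.toAlgebra
  (SymmetricAlgebra.lift (R := R) (A := B)
    { toFun := g, map_add' := g.map_add, map_smul' := fun r m => by
        rw [hg, Algebra.smul_def]; rfl }).toRingHom

theorem desc_algebraMap (σ : R →+* B) (g : M →+ B) (hg : ∀ r m, g (r • m) = σ r * g m) (r : R) :
    desc σ g hg (algebraMap R (SymmetricAlgebra R M) r) = σ r := by
  let _ := σ.toAlgebra
  exact AlgHom.commutes (SymmetricAlgebra.lift (R := R) (A := B)
    { toFun := g, map_add' := g.map_add, map_smul' := fun r m => by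
        rw [hg, Algebra.smul_def]; rfl }) r

theorem desc_ι (σ : R →+* B) (g : M →+ B) (hg : ∀ r m, g (r • m) = σ r * g m) (m : M) :
    desc σ g hg (SymmetricAlgebra.ι R M m) = g m := by
  let _ := σ.toAlgebra
  exact SymmetricAlgebra.lift_ι_apply (R := R) (A := B)
    { toFun := g, map_add' := g.map_add, map_smul' := fun r m => by
        rw [hg, Algebra.smul_def]; rfl } m

theorem ringHom_ext {φ ψ : SymmetricAlgebra R M →+* B}
    (h1 : ∀ r, φ (algebraMap R _ r) = ψ (algebraMap R _ r))
    (h2 : ∀ m, φ (SymmetricAlgebra.ι R M m) = ψ (SymmetricAlgebra.ι R M m)) : φ = ψ := by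
  refine RingHom.ext fun x => ?_
  induction x using SymmetricAlgebra.induction with
  | algebraMap r => exact h1 r
  | ι m => exact h2 m
  | mul a b ha hb => rw [map_mul, map_mul, ha, hb]
  | add a b ha hb => rw [map_add, map_add, ha, hb]

end desc

section map

variable {R : Type u} {M : Type v} [CommRing R] [AddCommGroup M] [Module R M]
  {R' : Type u} {M' : Type v} [CommRing R'] [AddCommGroup M'] [Module R' M']
  {R'' : Type u} {M'' : Type v} [CommRing R''] [AddCommGroup M''] [Module R'' M'']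

/-- Functoriality. -/
noncomputable def symMap (σ : R →+* R') (g : M →+ M') (hg : ∀ r m, g (r • m) = σ r • g m) :
    SymmetricAlgebra R M →+* SymmetricAlgebra R' M' :=
  desc ((algebraMap R' _).comp σ) ((SymmetricAlgebra.ι R' M').toAddMonoidHom.comp g) (by
    intro r m
    simp only [AddMonoidHom.coe_comp, Function.comp_apply, LinearMap.toAddMonoidHom_coe,
      RingHom.coe_comp]
    rw [hg, map_smul, Algebra.smul_def])

@[simp]
theorem symMap_algebraMap (σ : R →+* R') (g : M →+ M') (hg : ∀ r m, g (r • m) = σ r • g m) (r : R) :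
    symMap σ g hg (algebraMap R _ r) = algebraMap R' _ (σ r) := desc_algebraMap _ _ _ _

@[simp]
theorem symMap_ι (σ : R →+* R') (g : M →+ M') (hg : ∀ r m, g (r • m) = σ r • g m) (m : M) :
    symMap σ g hg (SymmetricAlgebra.ι R M m) = SymmetricAlgebra.ι R' M' (g m) := desc_ι _ _ _ _

section localization

variable {L : Type w} [CommRing L] (σ : R →+* R') (g : M →+ M')
  (hg : ∀ r m, g (r • m) = σ r • g m) (f : R)
  (hM : ∀ m' : M', ∃ (n : ℕ) (m : M), g m = σ f ^ n • m')
  (hM0 : ∀ m : M, g m = 0 → ∃ n : ℕ, f ^ n • m = 0)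
  (ρ : R →+* L) (h : M →+ L) (hh : ∀ r m, h (r • m) = ρ r * h m) (hu : IsUnit (ρ f))

include hg hM hM0 hh hu in
/-- Extension of a semilinear map to the localization of a module. -/
theorem exists_extend : ∃ G : M' →+ L, (∀ m, G (g m) = h m) ∧
    ∀ r m', G (σ r • m') = ρ r * G m' := by
  have hcan : ∀ (n : ℕ) {a b : L}, ρ f ^ n * a = ρ f ^ n * b → a = b :=
    fun n a b h => (hu.pow n).mul_left_cancel h
  have hg' : ∀ (n : ℕ) (m : M), g (f ^ n • m) = σ f ^ n • g m := by
    intro n m; rw [hg, map_pow]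
  have hh' : ∀ (n : ℕ) (m : M), h (f ^ n • m) = ρ f ^ n * h m := by
    intro n m; rw [hh, map_pow]
  have key : ∀ m' : M', ∃ l : L, ∀ (n : ℕ) (m : M), g m = σ f ^ n • m' → h m = ρ f ^ n * l := by
    intro m'
    obtain ⟨n0, m0, h0⟩ := hM m'
    obtain ⟨c, hc⟩ := (hu.pow n0).exists_right_inv
    refine ⟨c * h m0, fun n m hm => ?_⟩
    have h1 : g (f ^ n0 • m - f ^ n • m0) = 0 := by
      rw [map_sub, hg', hg', h0, hm, smul_smul, smul_smul, mul_comm, sub_self]
    obtain ⟨k, hk⟩ := hM0 _ h1
    have h2 : h (f ^ k • (f ^ n0 • m - f ^ n • m0)) = 0 := by rw [hk, map_zero]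
    rw [hh', map_sub, hh', hh'] at h2
    have h3 : ρ f ^ n0 * h m = ρ f ^ n * h m0 := by
      apply sub_eq_zero.1
      exact hcan k (h2.trans (mul_zero _).symm)
    apply hcan n0
    rw [h3]
    calc ρ f ^ n * h m0 = ρ f ^ n * ((ρ f ^ n0 * c) * h m0) := by rw [hc, one_mul]
      _ = _ := by ring
  choose G hG using key
  have huniq : ∀ m' (n : ℕ) (m : M) (l : L), g m = σ f ^ n • m' → h m = ρ f ^ n * l → G m' = l := by
    intro m' n m l h1 h2
    exact hcan n ((hG m' n m h1).symm.trans h2)
  refine ⟨⟨⟨G, ?_⟩, ?_⟩, ?_, ?_⟩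
  · exact huniq 0 0 0 0 (by simp) (by simp)
  · intro x y
    obtain ⟨n, a, ha⟩ := hM x
    obtain ⟨m, b, hb⟩ := hM y
    refine huniq (x + y) (n + m) (f ^ m • a + f ^ n • b) _ ?_ ?_
    · rw [map_add, hg', hg', ha, hb, smul_smul, smul_smul, smul_add, pow_add, mul_comm (σ f ^ m)]
    · rw [map_add, hh', hh', hG x n a ha, hG y m b hb]
      ring
  · intro m
    exact huniq _ 0 m _ (by simp) (by simp)
  · intro r m'
    obtain ⟨n, a, ha⟩ := hM m'
    refine huniq _ n (r • a) _ ?_ ?_
    · rw [hg, ha, smul_smul, smul_smul, mul_comm]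
    · rw [hh]
      change ρ r * h a = ρ f ^ n * (ρ r * G m')
      rw [hG m' n a ha]
      ring

include hM hM0 in
/-- Localization of symmetric algebras. -/
theorem isLocalization_symMap (hσu : IsUnit (σ f))
    (hσ : ∀ r' : R', ∃ (n : ℕ) (r : R), σ r = σ f ^ n * r')
    (hσ0 : ∀ r, σ r = 0 → ∃ n : ℕ, f ^ n * r = 0) :
    letI := (symMap σ g hg).toAlgebra
    IsLocalization.Away (algebraMap R (SymmetricAlgebra R M) f) (SymmetricAlgebra R' M') := by
  let alg := (symMap σ g hg).toAlgebra
  have halg : ∀ x, algebraMap (SymmetricAlgebra R M) (SymmetricAlgebra R' M') x =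
    symMap σ g hg x := fun _ => rfl
  let L := Localization.Away (algebraMap R (SymmetricAlgebra R M) f)
  let j : SymmetricAlgebra R M →+* L := algebraMap _ L
  have hju : IsUnit (j (algebraMap R _ f)) :=
    IsLocalization.Away.algebraMap_isUnit (algebraMap R (SymmetricAlgebra R M) f)
  obtain ⟨Λ, hΛ1, hΛ2⟩ := exists_extend (M := R) (M' := R') σ σ.toAddMonoidHom
    (fun r m => by simp) f (fun r' => hσ r') (fun r hr => hσ0 r hr)
    (j.comp (algebraMap R _)) (j.comp (algebraMap R _)).toAddMonoidHom (fun r m => by simp) hju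
  obtain ⟨G, hG1, hG2⟩ := exists_extend (M := M) (M' := M') σ g hg f hM hM0
    (j.comp (algebraMap R _)) (j.toAddMonoidHom.comp (SymmetricAlgebra.ι R M).toAddMonoidHom)
    (fun r m => by simp [Algebra.smul_def]) hju
  have hcan : ∀ (n : ℕ) {a b : L}, j (algebraMap R _ f) ^ n * a = j (algebraMap R _ f) ^ n * b → a = b :=
    fun n a b h => (hju.pow n).mul_left_cancel h
  have hΛ1' : ∀ r, Λ (σ r) = j (algebraMap R _ r) := fun r => hΛ1 r
  have hΛ2' : ∀ r r', Λ (σ r * r') = j (algebraMap R _ r) * Λ r' := fun r r' => hΛ2 r r'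
  have hG2' : ∀ r m', G (σ r • m') = j (algebraMap R _ r) * G m' := fun r m' => hG2 r m'
  let ΛR : R' →+* L :=
    { Λ with
      map_one' := by
        have h1 := hΛ1' 1
        rw [map_one σ, map_one (algebraMap R _), map_one j] at h1
        exact h1
      map_mul' := fun x y => by
        change Λ (x * y) = Λ x * Λ y
        obtain ⟨n, a, ha⟩ := hσ x
        apply hcan n
        have h1 : j (algebraMap R _ f) ^ n * Λ (x * y) = Λ (σ (f ^ n) * (x * y)) := by
          rw [hΛ2', map_pow, map_pow]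
        have h2 : j (algebraMap R _ f) ^ n * (Λ x * Λ y) = Λ (σ (f ^ n) * x) * Λ y := by
          rw [hΛ2', map_pow, map_pow, mul_assoc]
        rw [h1, h2, map_pow, ← mul_assoc, ← ha, hΛ2', hΛ1'] }
  have hΛR : ∀ r, ΛR (σ r) = j (algebraMap R _ r) := hΛ1'
  let D : SymmetricAlgebra R' M' →+* L := desc ΛR G (by
    intro r' m'
    obtain ⟨n, a, ha⟩ := hσ r'
    apply hcan n
    have h1 : j (algebraMap R _ f) ^ n * G (r' • m') = G (σ (f ^ n) • r' • m') := by
      rw [hG2', map_pow, map_pow]
    have h2 : j (algebraMap R _ f) ^ n * (ΛR r' * G m') = ΛR (σ (f ^ n) * r') * G m' := by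
      rw [map_mul, hΛR, map_pow, map_pow, mul_assoc]
    rw [h1, h2, smul_smul, map_pow, ← ha, hG2', hΛR])
  have hD : ∀ x, D (symMap σ g hg x) = j x := by
    intro x
    have : D.comp (symMap σ g hg) = j := by
      apply ringHom_ext
      · intro r
        rw [RingHom.comp_apply, symMap_algebraMap, desc_algebraMap, hΛR]
      · intro m
        rw [RingHom.comp_apply, symMap_ι, desc_ι]
        exact hG1 m
    exact congr($this x)
  refine IsLocalization.Away.mk _ ?_ ?_ ?_
  · rw [halg, symMap_algebraMap]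
    exact hσu.map _
  · intro x
    induction x using SymmetricAlgebra.induction with
    | algebraMap r' =>
      obtain ⟨n, a, ha⟩ := hσ r'
      refine ⟨n, algebraMap R _ a, ?_⟩
      rw [halg, halg, symMap_algebraMap, symMap_algebraMap, ← map_pow, ← map_mul, ha, mul_comm]
    | ι m' =>
      obtain ⟨n, a, ha⟩ := hM m'
      refine ⟨n, SymmetricAlgebra.ι R M a, ?_⟩
      rw [halg, halg, symMap_algebraMap, symMap_ι, ha, map_smul, ← map_pow, Algebra.smul_def,
        mul_comm]
    | mul x y hx hy =>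
      obtain ⟨n, a, ha⟩ := hx
      obtain ⟨m, b, hb⟩ := hy
      refine ⟨n + m, a * b, ?_⟩
      rw [map_mul, ← ha, ← hb, pow_add]
      ring
    | add x y hx hy =>
      obtain ⟨n, a, ha⟩ := hx
      obtain ⟨m, b, hb⟩ := hy
      refine ⟨n + m, (algebraMap R _ f) ^ m * a + (algebraMap R _ f) ^ n * b, ?_⟩
      rw [map_add, map_mul, map_mul, map_pow, map_pow, ← ha, ← hb, pow_add]
      ring
  · intro x y hxy
    have h1 : j x = j y := by rw [← hD, ← hD]; exact congrArg D hxy
    obtain ⟨n, hn⟩ := IsLocalization.Away.exists_of_eq (algebraMap R (SymmetricAlgebra R M) f) h1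
    exact ⟨n, hn⟩

end localization

end map

end Groth.Agent.CohqB.SymLoc
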