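import Groth.Agent.CohqB.SerTw
import Groth.Agent.CohqB.LocBaseHH

/-!
# Eventual vanishing of `H^p` of the twists of a module

`Ev L p F`: `H^p(X, F ⊗ L^n) = 0` for all large `n`.
-/

set_option autoImplicit false
universe u

open CategoryTheory CategoryTheory.Limits AlgebraicGeometry Opposite TopologicalSpace

namespace Groth.Agent.CohqB.VanTw

open Groth.Agent.CohqB.LocBaseHH Groth.Agent.CohqB.SerTw

variable {X : Scheme.{u}}

/-- Eventual vanishing of `H^p` of the twists of `F` by the powers of `L`. -/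
def Ev (L : X.Modules) (p : ℕ) (F : X.Modules) : Prop :=
  ∃ n₀ : ℕ, ∀ n, n₀ ≤ n → Subsingleton (Coh.HH X (CohB1.tensorMod F (CohB1.tensorPow L n)) p)

theorem Ev.of_iso {L : X.Modules} {p : ℕ} {F G : X.Modules} (e : F ≅ G) (h : Ev L p F) :
    Ev L p G := by
  obtain ⟨n₀, h⟩ := h
  exact ⟨n₀, fun n hn => subsingleton_of_iso ((tw (CohB1.tensorPow L n)).mapIso e) p (h n hn)⟩

theorem subsingleton_of_isZero {M : X.Modules} (h : IsZero M) (p : ℕ) :
    Subsingleton (Coh.HH X M p) := by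
  refine subsingleton_of_forall_eq 0 fun x => ?_
  rw [← hmap_id p x, (IsZero.iff_id_eq_zero M).mp h, hmap_zero]

theorem Ev.of_isZero {L : X.Modules} {p : ℕ} {F : X.Modules} (h : IsZero F) : Ev L p F :=
  ⟨0, fun n _ => subsingleton_of_isZero ((tw (CohB1.tensorPow L n)).map_isZero h) p⟩

theorem Ev.middle {L : X.Modules} (hL : PicF.IsInvertible L) {p : ℕ} {S : ShortComplex X.Modules}
    (hS : S.ShortExact) (h₁ : Ev L p S.X₁) (h₃ : Ev L p S.X₃) : Ev L p S.X₂ := by
  obtain ⟨n₁, h₁⟩ := h₁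
  obtain ⟨n₃, h₃⟩ := h₃
  refine ⟨max n₁ n₃, fun n hn => ?_⟩
  have hN : PicF.IsInvertible (CohB1.tensorPow L n) := Fdesc.LocGen.isInvertible_tensorPow hL n
  exact subsingleton_middle (shortExact_tw hN hS) p (h₁ n (le_trans (le_max_left _ _) hn))
    (h₃ n (le_trans (le_max_right _ _) hn))

theorem Ev.right {L : X.Modules} (hL : PicF.IsInvertible L) {p : ℕ} {S : ShortComplex X.Modules}
    (hS : S.ShortExact) (h₂ : Ev L p S.X₂) (h₁ : Ev L (p + 1) S.X₁) : Ev L p S.X₃ := by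
  obtain ⟨n₂, h₂⟩ := h₂
  obtain ⟨n₁, h₁⟩ := h₁
  refine ⟨max n₁ n₂, fun n hn => ?_⟩
  have hN : PicF.IsInvertible (CohB1.tensorPow L n) := Fdesc.LocGen.isInvertible_tensorPow hL n
  have hsurj := hmap_surjective_of_next_subsingleton (shortExact_tw hN hS) p
    (h₁ n (le_trans (le_max_left _ _) hn))
  have := h₂ n (le_trans (le_max_right _ _) hn)
  refine subsingleton_of_forall_eq 0 fun x => ?_
  obtain ⟨y, rfl⟩ := hsurj x
  rw [show y = 0 from Subsingleton.elim (h := this) _ _]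
  exact map_zero (hmap (S.map (tw (CohB1.tensorPow L n))).g p)

end Groth.Agent.CohqB.VanTw
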